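import Mathlib
import Cfsg.Agent.Helper59.SubspaceCount

/-!
# (R2) for S2140: a subgroup of `SL_n(F)` stabilising a proper nonzero subspace has index at least
the number of points `(q^n - 1)/(q - 1)`.
-/

set_option autoImplicit false

namespace Cfsg.Agent.Helper35.MinDeg

open Matrix Module

variable {F : Type*} [Field F] {n : ℕ}

/-- the dilatation `1 + u wᵀ` has determinant `1 + w ⬝ᵥ u` -/
theorem r2_det_dil (u w : Fin n → F) : det (1 + vecMulVec u w) = 1 + w ⬝ᵥ u := by
  rw [vecMulVec_eq Unit, det_one_add_replicateCol_mul_replicateRow]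

/-- the dilatation `1 + u wᵀ` fixes the kernel of `w` pointwise -/
theorem r2_dil_mulVec (u w x : Fin n → F) (hx : w ⬝ᵥ x = 0) :
    (1 + vecMulVec u w) *ᵥ x = x := by
  rw [add_mulVec, one_mulVec, vecMulVec_mulVec, hx]
  simp

/-- the image of a subspace under an element of `SL_n` -/
noncomputable def r2img (g : SpecialLinearGroup (Fin n) F) (W : Submodule F (Fin n → F)) :
    Submodule F (Fin n → F) :=
  W.map ((SpecialLinearGroup.toLin' g : (Fin n → F) ≃ₗ[F] (Fin n → F)) :
    (Fin n → F) →ₗ[F] (Fin n → F))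

theorem r2_mem_img (g : SpecialLinearGroup (Fin n) F) (W : Submodule F (Fin n → F))
    (y : Fin n → F) : y ∈ r2img g W ↔ ∃ x ∈ W, g.1 *ᵥ x = y := by
  unfold r2img
  rw [Submodule.mem_map]
  constructor
  · rintro ⟨x, hx, rfl⟩
    exact ⟨x, hx, rfl⟩
  · rintro ⟨x, hx, rfl⟩
    exact ⟨x, hx, rfl⟩

theorem r2_val_mul (g h : SpecialLinearGroup (Fin n) F) : (g * h).1 = g.1 * h.1 := rfl

theorem r2_val_one : (1 : SpecialLinearGroup (Fin n) F).1 = 1 := rfl

theorem r2_finrank_img (g : SpecialLinearGroup (Fin n) F) (W : Submodule F (Fin n → F)) :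
    finrank F (r2img g W) = finrank F W :=
  LinearEquiv.finrank_map_eq _ W

theorem r2_img_mul (g h : SpecialLinearGroup (Fin n) F) (W : Submodule F (Fin n → F)) :
    r2img (g * h) W = r2img g (r2img h W) := by
  ext y
  rw [r2_mem_img, r2_mem_img]
  constructor
  · rintro ⟨x, hx, rfl⟩
    refine ⟨h.1 *ᵥ x, (r2_mem_img h W _).mpr ⟨x, hx, rfl⟩, ?_⟩
    rw [r2_val_mul, mulVec_mulVec]
  · rintro ⟨x', hx', rfl⟩
    obtain ⟨x, hx, rfl⟩ := (r2_mem_img h W _).mp hx'
    refine ⟨x, hx, ?_⟩
    rw [r2_val_mul, mulVec_mulVec]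

theorem r2_img_mono (g : SpecialLinearGroup (Fin n) F) {W W' : Submodule F (Fin n → F)}
    (h : W ≤ W') : r2img g W ≤ r2img g W' :=
  Submodule.map_mono h

theorem r2_img_one (W : Submodule F (Fin n → F)) :
    r2img (1 : SpecialLinearGroup (Fin n) F) W = W := by
  ext y
  rw [r2_mem_img]
  constructor
  · rintro ⟨x, hx, rfl⟩
    rw [r2_val_one, one_mulVec]; exact hx
  · intro hy
    exact ⟨y, hy, by rw [r2_val_one, one_mulVec]⟩

/-- `SL_n` is transitive on the subspaces of a given dimension `< n`. -/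
theorem r2_trans (W W' : Submodule F (Fin n → F)) (hW' : W' ≠ ⊤)
    (hfr : finrank F W = finrank F W') :
    ∃ g : SpecialLinearGroup (Fin n) F, r2img g W = W' := by
  let f : W ≃ₗ[F] W' := LinearEquiv.ofFinrankEq W W' hfr
  obtain ⟨e, he⟩ := Submodule.exists_linearEquiv_restrict_eq f
  set E : Matrix (Fin n) (Fin n) F := LinearMap.toMatrix' (e : (Fin n → F) →ₗ[F] (Fin n → F))
    with hEdef
  have hE : ∀ x, E *ᵥ x = e x := by
    intro x
    rw [← Matrix.toLin'_apply, hEdef, Matrix.toLin'_toMatrix']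
    rfl
  have hdet : E.det ≠ 0 := by
    rw [hEdef, LinearMap.det_toMatrix']
    exact (LinearEquiv.isUnit_det' e).ne_zero
  obtain ⟨φ, hφ0, hφ⟩ := W'.exists_le_ker_of_lt_top (lt_top_iff_ne_top.mpr hW')
  obtain ⟨v₀, hv₀⟩ : ∃ v, φ v ≠ 0 := by
    by_contra hcon
    push Not at hcon
    exact hφ0 (LinearMap.ext hcon)
  let w : Fin n → F := fun i => φ (fun j => if i = j then 1 else 0)
  have hw : ∀ x, w ⬝ᵥ x = φ x := by
    intro x
    rw [LinearMap.pi_apply_eq_sum_univ φ x]
    simp only [dotProduct, w, smul_eq_mul, mul_comm]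
  let u : Fin n → F := ((E.det⁻¹ - 1) * (φ v₀)⁻¹) • v₀
  have hwu : w ⬝ᵥ u = E.det⁻¹ - 1 := by
    rw [hw, map_smul, smul_eq_mul, mul_assoc, inv_mul_cancel₀ hv₀, mul_one]
  have hU : (1 + vecMulVec u w).det = E.det⁻¹ := by
    rw [r2_det_dil, hwu]; ring
  have hdet1 : ((1 + vecMulVec u w) * E).det = 1 := by
    rw [det_mul, hU, inv_mul_cancel₀ hdet]
  let g : SpecialLinearGroup (Fin n) F := ⟨(1 + vecMulVec u w) * E, hdet1⟩
  refine ⟨g, ?_⟩
  apply Submodule.eq_of_le_of_finrank_eq
  · intro y hy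
    obtain ⟨x, hx, rfl⟩ := (r2_mem_img g W y).mp hy
    show ((1 + vecMulVec u w) * E) *ᵥ x ∈ W'
    have hex : e x ∈ W' := by
      have := he ⟨x, hx⟩
      rw [← this]
      exact (f ⟨x, hx⟩).2
    rw [← mulVec_mulVec, hE, r2_dil_mulVec _ _ _ (by rw [hw]; exact hφ hex)]
    exact hex
  · rw [r2_finrank_img, hfr]

/-- the arithmetic: the number of `k`-subspaces is at least the number of points -/
theorem r2_arith (q n k N : ℕ) (hq : 2 ≤ q) (hk : 1 ≤ k) (hkn : k < n)
    (hN : N * ∏ j ∈ Finset.range k, (q ^ (k - j) - 1) = ∏ j ∈ Finset.range k, (q ^ (n - j) - 1)) :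
    ∑ i ∈ Finset.range n, q ^ i ≤ N := by
  obtain ⟨m, rfl⟩ : ∃ m, k = m + 1 := ⟨k - 1, by omega⟩
  have hpos : ∀ e : ℕ, 1 ≤ e → 1 ≤ q ^ e - 1 := by
    intro e he
    have : q ^ 1 ≤ q ^ e := Nat.pow_le_pow_right (by omega) he
    rw [pow_one] at this
    omega
  -- split the products
  rw [Finset.prod_range_succ, Finset.prod_range_succ'] at hN
  have e1 : m + 1 - m = 1 := by omega
  rw [e1, pow_one, Nat.sub_zero] at hN
  have hle : ∏ j ∈ Finset.range m, (q ^ (m + 1 - j) - 1) ≤
      ∏ j ∈ Finset.range m, (q ^ (n - (j + 1)) - 1) := by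
    apply Finset.prod_le_prod
    · intro j _; exact Nat.zero_le _
    · intro j hj
      rw [Finset.mem_range] at hj
      apply Nat.sub_le_sub_right
      apply Nat.pow_le_pow_right (by omega)
      omega
  have hApos : 0 < ∏ j ∈ Finset.range m, (q ^ (m + 1 - j) - 1) := by
    apply Finset.prod_pos
    intro j hj
    rw [Finset.mem_range] at hj
    exact hpos _ (by omega)
  -- geometric sum
  have hgeo : (q - 1) * ∑ i ∈ Finset.range n, q ^ i = q ^ n - 1 := by
    have := Nat.geomSum_eq hq n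
    have hdvd : q - 1 ∣ q ^ n - 1 := by
      simpa using Nat.sub_dvd_pow_sub_pow q 1 n
    rw [this, Nat.mul_div_cancel' hdvd]
  set A := ∏ j ∈ Finset.range m, (q ^ (m + 1 - j) - 1) with hA
  set B := ∏ j ∈ Finset.range m, (q ^ (n - (j + 1)) - 1) with hB
  set S := ∑ i ∈ Finset.range n, q ^ i with hS
  -- N * (A * (q - 1)) = B * (q^n - 1) = B * (q - 1) * S
  have h1 : N * (A * (q - 1)) = B * ((q - 1) * S) := by rw [hgeo]; exact hN
  have hq1 : 0 < q - 1 := by omega
  have h2 : N * A = B * S := by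
    apply Nat.eq_of_mul_eq_mul_right hq1
    calc N * A * (q - 1) = N * (A * (q - 1)) := by ring
      _ = B * ((q - 1) * S) := h1
      _ = B * S * (q - 1) := by ring
  have h3 : A * S ≤ A * N := by
    calc A * S ≤ B * S := Nat.mul_le_mul_right _ hle
      _ = N * A := h2.symm
      _ = A * N := mul_comm _ _
  exact Nat.le_of_mul_le_mul_left h3 hApos

/-- (R2) a subgroup stabilising a proper nonzero subspace has index at least the number of
points. -/
theorem index_ge_of_invariant [Fintype F] (hn : 2 ≤ n) (H : Subgroup (SpecialLinearGroup (Fin n) F))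
    (W : Submodule F (Fin n → F)) (hW0 : W ≠ ⊥) (hW1 : W ≠ ⊤)
    (hinv : ∀ g ∈ H, ∀ w ∈ W, g.1 *ᵥ w ∈ W) :
    ∑ i ∈ Finset.range n, Fintype.card F ^ i ≤ H.index := by
  classical
  set k := finrank F W with hk
  have hVn : finrank F (Fin n → F) = n := by simp
  have hk1 : 1 ≤ k := by
    rw [hk, Nat.one_le_iff_ne_zero, Ne, Submodule.finrank_eq_zero]
    exact hW0
  have hkn : k < n := by
    have hle : k ≤ n := by
      have := Submodule.finrank_le W
      rw [hVn] at this
      exact this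
    rcases Nat.lt_or_ge k n with h | h
    · exact h
    · exfalso
      apply hW1
      apply Submodule.eq_top_of_finrank_eq
      rw [hVn]; omega
  -- elements of `H` fix `W`
  have hHW : ∀ h ∈ H, r2img h W = W := by
    intro h hh
    have hle : ∀ h' ∈ H, r2img h' W ≤ W := by
      intro h' hh' y hy
      obtain ⟨x, hx, rfl⟩ := (r2_mem_img h' W y).mp hy
      exact hinv h' hh' x hx
    apply le_antisymm (hle h hh)
    have h1 := r2_img_mono h (hle h⁻¹ (H.inv_mem hh))
    rw [← r2_img_mul, mul_inv_cancel, r2_img_one] at h1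
    exact h1
  -- an injection from the `k`-subspaces into the cosets of `H`
  have hex : ∀ W' : {W' : Submodule F (Fin n → F) // finrank F W' = k},
      ∃ g : SpecialLinearGroup (Fin n) F, r2img g W = W'.1 := by
    intro W'
    apply r2_trans W W'.1 _ (by rw [W'.2])
    intro htop
    have := W'.2
    rw [htop, finrank_top, hVn] at this
    omega
  choose γ hγ using hex
  have hinj : Function.Injective
      (fun W' : {W' : Submodule F (Fin n → F) // finrank F W' = k} =>
        (QuotientGroup.mk (γ W') : SpecialLinearGroup (Fin n) F ⧸ H)) := by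
    intro W₁ W₂ h12
    have h12' : (γ W₁)⁻¹ * γ W₂ ∈ H := QuotientGroup.eq.mp h12
    apply Subtype.ext
    rw [← hγ W₁, ← hγ W₂]
    have : γ W₂ = γ W₁ * ((γ W₁)⁻¹ * γ W₂) := by group
    rw [this, r2_img_mul, hHW _ h12']
  have hcard := Nat.card_le_card_of_injective _ hinj
  have hidx : Nat.card (SpecialLinearGroup (Fin n) F ⧸ H) = H.index := rfl
  rw [hidx] at hcard
  refine le_trans ?_ hcard
  have hcount := Cfsg.Agent.Helper59.SubCount.card_subspaces_mul' (F := F) (V := Fin n → F) k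
    (by rw [hVn]; omega)
  rw [hVn, Fin.prod_univ_eq_prod_range (fun j => Fintype.card F ^ (k - j) - 1) k,
    Fin.prod_univ_eq_prod_range (fun j => Fintype.card F ^ (n - j) - 1) k] at hcount
  exact r2_arith (Fintype.card F) n k _ Fintype.one_lt_card hk1 hkn hcount

end Cfsg.Agent.Helper35.MinDeg
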