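import Mathlib
import Cfsg.Agent.Helper5.SuBN.Defs

/-!
# Piece (LAM) of S2546 (helper5): an element of trace `-1` in the field with `q²` elements
-/

set_option autoImplicit false

namespace Cfsg.Agent.Helper35.SuBNLAM

open Matrix Cfsg.Agent.Helper5.SuBN

variable {F : Type*} [Field F] {n : ℕ} {σ : F →+* F}

/-- the `q`-power map as a ring endomorphism of the field with `q²` elements -/
theorem exists_frob [Fintype F] (q : ℕ) (hF : Fintype.card F = q ^ 2) :
    ∃ σ : F →+* F, (∀ x, σ x = x ^ q) ∧ (∀ x, σ (σ x) = x) := by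
  obtain ⟨p, hp⟩ := CharP.exists F
  obtain ⟨m, hpp, hm⟩ := FiniteField.card F p
  have hq : q ∣ p ^ (m : ℕ) := by
    rw [← hm, hF]; exact Dvd.intro_left (q ^ 1) (by ring)
  obtain ⟨f, _, hf⟩ := (Nat.dvd_prime_pow hpp).1 hq
  have _ : Fact p.Prime := ⟨hpp⟩
  have _ : ExpChar F p := ExpChar.prime hpp
  refine ⟨iterateFrobenius F p f, ?_, ?_⟩
  · intro x; rw [iterateFrobenius_def, hf]
  · intro x
    rw [iterateFrobenius_def, iterateFrobenius_def, ← hf, ← pow_mul, ← sq, ← hF,
      FiniteField.pow_card]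

theorem two_le_of_card [Fintype F] (q : ℕ) (hF : Fintype.card F = q ^ 2) : 2 ≤ q := by
  have h1 : 1 < Fintype.card F := Fintype.one_lt_card
  rw [hF] at h1
  by_contra h
  push Not at h
  interval_cases q <;> simp at h1

/-- some `x` with `x ^ q + x ≠ 0` -/
theorem exists_trace_ne_zero [Fintype F] (q : ℕ) (hF : Fintype.card F = q ^ 2) :
    ∃ x : F, x ^ q + x ≠ 0 := by
  classical
  have hq2 := two_le_of_card q hF
  by_contra hcon
  push Not at hcon
  have hdeg : (Polynomial.X ^ q + Polynomial.X : Polynomial F).natDegree = q := by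
    rw [Polynomial.natDegree_add_eq_left_of_natDegree_lt, Polynomial.natDegree_X_pow]
    rw [Polynomial.natDegree_X_pow, Polynomial.natDegree_X]
    omega
  have hne : (Polynomial.X ^ q + Polynomial.X : Polynomial F) ≠ 0 := by
    intro h
    rw [h, Polynomial.natDegree_zero] at hdeg
    omega
  have hsub : (Finset.univ : Finset F).val ⊆ (Polynomial.X ^ q + Polynomial.X : Polynomial F).roots := by
    intro x _
    rw [Polynomial.mem_roots hne, Polynomial.IsRoot.def]
    simpa using hcon x
  have h := Polynomial.card_le_degree_of_subset_roots hsub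
  rw [hdeg, Finset.card_univ, hF] at h
  nlinarith

theorem exists_lambda [Fintype F] (q : ℕ) (hF : Fintype.card F = q ^ 2) :
    ∃ l : F, l + l ^ q = -1 := by
  obtain ⟨τ, hτ, hττ⟩ := exists_frob q hF
  obtain ⟨x, hx⟩ := exists_trace_ne_zero q hF
  have hT : τ (x ^ q + x) = x ^ q + x := by
    rw [map_add, ← hτ x, hττ x, add_comm]
  refine ⟨-x / (x ^ q + x), ?_⟩
  rw [← hτ (-x / (x ^ q + x)), map_div₀, map_neg, hT, hτ x]
  field_simp
  ring

end Cfsg.Agent.Helper35.SuBNLAM
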