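import Mathlib
import Cfsg.Agent.S1445
import Cfsg.Agent.Helper62.FrobActComm
import Cfsg.Agent.Helper62.CoprimeHall
import Cfsg.Agent.Helper64.BG126
import Cfsg.Agent.Helper1.CoprimeAction
import Cfsg.Agent.Helper1.SZ

/-!
# Bender-Glauberman Corollary 15.3, abstract core (helper35), part A

`X = L ⋊ K` finite solvable of odd order, `L` a normal Hall subgroup, `K` acting in a prime manner
with `C = C_L(K)` of prime order `q`, `[L, K] = L`, `L` not nilpotent.  Part A: `C ≤ Q := O_q(L)`,
`Q` is normal in `X`, and `K` acts without fixed points on `L / Q`, which is therefore nilpotent.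
-/

set_option autoImplicit false
set_option linter.unusedSectionVars false
set_option linter.style.haveILetI false

namespace Cfsg.Agent.Helper35.BG153

open Subgroup Cfsg

variable {X : Type*} [Group X] [Finite X]

/-- the hypotheses of the abstract core of B-G Corollary 15.3 -/
structure Hyp (L K : Subgroup X) (q : ℕ) : Prop where
  solv : Group.IsSolvable X
  odd : Odd (Nat.card X)
  normal : L.Normal
  sup : L ⊔ K = ⊤
  cop : (Nat.card L).Coprime (Nat.card K)
  K_ne : K ≠ ⊥
  prime_act : ∀ x ∈ K, x ≠ 1 →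
    L ⊓ centralizer ({x} : Set X) = L ⊓ centralizer (K : Set X)
  q_prime : q.Prime
  card_C : Nat.card ↥(L ⊓ centralizer (K : Set X)) = q
  comm : ⁅L, K⁆ = L
  not_nil : ¬ Group.IsNilpotent L

/-- `Q = O_q(L)` as a subgroup of `X` -/
abbrev Qof (L : Subgroup X) (q : ℕ) : Subgroup X := Cfsg.Agent.Helper64.BG126.opOf q L

variable {L K : Subgroup X} {q : ℕ}

theorem Qof_le (L : Subgroup X) (q : ℕ) : Qof L q ≤ L := Cfsg.Agent.Helper64.BG126.opOf_le q L

theorem Qof_normal (hL : L.Normal) (q : ℕ) : (Qof L q).Normal := by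
  rw [← Subgroup.normalizer_eq_top_iff]
  have h1 : Subgroup.normalizer (L : Set X) ≤ Subgroup.normalizer ((Qof L q : Subgroup X) : Set X) :=
    Cfsg.Agent.Helper53.char_map_normalizer_le L _ (Cfsg.Agent.Lib.pCore_characteristic q)
  rw [Subgroup.normalizer_eq_top_iff.mpr hL] at h1
  exact top_le_iff.mp h1

theorem Qof_isPGroup (L : Subgroup X) (q : ℕ) : IsPGroup q ↥(Qof L q) :=
  Cfsg.Agent.Helper64.BG126.isPGroup_opOf q L

/-- a `q`-subgroup of `L` normalized by `L` lies in `O_q(L)` -/
theorem le_Qof {A : Subgroup X} (hAL : A ≤ L) (hN : L ≤ normalizer (A : Set X))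
    (hA : IsPGroup q ↥A) : A ≤ Qof L q := by
  haveI : (A.subgroupOf L).Normal := Subgroup.normal_subgroupOf_of_le_normalizer hN
  have hp : IsPGroup q ↥(A.subgroupOf L) :=
    hA.of_equiv (Subgroup.subgroupOfEquivOfLe hAL).symm
  have h1 : A.subgroupOf L ≤ Cfsg.pCore q ↥L := Cfsg.Agent.Lib.le_pCore inferInstance hp
  have h2 : (A.subgroupOf L).map L.subtype ≤ Qof L q := Subgroup.map_mono h1
  rwa [Subgroup.map_subgroupOf_eq_of_le hAL] at h2

theorem isNilpotent_of_le_fittingOf (h : L ≤ fittingOf L) : Group.IsNilpotent ↥L :=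
  have h2 : fittingOf L = L := le_antisymm (Cfsg.Agent.Helper29.Bender.fittingOf_le L) h
  h2 ▸ Cfsg.Agent.Helper29.Bender.isNilpotent_fittingOf L

namespace Hyp

variable (h : Hyp L K q)
include h

theorem C_isPGroup : IsPGroup q ↥(L ⊓ centralizer (K : Set X)) := by
  haveI : Fact q.Prime := ⟨h.q_prime⟩
  exact IsPGroup.of_card (n := 1) (by rw [h.card_C, pow_one])

/-- step (1): `C ≤ F(L)` -/
theorem C_le_fittingOf : L ⊓ centralizer (K : Set X) ≤ fittingOf L := by
  haveI := h.solv
  haveI := h.normal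
  by_contra hcon
  have hbot : fittingOf L ⊓ centralizer (K : Set X) = ⊥ := by
    by_contra hne
    -- a nontrivial subgroup of the group `C` of prime order `q` is `C`
    have hle : fittingOf L ⊓ centralizer (K : Set X) ≤ L ⊓ centralizer (K : Set X) :=
      inf_le_inf_right _ (Cfsg.Agent.Helper29.Bender.fittingOf_le L)
    have hdvd := Subgroup.card_dvd_of_le hle
    rw [h.card_C] at hdvd
    rcases (Nat.dvd_prime h.q_prime).mp hdvd with h1 | h1
    · exact hne (Subgroup.card_eq_one.mp h1)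
    · have heq : fittingOf L ⊓ centralizer (K : Set X) = L ⊓ centralizer (K : Set X) :=
        Subgroup.eq_of_le_of_card_ge hle (by rw [h1, h.card_C])
      exact hcon (heq ▸ inf_le_left)
  have h1 := Cfsg.Agent.S1445.result h.odd L K h.sup h.cop h.prime_act hbot
  rw [h.comm] at h1
  exact h.not_nil (isNilpotent_of_le_fittingOf h1)

/-- step (1'): `C ≤ O_q(L)` -/
theorem C_le_Q : L ⊓ centralizer (K : Set X) ≤ Qof L q := by
  haveI : Fact q.Prime := ⟨h.q_prime⟩
  exact Cfsg.Agent.Helper64.BG126.le_opOf_of_isPGroup h.C_isPGroup h.C_le_fittingOf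

theorem disjoint_LK : L ⊓ K = ⊥ := by
  have h1 : Nat.card ↥(L ⊓ K) ∣ Nat.card L := Subgroup.card_dvd_of_le inf_le_left
  have h2 : Nat.card ↥(L ⊓ K) ∣ Nat.card K := Subgroup.card_dvd_of_le inf_le_right
  exact Subgroup.card_eq_one.mp (Nat.eq_one_of_dvd_coprimes h.cop h1 h2)

end Hyp

end Cfsg.Agent.Helper35.BG153
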