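import Mathlib
import Cfsg.Agent.Helper35.BG153A

/-!
# Bender-Glauberman Corollary 15.3, abstract core (helper35), part B

`K` acts without fixed points on `L / Q`, `Q = O_q(L)`; hence `L / Q` is nilpotent and `Q` is a Sylow
`q`-subgroup of `L`.
-/

set_option autoImplicit false
set_option linter.unusedSectionVars false
set_option linter.style.haveILetI false

namespace Cfsg.Agent.Helper35.BG153

open Subgroup Cfsg

variable {X : Type*} [Group X] [Finite X] {L K : Subgroup X} {q : ℕ}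

namespace Hyp

variable (h : Hyp L K q)
include h

/-- an element of `L` commuting with a non-identity `k ∈ K` modulo `Q` lies in `Q` -/
theorem mem_Q_of_comm_mod {k l : X} (hk : k ∈ K) (hk1 : k ≠ 1) (hl : l ∈ L)
    (hc : ∀ n : ℕ, k ^ n * l * (k ^ n)⁻¹ * l⁻¹ ∈ Qof L q) : l ∈ Qof L q := by
  haveI := h.normal
  haveI hQn : (Qof L q).Normal := Qof_normal h.normal q
  have hAD : zpowers k ≤ normalizer ((Qof L q : Subgroup X) : Set X) := by
    rw [Subgroup.normalizer_eq_top_iff.mpr hQn]; exact le_top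
  have hcop : (Nat.card (zpowers k)).Coprime (Nat.card (Qof L q)) := by
    have h1 : Nat.card (zpowers k) ∣ Nat.card K :=
      Subgroup.card_dvd_of_le ((Subgroup.zpowers_le).mpr hk)
    have h2 : Nat.card (Qof L q) ∣ Nat.card L := Subgroup.card_dvd_of_le (Qof_le L q)
    exact (Nat.Coprime.coprime_dvd_left h2 (Nat.Coprime.coprime_dvd_right h1 h.cop)).symm
  have hinv : ∀ a ∈ zpowers k, ∃ d ∈ Qof L q, a * l * a⁻¹ = d * l := by
    intro a ha
    obtain ⟨n, rfl⟩ := (Submonoid.mem_powers_iff a k).mp (mem_powers_iff_mem_zpowers.mpr ha)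
    exact ⟨k ^ n * l * (k ^ n)⁻¹ * l⁻¹, hc n, by group⟩
  obtain ⟨d, hd, hdl⟩ := Cfsg.Agent.Helper1.exists_mem_coset_centralizer (zpowers k) (Qof L q) hAD
    hcop (Or.inl inferInstance) l hinv
  have h1 : d * l ∈ L ⊓ centralizer ({k} : Set X) := by
    refine Subgroup.mem_inf.mpr ⟨L.mul_mem (Qof_le L q hd) hl, ?_⟩
    rw [Subgroup.mem_centralizer_iff]
    intro x hx
    rw [Set.mem_singleton_iff] at hx
    rw [hx]
    exact (Subgroup.mem_centralizer_iff.mp hdl) k (Subgroup.mem_zpowers k)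
  rw [h.prime_act k hk hk1] at h1
  have h2 : d * l ∈ Qof L q := h.C_le_Q h1
  have : l = d⁻¹ * (d * l) := by group
  rw [this]
  exact (Qof L q).mul_mem ((Qof L q).inv_mem hd) h2

/-- `K` acts without fixed points on `L / Q` -/
theorem fpf_quot [(Qof L q).Normal] :
    ∀ e ∈ K.map (QuotientGroup.mk' (Qof L q)), e ≠ 1 →
      ∀ u ∈ L.map (QuotientGroup.mk' (Qof L q)), e * u = u * e → u = 1 := by
  intro e he he1 u hu hcomm
  obtain ⟨k, hk, rfl⟩ := he
  obtain ⟨l, hl, rfl⟩ := hu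
  have hk1 : k ≠ 1 := by
    rintro rfl
    exact he1 (map_one _)
  have hlQ : l ∈ Qof L q := by
    refine h.mem_Q_of_comm_mod hk hk1 hl (fun n => ?_)
    rw [← QuotientGroup.eq_one_iff]
    have hc : Commute ((QuotientGroup.mk' (Qof L q)) k ^ n) ((QuotientGroup.mk' (Qof L q)) l) :=
      Commute.pow_left hcomm n
    have : ((k ^ n * l * (k ^ n)⁻¹ * l⁻¹ : X) : X ⧸ Qof L q) =
        (QuotientGroup.mk' (Qof L q)) k ^ n * (QuotientGroup.mk' (Qof L q)) l *
          ((QuotientGroup.mk' (Qof L q)) k ^ n)⁻¹ * ((QuotientGroup.mk' (Qof L q)) l)⁻¹ := by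
      simp
    rw [this, hc.eq]
    group
  exact (QuotientGroup.eq_one_iff l).mpr hlQ

theorem map_K_ne_bot [(Qof L q).Normal] : K.map (QuotientGroup.mk' (Qof L q)) ≠ ⊥ := by
  obtain ⟨k, hk, hk1⟩ := (Subgroup.ne_bot_iff_exists_ne_one).mp h.K_ne |> fun ⟨y, hy⟩ =>
    (⟨(y : X), y.2, fun hh => hy (Subtype.ext hh)⟩ : ∃ k ∈ K, k ≠ 1)
  intro hbot
  have h1 : (QuotientGroup.mk' (Qof L q)) k ∈ K.map (QuotientGroup.mk' (Qof L q)) :=
    Subgroup.mem_map_of_mem _ hk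
  rw [hbot, Subgroup.mem_bot] at h1
  have h2 : k ∈ Qof L q := (QuotientGroup.eq_one_iff k).mp h1
  have h3 : k ∈ L ⊓ K := ⟨Qof_le L q h2, hk⟩
  rw [h.disjoint_LK, Subgroup.mem_bot] at h3
  exact hk1 h3

/-- `L / Q` is nilpotent -/
theorem isNilpotent_map [(Qof L q).Normal] :
    Group.IsNilpotent ↥(L.map (QuotientGroup.mk' (Qof L q))) := by
  haveI := h.normal
  refine Cfsg.Agent.Helper62.FrobAct.isNilpotent_of_fpf _ (K.map (QuotientGroup.mk' (Qof L q)))
    h.map_K_ne_bot ?_ h.fpf_quot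
  intro e _ u hu
  obtain ⟨l, hl, rfl⟩ := hu
  obtain ⟨x, rfl⟩ := QuotientGroup.mk'_surjective (Qof L q) e
  refine ⟨x * l * x⁻¹, (inferInstance : L.Normal).conj_mem l hl x, ?_⟩
  simp

/-- every Sylow `q`-subgroup of `L` lies in `Q = O_q(L)` -/
theorem sylow_le_Q [Fact q.Prime] (S : Sylow q ↥L) :
    (S : Subgroup ↥L).map L.subtype ≤ Qof L q := by
  haveI := h.normal
  haveI hQn : (Qof L q).Normal := Qof_normal h.normal q
  set π := QuotientGroup.mk' (Qof L q) with hπ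
  set N := L.map π with hN
  haveI hnil : Group.IsNilpotent ↥N := h.isNilpotent_map
  obtain ⟨P⟩ : Nonempty (Sylow q ↥N) := inferInstance
  have hPn : (P : Subgroup ↥N).Normal :=
    Sylow.normal_of_normalizerCondition normalizerCondition_of_isNilpotent P
  haveI : Unique (Sylow q ↥N) := Sylow.unique_of_normal P hPn
  set Q' : Subgroup X := (((P : Subgroup ↥N).map N.subtype).comap π) ⊓ L with hQ'
  have hmem : ∀ a : X, a ∈ Q' ↔ a ∈ L ∧ ∃ hN' : π a ∈ N, (⟨π a, hN'⟩ : ↥N) ∈ (P : Subgroup ↥N) := by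
    intro a
    rw [hQ', Subgroup.mem_inf, Subgroup.mem_comap, Subgroup.mem_map]
    constructor
    · rintro ⟨⟨y, hy, hya⟩, haL⟩
      refine ⟨haL, ?_⟩
      have hy2 : π a ∈ N := hya ▸ y.2
      refine ⟨hy2, ?_⟩
      have : (⟨π a, hy2⟩ : ↥N) = y := Subtype.ext hya.symm
      rw [this]; exact hy
    · rintro ⟨haL, hN', hP⟩
      exact ⟨⟨⟨π a, hN'⟩, hP, rfl⟩, haL⟩
  have hQ'L : Q' ≤ L := inf_le_right
  have hnorm : L ≤ normalizer (Q' : Set X) := by
    refine Cfsg.Agent.Helper64.BG126.le_normalizer_of_conj_mem ?_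
    intro l hl a ha
    obtain ⟨haL, hN', hP⟩ := (hmem a).mp ha
    refine (hmem _).mpr ⟨L.mul_mem (L.mul_mem hl haL) (L.inv_mem hl), ?_⟩
    have hlN : π l ∈ N := Subgroup.mem_map_of_mem _ hl
    have hc := hPn.conj_mem ⟨π a, hN'⟩ hP ⟨π l, hlN⟩
    have hN2 : π (l * a * l⁻¹) ∈ N := by
      rw [map_mul, map_mul, map_inv]
      exact N.mul_mem (N.mul_mem hlN hN') (N.inv_mem hlN)
    refine ⟨hN2, ?_⟩
    have : (⟨π (l * a * l⁻¹), hN2⟩ : ↥N) = ⟨π l, hlN⟩ * ⟨π a, hN'⟩ * ⟨π l, hlN⟩⁻¹ := by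
      apply Subtype.ext
      simp
    rw [this]; exact hc
  have hpg : IsPGroup q ↥Q' := by
    intro a
    obtain ⟨haL, hN', hP⟩ := (hmem (a : X)).mp a.2
    obtain ⟨n, hn⟩ := P.isPGroup' ⟨⟨π (a : X), hN'⟩, hP⟩
    have h1 : π ((a : X) ^ q ^ n) = 1 := by
      have h2 := congrArg (fun z : ↥(P : Subgroup ↥N) => ((z : ↥N) : X ⧸ Qof L q)) hn
      simpa using h2
    have h3 : (a : X) ^ q ^ n ∈ Qof L q := (QuotientGroup.eq_one_iff _).mp h1
    obtain ⟨m, hm⟩ := (Qof_isPGroup L q) ⟨_, h3⟩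
    refine ⟨n + m, ?_⟩
    apply Subtype.ext
    have h4 : ((a : X) ^ q ^ n) ^ q ^ m = 1 := by
      have := congrArg (fun z : ↥(Qof L q) => (z : X)) hm
      simpa using this
    rw [Subgroup.coe_pow, Subgroup.coe_one, pow_add, pow_mul]
    exact h4
  have hQ'Q : Q' ≤ Qof L q := le_Qof hQ'L hnorm hpg
  rintro x ⟨y, hy, rfl⟩
  apply hQ'Q
  refine (hmem _).mpr ⟨y.2, ?_⟩
  have hyN : π (L.subtype y) ∈ N := Subgroup.mem_map_of_mem _ y.2
  refine ⟨hyN, ?_⟩
  -- the image of `y` is a `q`-element of the nilpotent group `N`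
  obtain ⟨n, hn⟩ := S.isPGroup' ⟨y, hy⟩
  have hyq : (⟨π (L.subtype y), hyN⟩ : ↥N) ^ q ^ n = 1 := by
    apply Subtype.ext
    have h2 := congrArg (fun z : ↥(S : Subgroup ↥L) => π (((z : ↥L) : X))) hn
    simpa using h2
  have hz : IsPGroup q ↥(zpowers (⟨π (L.subtype y), hyN⟩ : ↥N)) := by
    rintro ⟨z, hz⟩
    obtain ⟨j, rfl⟩ := Subgroup.mem_zpowers_iff.mp hz
    refine ⟨n, ?_⟩
    apply Subtype.ext
    show ((⟨π (L.subtype y), hyN⟩ : ↥N) ^ j) ^ q ^ n = 1
    rw [← zpow_natCast, ← zpow_mul, mul_comm, zpow_mul, zpow_natCast, hyq, one_zpow]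
  obtain ⟨P₂, hP₂⟩ := hz.exists_le_sylow
  have : P₂ = P := Subsingleton.elim _ _
  rw [this] at hP₂
  exact hP₂ (Subgroup.mem_zpowers _)

/-- `Q` is a Sylow `q`-subgroup of `L` -/
theorem not_dvd_relIndex : ¬ q ∣ (Qof L q).relIndex L := by
  haveI : Fact q.Prime := ⟨h.q_prime⟩
  obtain ⟨S⟩ : Nonempty (Sylow q ↥L) := inferInstance
  have h1 : (Qof L q).subgroupOf L = (S : Subgroup ↥L) := by
    apply le_antisymm
    · have : (Qof L q).subgroupOf L = Cfsg.pCore q ↥L := by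
        show ((Cfsg.pCore q ↥L).map L.subtype).subgroupOf L = _
        exact Subgroup.comap_map_eq_self_of_injective L.subtype_injective _
      rw [this]
      exact Cfsg.Agent.Lib.pCore_le_sylow S
    · intro y hy
      rw [Subgroup.mem_subgroupOf]
      exact h.sylow_le_Q S ⟨y, hy, rfl⟩
  show ¬ q ∣ ((Qof L q).subgroupOf L).index
  rw [h1]
  exact S.not_dvd_index

end Hyp

end Cfsg.Agent.Helper35.BG153
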