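import Mathlib
import Cfsg.Agent.Helper35.BG153B

/-!
# Bender-Glauberman Corollary 15.3, abstract core (helper35), part C

A `K`-invariant complement `D` of `Q` in `L`: `D K` is a Frobenius-like group acting on `Q`; the
fixed-point formula of helper62 gives `|H| = |H ∩ C|^{|E|} |H ∩ C_Q(D)|` for every `DK`-invariant
`H ≤ Q` and every nontrivial `E ≤ K`.
-/

set_option autoImplicit false
set_option linter.unusedSectionVars false
set_option linter.style.haveILetI false

namespace Cfsg.Agent.Helper35.BG153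

open Subgroup Cfsg

variable {X : Type*} [Group X] [Finite X] {L K : Subgroup X} {q : ℕ}

/-- a `K`-invariant complement of `Q = O_q(L)` in `L` -/
structure IsD (L K : Subgroup X) (q : ℕ) (D : Subgroup X) : Prop where
  le : D ≤ L
  inf : Qof L q ⊓ D = ⊥
  card : Nat.card (Qof L q) * Nat.card D = Nat.card L
  inv : K ≤ normalizer (D : Set X)

namespace Hyp

variable (h : Hyp L K q) {D : Subgroup X} (hD : IsD L K q D)
include h hD

theorem q_dvd_card_L : q ∣ Nat.card L := by
  have := Subgroup.card_dvd_of_le (inf_le_left : L ⊓ centralizer (K : Set X) ≤ L)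
  rwa [h.card_C] at this

theorem not_dvd_card_D : ¬ q ∣ Nat.card D := by
  have h1 := h.not_dvd_relIndex
  have h2 : Nat.card (Qof L q) * (Qof L q).relIndex L = Nat.card L := by
    have := Subgroup.relIndex_mul_relIndex ⊥ (Qof L q) L bot_le (Qof_le L q)
    rwa [Subgroup.relIndex_bot_left, Subgroup.relIndex_bot_left] at this
  have hpos : 0 < Nat.card (Qof L q) := Nat.card_pos
  have h3 : (Qof L q).relIndex L = Nat.card D :=
    Nat.eq_of_mul_eq_mul_left hpos (h2.trans hD.card.symm)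
  rwa [h3] at h1

theorem not_dvd_card_K : ¬ q ∣ Nat.card K := by
  intro hq
  have := Nat.Coprime.eq_one_of_dvd (Nat.Coprime.coprime_dvd_left (h.q_dvd_card_L hD) h.cop) hq
  exact h.q_prime.one_lt.ne' this

/-- `L ⊓ (D ⊔ K) = D` -/
theorem L_inf_DK : L ⊓ (D ⊔ K) = D := by
  apply le_antisymm
  · intro x hx
    have hx2 : x ∈ ((D ⊔ K : Subgroup X) : Set X) := hx.2
    rw [Subgroup.coe_mul_of_right_le_normalizer_left D K hD.inv] at hx2
    obtain ⟨d, hd, k, hk, rfl⟩ := hx2
    have hkL : k ∈ L := by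
      have : k = d⁻¹ * (d * k) := by group
      rw [this]
      exact L.mul_mem (L.inv_mem (hD.le hd)) hx.1
    have hk1 : k ∈ L ⊓ K := ⟨hkL, hk⟩
    rw [h.disjoint_LK, Subgroup.mem_bot] at hk1
    simpa [hk1] using hd
  · exact le_inf hD.le le_sup_left

omit hD in
theorem index_L_dvd : L.index ∣ Nat.card K := by
  haveI := h.normal
  have h1 : L.relIndex (K ⊔ L) = L.relIndex K := Subgroup.relIndex_sup_right K L
  rw [sup_comm, h.sup, Subgroup.relIndex_top_right] at h1
  rw [h1]
  exact Subgroup.relIndex_dvd_card L K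

theorem card_DK_dvd : Nat.card ↥(D ⊔ K) ∣ Nat.card D * Nat.card K := by
  haveI := h.normal
  have h1 := Subgroup.relIndex_mul_relIndex ⊥ (L ⊓ (D ⊔ K)) (D ⊔ K) bot_le inf_le_right
  rw [Subgroup.relIndex_bot_left, Subgroup.relIndex_bot_left, Subgroup.inf_relIndex_right,
    h.L_inf_DK hD] at h1
  rw [← h1]
  exact Nat.mul_dvd_mul_left _
    ((Subgroup.relIndex_dvd_index_of_normal L (D ⊔ K)).trans h.index_L_dvd)

theorem coprime_Q_DK : (Nat.card (Qof L q)).Coprime (Nat.card ↥(D ⊔ K)) := by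
  haveI : Fact q.Prime := ⟨h.q_prime⟩
  obtain ⟨a, ha⟩ := IsPGroup.iff_card.mp (Qof_isPGroup L q)
  rw [ha]
  apply Nat.Coprime.pow_left
  rw [Nat.Prime.coprime_iff_not_dvd h.q_prime]
  intro hq
  have := hq.trans (h.card_DK_dvd hD)
  rcases (Nat.Prime.dvd_mul h.q_prime).mp this with h1 | h1
  · exact h.not_dvd_card_D hD h1
  · exact h.not_dvd_card_K hD h1

/-- `D K` acts on `D` as a Frobenius complement: no non-identity element of `K` centralizes a
non-identity element of `D` -/
theorem fpf_D : ∀ e ∈ K, e ≠ 1 → ∀ u ∈ D, e * u = u * e → u = 1 := by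
  intro e he he1 u hu hcomm
  have h1 : u ∈ L ⊓ centralizer ({e} : Set X) := by
    refine Subgroup.mem_inf.mpr ⟨hD.le hu, ?_⟩
    rw [Subgroup.mem_centralizer_iff]
    intro x hx
    rw [Set.mem_singleton_iff] at hx
    rw [hx]; exact hcomm
  rw [h.prime_act e he he1] at h1
  have h2 : u ∈ Qof L q ⊓ D := ⟨h.C_le_Q h1, hu⟩
  rw [hD.inf, Subgroup.mem_bot] at h2
  exact h2

theorem conj_D : ∀ e ∈ K, ∀ u ∈ D, e * u * e⁻¹ ∈ D := fun e he u hu =>
  (Subgroup.mem_normalizer_iff.mp (hD.inv he) u).mp hu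

theorem D_nilpotent : Group.IsNilpotent ↥D :=
  Cfsg.Agent.Helper62.FrobAct.isNilpotent_of_fpf D K h.K_ne (h.conj_D hD) (h.fpf_D hD)

end Hyp

end Cfsg.Agent.Helper35.BG153
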