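import Mathlib
import Cfsg.Agent.Helper35.BG153C

/-!
# Bender-Glauberman Corollary 15.3, abstract core (helper35), part D

The fixed-point formula for `DK`-invariant subgroups of `Q`; `C ∩ C_Q(D) = 1`; `|K|` is prime and
`|Q| = |C_Q(D)| q^{|K|}`.
-/

set_option autoImplicit false
set_option linter.unusedSectionVars false
set_option linter.style.haveILetI false

namespace Cfsg.Agent.Helper35.BG153

open Subgroup Cfsg

variable {X : Type*} [Group X] [Finite X] {L K : Subgroup X} {q : ℕ}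

theorem centralizer_sup_eq (A B : Subgroup X) :
    centralizer ((A ⊔ B : Subgroup X) : Set X) = centralizer (A : Set X) ⊓ centralizer (B : Set X) := by
  apply le_antisymm
  · exact le_inf (Subgroup.centralizer_le (by exact_mod_cast (le_sup_left : A ≤ A ⊔ B)))
      (Subgroup.centralizer_le (by exact_mod_cast (le_sup_right : B ≤ A ⊔ B)))
  · intro x hx
    have hA : A ≤ centralizer ((zpowers x : Subgroup X) : Set X) := by
      rw [Subgroup.le_centralizer_iff, Subgroup.zpowers_le]; exact hx.1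
    have hB : B ≤ centralizer ((zpowers x : Subgroup X) : Set X) := by
      rw [Subgroup.le_centralizer_iff, Subgroup.zpowers_le]; exact hx.2
    have hAB : A ⊔ B ≤ centralizer ((zpowers x : Subgroup X) : Set X) := sup_le hA hB
    rw [Subgroup.le_centralizer_iff, Subgroup.zpowers_le] at hAB
    exact hAB

namespace Hyp

variable (h : Hyp L K q) {D : Subgroup X} (hD : IsD L K q D)
include h hD

theorem sup_QD : Qof L q ⊔ D = L := by
  have hle : Qof L q ⊔ D ≤ L := sup_le (Qof_le L q) hD.le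
  refine Subgroup.eq_of_le_of_card_ge hle ?_
  have h1 : Nat.card (Qof L q) ∣ Nat.card ↥(Qof L q ⊔ D) := Subgroup.card_dvd_of_le le_sup_left
  have h2 : Nat.card D ∣ Nat.card ↥(Qof L q ⊔ D) := Subgroup.card_dvd_of_le le_sup_right
  have hcop : (Nat.card (Qof L q)).Coprime (Nat.card D) :=
    Nat.Coprime.coprime_dvd_right (Subgroup.card_dvd_of_le le_sup_left) (h.coprime_Q_DK hD)
  have h3 := Nat.Coprime.mul_dvd_of_dvd_of_dvd hcop h1 h2
  rw [hD.card] at h3
  exact Nat.le_of_dvd Nat.card_pos h3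

/-- if `D` centralizes `Q` then `L` is nilpotent -/
theorem not_Q_le_centralizer : ¬ Qof L q ≤ centralizer (D : Set X) := by
  intro hc
  haveI : Fact q.Prime := ⟨h.q_prime⟩
  apply h.not_nil
  apply isNilpotent_of_le_fittingOf
  have hQn : (Qof L q).Normal := Qof_normal h.normal q
  have hQF : Qof L q ≤ fittingOf L :=
    Cfsg.Agent.Helper29.Bender.le_fittingOf (Qof_le L q)
      (by rw [Subgroup.normalizer_eq_top_iff.mpr hQn]; exact le_top) (Qof_isPGroup L q).isNilpotent
  have hDn : L ≤ normalizer (D : Set X) := by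
    rw [← h.sup_QD hD]
    refine sup_le ?_ Subgroup.le_normalizer
    exact hc.trans (Subgroup.centralizer_le_normalizer _)
  have hDF : D ≤ fittingOf L :=
    Cfsg.Agent.Helper29.Bender.le_fittingOf hD.le hDn (h.D_nilpotent hD)
  calc L = Qof L q ⊔ D := (h.sup_QD hD).symm
    _ ≤ fittingOf L := sup_le hQF hDF

/-- for nontrivial `E ≤ K` and `H ≤ L`: `C_H(E) = H ∩ C` -/
theorem inf_centralizer_E {E H : Subgroup X} (hE : E ≤ K) (hE1 : E ≠ ⊥) (hH : H ≤ L) :
    H ⊓ centralizer (E : Set X) = H ⊓ (L ⊓ centralizer (K : Set X)) := by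
  obtain ⟨e, he, he1⟩ : ∃ e ∈ E, e ≠ 1 := by
    obtain ⟨y, hy⟩ := (Subgroup.ne_bot_iff_exists_ne_one).mp hE1
    exact ⟨(y : X), y.2, fun hh => hy (Subtype.ext hh)⟩
  apply le_antisymm
  · intro x hx
    refine ⟨hx.1, ?_⟩
    rw [← h.prime_act e (hE he) he1]
    refine Subgroup.mem_inf.mpr ⟨hH hx.1, ?_⟩
    rw [Subgroup.mem_centralizer_iff]
    intro y hy
    rw [Set.mem_singleton_iff] at hy
    rw [hy]
    exact (Subgroup.mem_centralizer_iff.mp hx.2) e he
  · intro x hx
    refine ⟨hx.1, ?_⟩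
    exact Subgroup.centralizer_le (by exact_mod_cast hE) hx.2.2

/-- the fixed-point formula for a `DK`-invariant subgroup `H` of `Q` and a nontrivial `E ≤ K` -/
theorem star {E H : Subgroup X} (hE : E ≤ K) (hE1 : E ≠ ⊥) (hH : H ≤ Qof L q)
    (hinv : D ⊔ K ≤ normalizer (H : Set X)) :
    Nat.card ↥(H ⊓ centralizer (D : Set X) ⊓ (L ⊓ centralizer (K : Set X))) ^ Nat.card E *
      Nat.card H =
    Nat.card ↥(H ⊓ (L ⊓ centralizer (K : Set X))) ^ Nat.card E *
      Nat.card ↥(H ⊓ centralizer (D : Set X)) := by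
  haveI : Fact q.Prime := ⟨h.q_prime⟩
  have hDE : D ⊔ E ≤ D ⊔ K := sup_le_sup_left hE D
  have hf := Cfsg.Agent.Helper62.FrobAct.frobenius_fixed_point_formula D E hE1
    (fun e he u hu => h.conj_D hD e (hE he) u hu)
    (fun e he he1 u hu hc => h.fpf_D hD e (hE he) he1 u hu hc)
    _ H rfl
    (fun x hx y hy => (Subgroup.mem_normalizer_iff.mp (hinv (hDE hx)) y).mp hy)
    (by haveI := h.solv; exact inferInstance)
    (Nat.Coprime.coprime_dvd_left (Subgroup.card_dvd_of_le hH)
      (Nat.Coprime.coprime_dvd_right (Subgroup.card_dvd_of_le hDE) (h.coprime_Q_DK hD)))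
  have hHL : H ≤ L := hH.trans (Qof_le L q)
  have e1 : H ⊓ centralizer ((D ⊔ E : Subgroup X) : Set X) =
      H ⊓ centralizer (D : Set X) ⊓ (L ⊓ centralizer (K : Set X)) := by
    rw [centralizer_sup_eq, ← inf_assoc]
    have := h.inf_centralizer_E hD (H := H ⊓ centralizer (D : Set X)) hE hE1 (inf_le_left.trans hHL)
    exact this
  rw [e1, h.inf_centralizer_E hD hE hE1 hHL] at hf
  exact hf

theorem DK_le_normalizer_Q : D ⊔ K ≤ normalizer ((Qof L q : Subgroup X) : Set X) := by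
  have hQn : (Qof L q).Normal := Qof_normal h.normal q
  rw [Subgroup.normalizer_eq_top_iff.mpr hQn]; exact le_top

theorem Q_inf_C : Qof L q ⊓ (L ⊓ centralizer (K : Set X)) = L ⊓ centralizer (K : Set X) :=
  inf_eq_right.mpr h.C_le_Q

/-- a subgroup of `C` (of prime order) is trivial or `C` -/
theorem sub_C_cases {Z : Subgroup X} (hZ : Z ≤ L ⊓ centralizer (K : Set X)) :
    Z = ⊥ ∨ Z = L ⊓ centralizer (K : Set X) := by
  have hdvd := Subgroup.card_dvd_of_le hZ
  rw [h.card_C] at hdvd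
  rcases (Nat.dvd_prime h.q_prime).mp hdvd with h1 | h1
  · exact Or.inl (Subgroup.card_eq_one.mp h1)
  · exact Or.inr (Subgroup.eq_of_le_of_card_ge hZ (by rw [h1, h.card_C]))

/-- `C_Q(D) ∩ C = 1` -/
theorem Q0_inf_C :
    Qof L q ⊓ centralizer (D : Set X) ⊓ (L ⊓ centralizer (K : Set X)) = ⊥ := by
  rcases h.sub_C_cases hD (Z := Qof L q ⊓ centralizer (D : Set X) ⊓ (L ⊓ centralizer (K : Set X)))
    inf_le_right with h1 | h1
  · exact h1
  · exfalso
    have hs := h.star hD (E := K) le_rfl h.K_ne le_rfl (h.DK_le_normalizer_Q hD)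
    rw [h1, h.Q_inf_C hD, h.card_C] at hs
    have hpos : 0 < q ^ Nat.card K := pow_pos h.q_prime.pos _
    have hcard : Nat.card (Qof L q) = Nat.card ↥(Qof L q ⊓ centralizer (D : Set X)) :=
      Nat.eq_of_mul_eq_mul_left hpos hs
    have heq : Qof L q ⊓ centralizer (D : Set X) = Qof L q :=
      Subgroup.eq_of_le_of_card_ge inf_le_left hcard.le
    exact h.not_Q_le_centralizer hD (inf_eq_left.mp heq)

/-- `|H| = |H ∩ C|^{|E|} |C_H(D)|` for `DK`-invariant `H ≤ Q` and nontrivial `E ≤ K` -/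
theorem star' {E H : Subgroup X} (hE : E ≤ K) (hE1 : E ≠ ⊥) (hH : H ≤ Qof L q)
    (hinv : D ⊔ K ≤ normalizer (H : Set X)) :
    Nat.card H = Nat.card ↥(H ⊓ (L ⊓ centralizer (K : Set X))) ^ Nat.card E *
      Nat.card ↥(H ⊓ centralizer (D : Set X)) := by
  have hs := h.star hD hE hE1 hH hinv
  have hbot : H ⊓ centralizer (D : Set X) ⊓ (L ⊓ centralizer (K : Set X)) = ⊥ := by
    rw [eq_bot_iff, ← h.Q0_inf_C hD]
    exact inf_le_inf_right _ (inf_le_inf_right _ hH)
  rw [hbot, Subgroup.card_bot, one_pow, one_mul] at hs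
  exact hs

theorem card_Q_eq {E : Subgroup X} (hE : E ≤ K) (hE1 : E ≠ ⊥) :
    Nat.card (Qof L q) = q ^ Nat.card E * Nat.card ↥(Qof L q ⊓ centralizer (D : Set X)) := by
  have hs := h.star' hD hE hE1 le_rfl (h.DK_le_normalizer_Q hD)
  rwa [h.Q_inf_C hD, h.card_C] at hs

/-- `|K|` is prime -/
theorem card_K_prime : (Nat.card K).Prime := by
  have hK1 : Nat.card K ≠ 1 := fun hh => h.K_ne (Subgroup.card_eq_one.mp hh)
  obtain ⟨p, hp, hpd⟩ := Nat.exists_prime_and_dvd hK1
  haveI : Fact p.Prime := ⟨hp⟩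
  obtain ⟨e, he⟩ := exists_prime_orderOf_dvd_card' (G := ↥K) p hpd
  have he' : orderOf (e : X) = p := by rw [Subgroup.orderOf_coe]; exact he
  have hE : zpowers (e : X) ≤ K := (Subgroup.zpowers_le).mpr e.2
  have hE1 : zpowers (e : X) ≠ ⊥ := by
    intro hb
    have : Nat.card (zpowers (e : X)) = 1 := by rw [hb, Subgroup.card_bot]
    rw [Nat.card_zpowers, he'] at this
    exact hp.one_lt.ne' this
  have h1 := h.card_Q_eq hD hE hE1
  have h2 := h.card_Q_eq hD (E := K) le_rfl h.K_ne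
  rw [Nat.card_zpowers, he'] at h1
  have hpos : 0 < Nat.card ↥(Qof L q ⊓ centralizer (D : Set X)) := Nat.card_pos
  have h3 : q ^ p = q ^ Nat.card K := Nat.eq_of_mul_eq_mul_right hpos (h1.symm.trans h2)
  have h4 : p = Nat.card K := Nat.pow_right_injective h.q_prime.two_le h3
  rw [← h4]; exact hp

/-- a `DK`-invariant subgroup of `Q` not containing `C` is centralized by `D` -/
theorem le_centralizer_of_not_le {H : Subgroup X} (hH : H ≤ Qof L q)
    (hinv : D ⊔ K ≤ normalizer (H : Set X)) (hC : ¬ L ⊓ centralizer (K : Set X) ≤ H) :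
    H ≤ centralizer (D : Set X) := by
  have hs := h.star' hD (E := K) le_rfl h.K_ne hH hinv
  rcases h.sub_C_cases hD (Z := H ⊓ (L ⊓ centralizer (K : Set X))) inf_le_right with h1 | h1
  · rw [h1, Subgroup.card_bot, one_pow, one_mul] at hs
    have heq : H ⊓ centralizer (D : Set X) = H := Subgroup.eq_of_le_of_card_ge inf_le_left hs.le
    exact inf_eq_left.mp heq
  · exact absurd (inf_eq_right.mp h1) hC

/-- a `DK`-invariant subgroup of `Q` containing `C` has `|H : C_H(D)| = q^{|K|}` -/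
theorem card_of_C_le {H : Subgroup X} (hH : H ≤ Qof L q)
    (hinv : D ⊔ K ≤ normalizer (H : Set X)) (hC : L ⊓ centralizer (K : Set X) ≤ H) :
    Nat.card H = q ^ Nat.card K * Nat.card ↥(H ⊓ centralizer (D : Set X)) := by
  have hs := h.star' hD (E := K) le_rfl h.K_ne hH hinv
  rwa [inf_eq_right.mpr hC, h.card_C] at hs

end Hyp

end Cfsg.Agent.Helper35.BG153
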