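import Mathlib
import Cfsg.Agent.Helper35.BG153D

/-!
# Bender-Glauberman Corollary 15.3, abstract core (helper35), part E

`Q₀ = C_Q(D)` is normal in `X`, and no `DK`-invariant subgroup lies strictly between `Q₀` and `Q`.
-/

set_option autoImplicit false
set_option linter.unusedSectionVars false
set_option linter.style.haveILetI false

namespace Cfsg.Agent.Helper35.BG153

open Subgroup Cfsg

variable {X : Type*} [Group X] [Finite X] {L K : Subgroup X} {q : ℕ}

theorem mem_normalizer_inf {A B : Subgroup X} {g : X} (hA : g ∈ normalizer (A : Set X))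
    (hB : g ∈ normalizer (B : Set X)) : g ∈ normalizer ((A ⊓ B : Subgroup X) : Set X) := by
  rw [Subgroup.mem_normalizer_iff] at hA hB ⊢
  intro x
  rw [Subgroup.mem_inf, Subgroup.mem_inf, hA x, hB x]

theorem mem_normalizer_centralizer {A : Subgroup X} {g : X} (hA : g ∈ normalizer (A : Set X)) :
    g ∈ normalizer ((centralizer (A : Set X) : Subgroup X) : Set X) := by
  have key : ∀ g : X, g ∈ normalizer (A : Set X) → ∀ c ∈ centralizer (A : Set X),
      g * c * g⁻¹ ∈ centralizer (A : Set X) := by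
    intro g hg c hc
    rw [Subgroup.mem_centralizer_iff] at hc ⊢
    intro a ha
    have ha' : g⁻¹ * a * g ∈ A := by
      have := (Subgroup.mem_normalizer_iff.mp ((normalizer (A : Set X)).inv_mem hg) a).mp ha
      simpa using this
    have := hc _ ha'
    calc a * (g * c * g⁻¹) = g * ((g⁻¹ * a * g) * c) * g⁻¹ := by group
      _ = g * (c * (g⁻¹ * a * g)) * g⁻¹ := by rw [this]
      _ = g * c * g⁻¹ * a := by group
  rw [Subgroup.mem_normalizer_iff]
  intro c
  constructor
  · exact key g hA c
  · intro hc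
    have := key g⁻¹ ((normalizer (A : Set X)).inv_mem hA) _ hc
    simpa [mul_assoc] using this

namespace Hyp

variable (h : Hyp L K q) {D : Subgroup X} (hD : IsD L K q D)
include h hD

theorem DK_le_normalizer_D : D ⊔ K ≤ normalizer (D : Set X) := sup_le Subgroup.le_normalizer hD.inv

/-- `DK` normalizes `Q₀ = C_Q(D)` -/
theorem DK_le_normalizer_Q0 :
    D ⊔ K ≤ normalizer ((Qof L q ⊓ centralizer (D : Set X) : Subgroup X) : Set X) := fun _ hx =>
  mem_normalizer_inf (h.DK_le_normalizer_Q hD hx)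
    (mem_normalizer_centralizer (h.DK_le_normalizer_D hD hx))

theorem Q0_ne_Q : Qof L q ⊓ centralizer (D : Set X) ≠ Qof L q := fun heq =>
  h.not_Q_le_centralizer hD (inf_eq_left.mp heq)

/-- `Q` normalizes `Q₀` -/
theorem Q_le_normalizer_Q0 :
    Qof L q ≤ normalizer ((Qof L q ⊓ centralizer (D : Set X) : Subgroup X) : Set X) := by
  set Q := Qof L q with hQ
  set Q0 := Q ⊓ centralizer (D : Set X) with hQ0
  set N0 := Q ⊓ normalizer (Q0 : Set X) with hN0
  have hN0Q : N0 ≤ Q := inf_le_left
  have hinv : D ⊔ K ≤ normalizer (N0 : Set X) := fun x hx =>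
    mem_normalizer_inf (h.DK_le_normalizer_Q hD hx)
      (Subgroup.le_normalizer (h.DK_le_normalizer_Q0 hD hx))
  have hQ0N0 : Q0 ≤ N0 := le_inf inf_le_left Subgroup.le_normalizer
  have hN0D : N0 ⊓ centralizer (D : Set X) = Q0 :=
    le_antisymm (inf_le_inf_right _ hN0Q) (le_inf hQ0N0 inf_le_right)
  by_cases hC : L ⊓ centralizer (K : Set X) ≤ N0
  · have h1 := h.card_of_C_le hD hN0Q hinv hC
    have h2 := h.card_Q_eq hD (E := K) le_rfl h.K_ne
    rw [hN0D] at h1
    have : N0 = Q := Subgroup.eq_of_le_of_card_ge hN0Q (by rw [h1, ← h2])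
    rw [← this]; exact inf_le_right
  · exfalso
    have h1 : N0 ≤ centralizer (D : Set X) := h.le_centralizer_of_not_le hD hN0Q hinv hC
    have h2 : N0 = Q0 := le_antisymm (le_inf hN0Q h1) hQ0N0
    -- normalizer condition in the `q`-group `Q`
    haveI : Fact q.Prime := ⟨h.q_prime⟩
    haveI : Group.IsNilpotent ↥Q := (Qof_isPGroup L q).isNilpotent
    have hlt : Q0.subgroupOf Q < ⊤ := by
      rw [lt_top_iff_ne_top]
      intro htop
      rw [Subgroup.subgroupOf_eq_top] at htop
      exact h.Q0_ne_Q hD (le_antisymm inf_le_left (le_inf le_rfl (htop.trans inf_le_right)))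
    have hnc := Group.normalizerCondition_of_isNilpotent (G := ↥Q) _ hlt
    obtain ⟨x, hxN, hxQ0⟩ := SetLike.exists_of_lt hnc
    apply hxQ0
    rw [Subgroup.mem_subgroupOf]
    have hxN0 : (x : X) ∈ N0 := by
      refine Subgroup.mem_inf.mpr ⟨x.2, ?_⟩
      rw [Subgroup.mem_normalizer_iff]
      intro z
      rw [Subgroup.mem_normalizer_iff] at hxN
      constructor
      · intro hz
        have hzQ : z ∈ Q := (Subgroup.mem_inf.mp hz).1
        have := (hxN ⟨z, hzQ⟩).mp (Subgroup.mem_subgroupOf.mpr hz)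
        exact Subgroup.mem_subgroupOf.mp this
      · intro hz
        have hzQ : z ∈ Q := by
          have h3 : (x : X) * z * (x : X)⁻¹ ∈ Q := (Subgroup.mem_inf.mp hz).1
          have : z = (x : X)⁻¹ * ((x : X) * z * (x : X)⁻¹) * (x : X) := by group
          rw [this]
          exact Q.mul_mem (Q.mul_mem (Q.inv_mem x.2) h3) x.2
        have := (hxN ⟨z, hzQ⟩).mpr (Subgroup.mem_subgroupOf.mpr hz)
        exact Subgroup.mem_subgroupOf.mp this
    rw [h2] at hxN0
    exact hxN0

/-- `Q₀` is normal in `X` -/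
theorem Q0_normal : (Qof L q ⊓ centralizer (D : Set X)).Normal := by
  rw [← Subgroup.normalizer_eq_top_iff, eq_top_iff, ← h.sup]
  have hL : L ≤ normalizer ((Qof L q ⊓ centralizer (D : Set X) : Subgroup X) : Set X) := by
    have := h.sup_QD hD
    calc L = Qof L q ⊔ D := this.symm
      _ ≤ _ := sup_le (h.Q_le_normalizer_Q0 hD) (le_sup_left.trans (h.DK_le_normalizer_Q0 hD))
  exact sup_le hL (le_sup_right.trans (h.DK_le_normalizer_Q0 hD))

/-- no `DK`-invariant subgroup lies strictly between `Q₀` and `Q` -/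
theorem chief {N : Subgroup X} (hinv : D ⊔ K ≤ normalizer (N : Set X))
    (h0 : Qof L q ⊓ centralizer (D : Set X) ≤ N) (h1 : N ≤ Qof L q) :
    N = Qof L q ⊓ centralizer (D : Set X) ∨ N = Qof L q := by
  have hND : N ⊓ centralizer (D : Set X) = Qof L q ⊓ centralizer (D : Set X) :=
    le_antisymm (inf_le_inf_right _ h1) (le_inf h0 inf_le_right)
  by_cases hC : L ⊓ centralizer (K : Set X) ≤ N
  · right
    have h2 := h.card_of_C_le hD h1 hinv hC
    have h3 := h.card_Q_eq hD (E := K) le_rfl h.K_ne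
    rw [hND] at h2
    exact Subgroup.eq_of_le_of_card_ge h1 (by rw [h2, ← h3])
  · left
    have h2 : N ≤ centralizer (D : Set X) := h.le_centralizer_of_not_le hD h1 hinv hC
    exact le_antisymm (le_inf h1 h2) h0

end Hyp

end Cfsg.Agent.Helper35.BG153
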