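import Mathlib
import Cfsg.Agent.Helper35.BG153E

/-!
# Bender-Glauberman Corollary 15.3, abstract core (helper35), part F

`Q / Q₀` is elementary abelian; `D'` centralizes `Q`.
-/

set_option autoImplicit false
set_option linter.unusedSectionVars false
set_option linter.style.haveILetI false

namespace Cfsg.Agent.Helper35.BG153

open Subgroup Cfsg

/-- a normal maximal subgroup has prime index (as in `S3904`) -/
theorem index_prime_of_normal_coatom' {G : Type*} [Group G] [Finite G] {N : Subgroup G} [N.Normal]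
    (hN : IsCoatom N) : N.index.Prime := by
  have h1 : N.index ≠ 1 := fun h => hN.1 (index_eq_one.1 h)
  obtain ⟨q, hq, hqd⟩ := Nat.exists_prime_and_dvd h1
  haveI : Fact q.Prime := ⟨hq⟩
  rw [index_eq_card] at hqd
  obtain ⟨g, hg⟩ := exists_prime_orderOf_dvd_card' q hqd
  have hsurj : Function.Surjective (QuotientGroup.mk' N) := QuotientGroup.mk'_surjective N
  set K : Subgroup G := (zpowers g).comap (QuotientGroup.mk' N) with hK
  have hNK : N ≤ K := by
    intro n hn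
    rw [hK, mem_comap]
    have : QuotientGroup.mk' N n = 1 := (QuotientGroup.eq_one_iff n).2 hn
    rw [this]; exact one_mem _
  have hne : K ≠ N := by
    intro h
    obtain ⟨a, ha⟩ := hsurj g
    have haK : a ∈ K := by
      rw [hK, mem_comap, ha]; exact mem_zpowers g
    rw [h] at haK
    have : g = 1 := by
      rw [← ha]; exact (QuotientGroup.eq_one_iff a).2 haK
    rw [this, orderOf_one] at hg
    exact hq.one_lt.ne hg
  have hKtop : K = ⊤ := hN.2 K (lt_of_le_of_ne hNK (Ne.symm hne))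
  have hz : zpowers g = ⊤ := by
    have := map_comap_eq_self_of_surjective hsurj (zpowers g)
    rw [← hK, hKtop, map_top_of_surjective _ hsurj] at this
    exact this.symm
  have hcard : Nat.card (G ⧸ N) = q := by
    rw [← hg, ← Nat.card_zpowers, hz]
    exact (Nat.card_congr (Equiv.Set.univ _)).symm
  rw [index_eq_card, hcard]
  exact hq

variable {X : Type*} [Group X] [Finite X] {L K : Subgroup X} {q : ℕ}

/-- a subgroup normalizing a generating set normalizes the generated subgroup -/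
theorem le_normalizer_closure {A : Subgroup X} {S : Set X}
    (hA : ∀ g ∈ A, ∀ s ∈ S, g * s * g⁻¹ ∈ S) : A ≤ normalizer ((closure S : Subgroup X) : Set X) := by
  refine Cfsg.Agent.Helper64.BG126.le_normalizer_of_conj_mem ?_
  intro g hg o ho
  induction ho using Subgroup.closure_induction with
  | mem x hx => exact Subgroup.subset_closure (hA g hg x hx)
  | one => simp
  | mul x y _ _ hx hy =>
    have : g * (x * y) * g⁻¹ = (g * x * g⁻¹) * (g * y * g⁻¹) := by group
    rw [this]; exact (closure S).mul_mem hx hy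
  | inv x _ hx =>
    have : g * x⁻¹ * g⁻¹ = (g * x * g⁻¹)⁻¹ := by group
    rw [this]; exact (closure S).inv_mem hx

/-- in a finite `q`-group `Q`, a proper subgroup `H₀` lies in a subgroup containing all `q`-th powers
and commutators -/
theorem exists_proper_containing_pow_comm {Q : Type*} [Group Q] [Finite Q] [Fact q.Prime]
    (hQ : IsPGroup q Q) (H₀ : Subgroup Q) (hH₀ : H₀ ≠ ⊤) :
    ∃ Mx : Subgroup Q, Mx ≠ ⊤ ∧ H₀ ≤ Mx ∧ ∀ a b : Q, a ^ q ∈ Mx ∧ a * b * a⁻¹ * b⁻¹ ∈ Mx := by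
  obtain ⟨Mx, hMx, hle⟩ := (eq_top_or_exists_le_coatom H₀).resolve_left hH₀
  haveI : Group.IsNilpotent Q := hQ.isNilpotent
  haveI hn : Mx.Normal :=
    Subgroup.NormalizerCondition.normal_of_coatom Mx Group.normalizerCondition_of_isNilpotent hMx
  have hidx : Mx.index.Prime := index_prime_of_normal_coatom' hMx
  have hidxq : Mx.index = q := by
    obtain ⟨a, ha⟩ := IsPGroup.iff_card.mp hQ
    have hd : Mx.index ∣ q ^ a := ha ▸ Subgroup.index_dvd_card Mx
    exact (Nat.prime_dvd_prime_iff_eq hidx (Fact.out : q.Prime)).mp (hidx.dvd_of_dvd_pow hd)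
  have hcard : Nat.card (Q ⧸ Mx) = q := by rw [← Subgroup.index_eq_card, hidxq]
  refine ⟨Mx, hMx.1, hle, fun a b => ⟨?_, ?_⟩⟩
  · rw [← QuotientGroup.eq_one_iff]
    have := pow_card_eq_one' (G := Q ⧸ Mx) (x := (a : Q ⧸ Mx))
    rw [hcard] at this
    simpa using this
  · rw [← QuotientGroup.eq_one_iff]
    haveI : IsCyclic (Q ⧸ Mx) := isCyclic_of_prime_card hcard
    have hc : ∀ x y : Q ⧸ Mx, x * y = y * x := fun x y => by
      letI := IsCyclic.commGroup (α := Q ⧸ Mx)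
      exact mul_comm x y
    have : ((a * b * a⁻¹ * b⁻¹ : Q) : Q ⧸ Mx) =
        (a : Q ⧸ Mx) * (b : Q ⧸ Mx) * (a : Q ⧸ Mx)⁻¹ * (b : Q ⧸ Mx)⁻¹ := by simp
    rw [this, hc (a : Q ⧸ Mx) (b : Q ⧸ Mx)]
    group

namespace Hyp

variable (h : Hyp L K q) {D : Subgroup X} (hD : IsD L K q D)
include h hD

/-- `Q / Q₀` is elementary abelian -/
theorem pow_comm_mem_Q0 : ∀ a ∈ Qof L q, ∀ b ∈ Qof L q,
    a ^ q ∈ Qof L q ⊓ centralizer (D : Set X) ∧
      a * b * a⁻¹ * b⁻¹ ∈ Qof L q ⊓ centralizer (D : Set X) := by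
  haveI : Fact q.Prime := ⟨h.q_prime⟩
  set Q := Qof L q with hQ
  set Q0 := Q ⊓ centralizer (D : Set X) with hQ0
  set Gen : Set X := {x | ∃ a ∈ Q, ∃ b ∈ Q, x = a ^ q ∨ x = a * b * a⁻¹ * b⁻¹} with hGen
  set T : Subgroup X := closure ((Q0 : Set X) ∪ Gen) with hT
  have hGenQ : Gen ⊆ (Q : Set X) := by
    rintro x ⟨a, ha, b, hb, rfl | rfl⟩
    · exact Q.pow_mem ha q
    · exact Q.mul_mem (Q.mul_mem (Q.mul_mem ha hb) (Q.inv_mem ha)) (Q.inv_mem hb)
  have hTQ : T ≤ Q := by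
    rw [hT, Subgroup.closure_le]
    rintro x (hx | hx)
    · exact (inf_le_left : Q0 ≤ Q) hx
    · exact hGenQ hx
  have hQ0T : Q0 ≤ T := fun x hx => Subgroup.subset_closure (Or.inl hx)
  have hinv : D ⊔ K ≤ normalizer (T : Set X) := by
    refine le_normalizer_closure ?_
    rintro g hg x (hx | ⟨a, ha, b, hb, hx⟩)
    · left
      exact (Subgroup.mem_normalizer_iff.mp (h.DK_le_normalizer_Q0 hD hg) x).mp hx
    · right
      have hgQ : ∀ y ∈ Q, g * y * g⁻¹ ∈ Q := fun y hy =>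
        (Subgroup.mem_normalizer_iff.mp (h.DK_le_normalizer_Q hD hg) y).mp hy
      refine ⟨g * a * g⁻¹, hgQ a ha, g * b * g⁻¹, hgQ b hb, ?_⟩
      rcases hx with rfl | rfl
      · left; rw [conj_pow]
      · right; group
  rcases h.chief hD hinv hQ0T hTQ with hcase | hcase
  · intro a ha b hb
    have h1 : a ^ q ∈ T := Subgroup.subset_closure (Or.inr ⟨a, ha, b, hb, Or.inl rfl⟩)
    have h2 : a * b * a⁻¹ * b⁻¹ ∈ T := Subgroup.subset_closure (Or.inr ⟨a, ha, b, hb, Or.inr rfl⟩)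
    rw [hcase] at h1 h2
    exact ⟨h1, h2⟩
  · exfalso
    have hH0 : Q0.subgroupOf Q ≠ ⊤ := by
      intro htop
      rw [Subgroup.subgroupOf_eq_top] at htop
      exact h.Q0_ne_Q hD (le_antisymm inf_le_left (le_inf le_rfl (htop.trans inf_le_right)))
    obtain ⟨Mx, hMx1, hle, hpc⟩ :=
      exists_proper_containing_pow_comm (Qof_isPGroup L q) (Q0.subgroupOf Q) hH0
    have hsub : (Q0 : Set X) ∪ Gen ⊆ ((Mx.map Q.subtype : Subgroup X) : Set X) := by
      rintro x (hx | ⟨a, ha, b, hb, hx⟩)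
      · have hxQ : x ∈ Q := (inf_le_left : Q0 ≤ Q) hx
        exact ⟨⟨x, hxQ⟩, hle (Subgroup.mem_subgroupOf.mpr hx), rfl⟩
      · rcases hx with rfl | rfl
        · exact ⟨⟨a, ha⟩ ^ q, (hpc ⟨a, ha⟩ ⟨b, hb⟩).1, rfl⟩
        · exact ⟨⟨a, ha⟩ * ⟨b, hb⟩ * ⟨a, ha⟩⁻¹ * ⟨b, hb⟩⁻¹, (hpc ⟨a, ha⟩ ⟨b, hb⟩).2, rfl⟩
    have hTM : T ≤ Mx.map Q.subtype := by
      rw [hT, Subgroup.closure_le]; exact hsub
    apply hMx1
    rw [eq_top_iff]
    intro x _
    have hx : (x : X) ∈ Mx.map Q.subtype := hTM (by rw [hcase]; exact x.2)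
    obtain ⟨y, hy, hyx⟩ := hx
    have : y = x := Subtype.ext hyx
    rw [← this]; exact hy

/-- `D'` centralizes `Q` -/
theorem commutator_D_le : ⁅D, D⁆ ≤ centralizer ((Qof L q : Subgroup X) : Set X) := by
  haveI := h.solv
  refine Cfsg.Agent.Helper62.FrobAct.frobenius_commutator_centralizes D K h.K_ne (h.conj_D hD)
    (h.fpf_D hD) _ (Qof L q) rfl
    (fun x hx y hy => (Subgroup.mem_normalizer_iff.mp (h.DK_le_normalizer_Q hD hx) y).mp hy)
    inferInstance (h.coprime_Q_DK hD) ?_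
  have heq : Qof L q ⊓ centralizer (K : Set X) = L ⊓ centralizer (K : Set X) :=
    le_antisymm (inf_le_inf_right _ (Qof_le L q)) (le_inf h.C_le_Q inf_le_right)
  rw [heq]
  haveI : Fact q.Prime := ⟨h.q_prime⟩
  exact isCyclic_of_prime_card h.card_C

end Hyp

end Cfsg.Agent.Helper35.BG153
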