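import Mathlib
import Cfsg.Agent.Helper35.BG153F

/-!
# Bender-Glauberman Corollary 15.3, abstract core (helper35), part G

Existence of a `K`-invariant complement, transfer to arbitrary complements, and the final statement
`Hyp.core`.
-/

set_option autoImplicit false
set_option linter.unusedSectionVars false
set_option linter.style.haveILetI false

namespace Cfsg.Agent.Helper35.BG153

open Subgroup Cfsg
open scoped Pointwise commutatorElement

variable {X : Type*} [Group X] [Finite X] {L K : Subgroup X} {q : ℕ}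

namespace Hyp

variable (h : Hyp L K q)
include h

/-- a `K`-invariant complement of `Q` in `L` exists -/
theorem exists_IsD : ∃ D : Subgroup X, IsD L K q D := by
  haveI := h.solv
  haveI := h.normal
  haveI : Fact q.Prime := ⟨h.q_prime⟩
  have hKL : K ≤ normalizer (L : Set X) := by
    rw [Subgroup.normalizer_eq_top_iff.mpr h.normal]; exact le_top
  obtain ⟨D, hDH, hDK⟩ :=
    (Cfsg.Agent.Helper62.invariant_hall_main K L hKL h.cop.symm {r | r ≠ q}).1
  have e1 := Cfsg.Agent.Helper62.isPiHallOf_card_mul_relIndex hDH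
  have e2 : Nat.card (Qof L q) * (Qof L q).relIndex L = Nat.card L := by
    have := Subgroup.relIndex_mul_relIndex ⊥ (Qof L q) L bot_le (Qof_le L q)
    rwa [Subgroup.relIndex_bot_left, Subgroup.relIndex_bot_left] at this
  obtain ⟨e, he⟩ := IsPGroup.iff_card.mp (Qof_isPGroup L q)
  have hqD : ¬ q ∣ Nat.card D := fun hq => hDH.2.1 q h.q_prime hq rfl
  have hcopQD : (Nat.card (Qof L q)).Coprime (Nat.card D) := by
    rw [he]
    exact Nat.Coprime.pow_left _ ((Nat.Prime.coprime_iff_not_dvd h.q_prime).mpr hqD)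
  have hQr : Nat.card (Qof L q) = D.relIndex L := by
    apply Nat.dvd_antisymm
    · apply hcopQD.dvd_of_dvd_mul_left
      rw [e1, ← e2]; exact Dvd.intro _ rfl
    · have hcop2 : (D.relIndex L).Coprime ((Qof L q).relIndex L) := by
        apply Nat.coprime_of_dvd
        intro p hp hp1 hp2
        by_cases hpq : p = q
        · subst hpq; exact h.not_dvd_relIndex hp2
        · exact hDH.2.2 p hp hpq hp1
      apply hcop2.dvd_of_dvd_mul_right
      rw [e2, ← e1]; exact Dvd.intro_left _ rfl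
  refine ⟨D, ⟨hDH.1, ?_, ?_, hDK⟩⟩
  · have h1 : Nat.card ↥(Qof L q ⊓ D) ∣ Nat.card (Qof L q) := Subgroup.card_dvd_of_le inf_le_left
    have h2 : Nat.card ↥(Qof L q ⊓ D) ∣ Nat.card D := Subgroup.card_dvd_of_le inf_le_right
    exact Subgroup.card_eq_one.mp (Nat.eq_one_of_dvd_coprimes hcopQD h1 h2)
  · rw [hQr, mul_comm]; exact e1

variable {D : Subgroup X} (hD : IsD L K q D)
include hD

/-- every complement of `Q` in `L` is an `L`-conjugate of `D` -/
theorem exists_conj {D₂ : Subgroup X} (hD₂ : Cfsg.IsComplIn (Qof L q) D₂ L) :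
    ∃ g ∈ L, MulAut.conj g • D = D₂ := by
  haveI := h.solv
  haveI hQn : (Qof L q).Normal := Qof_normal h.normal q
  obtain ⟨hQL, hD₂L, hinf, hmul⟩ := hD₂
  haveI : ((Qof L q).subgroupOf L).Normal := hQn.subgroupOf L
  have c1 : Nat.card ((Qof L q).subgroupOf L) = Nat.card (Qof L q) :=
    Cfsg.Agent.Helper1.card_subgroupOf_of_le hQL
  have c2 : Nat.card (D.subgroupOf L) = Nat.card D :=
    Cfsg.Agent.Helper1.card_subgroupOf_of_le hD.le
  have hcop : (Nat.card ((Qof L q).subgroupOf L)).Coprime (Nat.card (D.subgroupOf L)) := by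
    rw [c1, c2]
    exact Nat.Coprime.coprime_dvd_right (Subgroup.card_dvd_of_le le_sup_left) (h.coprime_Q_DK hD)
  have hH : IsComplement' ((Qof L q).subgroupOf L) (D.subgroupOf L) :=
    Subgroup.isComplement'_of_coprime (by rw [c1, c2, hD.card]) hcop
  have hK : IsComplement' ((Qof L q).subgroupOf L) (D₂.subgroupOf L) := by
    apply Subgroup.isComplement'_of_disjoint_and_mul_eq_univ
    · rw [disjoint_iff, eq_bot_iff]
      intro x hx
      have hx1 : (x : X) ∈ Qof L q := Subgroup.mem_subgroupOf.mp hx.1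
      have hx2 : (x : X) ∈ D₂ := Subgroup.mem_subgroupOf.mp hx.2
      have hx3 : (x : X) ∈ Qof L q ⊓ D₂ := ⟨hx1, hx2⟩
      rw [hinf, Subgroup.mem_bot] at hx3
      rw [Subgroup.mem_bot]
      exact Subtype.ext hx3
    · rw [Set.eq_univ_iff_forall]
      intro m
      obtain ⟨a, ha, b, hb, hm⟩ := hmul m m.2
      refine ⟨⟨a, hQL ha⟩, Subgroup.mem_subgroupOf.mpr ha, ⟨b, hD₂L hb⟩,
        Subgroup.mem_subgroupOf.mpr hb, ?_⟩
      exact Subtype.ext hm.symm
  obtain ⟨g, hg⟩ := Cfsg.Agent.Helper1.sz_conj ((Qof L q).subgroupOf L) (D.subgroupOf L)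
    (D₂.subgroupOf L) hcop hH hK (Or.inl inferInstance)
  exact ⟨g, g.2, Cfsg.Agent.Helper1.conj_of_subgroupOf hD.le hD₂L g hg⟩

/-- `Q ∩ C(gDg⁻¹) = Q ∩ C(D)` -/
theorem Q0_conj (g : X) :
    Qof L q ⊓ centralizer ((MulAut.conj g • D : Subgroup X) : Set X) =
      Qof L q ⊓ centralizer (D : Set X) := by
  have hQn : (Qof L q).Normal := Qof_normal h.normal q
  have hQ0n := h.Q0_normal hD
  ext x
  constructor
  · intro hx
    have hx1 : x ∈ Qof L q := (Subgroup.mem_inf.mp hx).1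
    have hx2 := Subgroup.mem_centralizer_iff.mp (Subgroup.mem_inf.mp hx).2
    have hy : g⁻¹ * x * g ∈ Qof L q ⊓ centralizer (D : Set X) := by
      refine Subgroup.mem_inf.mpr ⟨by simpa using hQn.conj_mem x hx1 g⁻¹, ?_⟩
      rw [Subgroup.mem_centralizer_iff]
      intro d hd
      have hz : g * d * g⁻¹ ∈ MulAut.conj g • D := Cfsg.Agent.Helper1.conj_mem_conj_smul hd
      have := hx2 _ hz
      calc d * (g⁻¹ * x * g) = g⁻¹ * ((g * d * g⁻¹) * x) * g := by group
        _ = g⁻¹ * (x * (g * d * g⁻¹)) * g := by rw [this]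
        _ = g⁻¹ * x * g * d := by group
    have := hQ0n.conj_mem _ hy g
    have e : g * (g⁻¹ * x * g) * g⁻¹ = x := by group
    rwa [e] at this
  · intro hx
    have hx1 : x ∈ Qof L q := (Subgroup.mem_inf.mp hx).1
    have hy : g⁻¹ * x * g ∈ Qof L q ⊓ centralizer (D : Set X) := by
      simpa using hQ0n.conj_mem x hx g⁻¹
    have hy2 := Subgroup.mem_centralizer_iff.mp (Subgroup.mem_inf.mp hy).2
    refine Subgroup.mem_inf.mpr ⟨hx1, ?_⟩
    rw [Subgroup.mem_centralizer_iff]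
    intro z hz
    have hz' : g⁻¹ * z * g ∈ D := Cfsg.Agent.Helper1.mem_conj_smul.mp hz
    have := hy2 _ hz'
    calc z * x = g * ((g⁻¹ * z * g) * (g⁻¹ * x * g)) * g⁻¹ := by group
      _ = g * ((g⁻¹ * x * g) * (g⁻¹ * z * g)) * g⁻¹ := by rw [this]
      _ = x * z := by group

omit hD in
/-- **Abstract core of B-G Corollary 15.3.** -/
theorem core :
    (Nat.card K).Prime ∧ Qof L q ≤ L ∧ (Qof L q).Normal ∧ IsPGroup q ↥(Qof L q) ∧
      ¬ q ∣ (Qof L q).relIndex L ∧ L ⊓ centralizer (K : Set X) ≤ Qof L q ∧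
      ∀ D₂ : Subgroup X, Cfsg.IsComplIn (Qof L q) D₂ L →
        Group.IsNilpotent ↥D₂ ∧ (Qof L q ⊓ centralizer (D₂ : Set X)).Normal ∧
        Qof L q ⊓ centralizer (D₂ : Set X) < Qof L q ∧
        Nat.card (Qof L q) = Nat.card ↥(Qof L q ⊓ centralizer (D₂ : Set X)) * q ^ Nat.card K ∧
        (∀ a ∈ Qof L q, ∀ b ∈ Qof L q, a ^ q ∈ Qof L q ⊓ centralizer (D₂ : Set X) ∧
          a * b * a⁻¹ * b⁻¹ ∈ Qof L q ⊓ centralizer (D₂ : Set X)) ∧
        (∀ N : Subgroup X, N.Normal → Qof L q ⊓ centralizer (D₂ : Set X) < N → N < Qof L q →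
          False) ∧
        ⁅D₂, D₂⁆ ≤ centralizer ((Qof L q : Subgroup X) : Set X) := by
  obtain ⟨D, hD⟩ := h.exists_IsD
  have hQn : (Qof L q).Normal := Qof_normal h.normal q
  refine ⟨h.card_K_prime hD, Qof_le L q, hQn, Qof_isPGroup L q, h.not_dvd_relIndex, h.C_le_Q, ?_⟩
  intro D₂ hD₂
  obtain ⟨g, hgL, rfl⟩ := h.exists_conj hD hD₂
  rw [h.Q0_conj hD g]
  refine ⟨?_, h.Q0_normal hD, lt_of_le_of_ne inf_le_left (h.Q0_ne_Q hD), ?_, h.pow_comm_mem_Q0 hD,
    ?_, ?_⟩
  · haveI := h.D_nilpotent hD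
    exact Group.nilpotent_of_mulEquiv (Subgroup.equivSMul (MulAut.conj g) D)
  · rw [h.card_Q_eq hD (E := K) le_rfl h.K_ne, mul_comm]
  · intro N hN h0 h1
    have hinv : D ⊔ K ≤ normalizer (N : Set X) := by
      rw [Subgroup.normalizer_eq_top_iff.mpr hN]; exact le_top
    rcases h.chief hD hinv h0.le h1.le with hc | hc
    · exact h0.ne' hc
    · exact h1.ne hc
  · have hCn : (centralizer ((Qof L q : Subgroup X) : Set X)).Normal := by
      rw [← Subgroup.normalizer_eq_top_iff, eq_top_iff]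
      intro x _
      exact mem_normalizer_centralizer (by rw [Subgroup.normalizer_eq_top_iff.mpr hQn]; trivial)
    rw [Subgroup.commutator_le]
    intro a ha b hb
    have ha' : g⁻¹ * a * g ∈ D := Cfsg.Agent.Helper1.mem_conj_smul.mp ha
    have hb' : g⁻¹ * b * g ∈ D := Cfsg.Agent.Helper1.mem_conj_smul.mp hb
    have hc : ⁅g⁻¹ * a * g, g⁻¹ * b * g⁆ ∈ centralizer ((Qof L q : Subgroup X) : Set X) :=
      h.commutator_D_le hD (Subgroup.commutator_mem_commutator ha' hb')
    have := hCn.conj_mem _ hc g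
    have e : g * ⁅g⁻¹ * a * g, g⁻¹ * b * g⁆ * g⁻¹ = ⁅a, b⁆ := by
      simp only [commutatorElement_def]; group
    rwa [e] at this

end Hyp

end Cfsg.Agent.Helper35.BG153
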