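import Mathlib
import Cfsg.Prelude.Def_OddOrderLocal
import Cfsg.Agent.Helper35.BG153G

/-!
# Bender-Glauberman Corollary 15.3, abstract core for subgroups of an ambient group (helper35)

`Hyp.core` transported to a subgroup `M` of an ambient group `G` (`L`, `K` subgroups of `G` inside `M`).
-/

set_option autoImplicit false
set_option linter.unusedSectionVars false
set_option linter.style.haveILetI false

namespace Cfsg.Agent.Helper35.BG153

open Subgroup Cfsg
open scoped commutatorElement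

variable {G : Type*} [Group G]

theorem mem_centralizer_subgroupOf_iff {M A : Subgroup G} (hAM : A ≤ M) (y : ↥M) :
    y ∈ centralizer ((A.subgroupOf M : Subgroup ↥M) : Set ↥M) ↔ (y : G) ∈ centralizer (A : Set G) := by
  rw [Subgroup.mem_centralizer_iff, Subgroup.mem_centralizer_iff]
  constructor
  · intro h a ha
    have := h ⟨a, hAM ha⟩ (Subgroup.mem_subgroupOf.mpr ha)
    exact congrArg Subtype.val this
  · intro h z hz
    exact Subtype.ext (h (z : G) (Subgroup.mem_subgroupOf.mp hz))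

theorem mem_centralizer_singleton_iff {M : Subgroup G} (x y : ↥M) :
    y ∈ centralizer ({x} : Set ↥M) ↔ (y : G) ∈ centralizer ({(x : G)} : Set G) := by
  rw [Subgroup.mem_centralizer_iff, Subgroup.mem_centralizer_iff]
  constructor
  · intro h a ha
    rw [Set.mem_singleton_iff] at ha
    subst ha
    exact congrArg Subtype.val (h x rfl)
  · intro h z hz
    rw [Set.mem_singleton_iff] at hz
    subst hz
    exact Subtype.ext (h (z : G) rfl)

/-- `(B' ∩ C_M(A')).map = B ∩ C_G(A)` for `A, B ≤ M` -/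
theorem map_inf_centralizer {M A B : Subgroup G} (hAM : A ≤ M) (hBM : B ≤ M) :
    (B.subgroupOf M ⊓ centralizer ((A.subgroupOf M : Subgroup ↥M) : Set ↥M)).map M.subtype =
      B ⊓ centralizer (A : Set G) := by
  ext x
  constructor
  · rintro ⟨y, hy, rfl⟩
    exact ⟨Subgroup.mem_subgroupOf.mp hy.1, (mem_centralizer_subgroupOf_iff hAM y).mp hy.2⟩
  · intro hx
    exact ⟨⟨x, hBM hx.1⟩, ⟨Subgroup.mem_subgroupOf.mpr hx.1,
      (mem_centralizer_subgroupOf_iff hAM ⟨x, hBM hx.1⟩).mpr hx.2⟩, rfl⟩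

theorem le_normalizer_map_of_normal {M : Subgroup G} (N : Subgroup ↥M) [hN : N.Normal] :
    M ≤ normalizer ((N.map M.subtype : Subgroup G) : Set G) := by
  refine Cfsg.Agent.Helper64.BG126.le_normalizer_of_conj_mem ?_
  rintro m hm _ ⟨n, hn, rfl⟩
  exact ⟨⟨m, hm⟩ * n * ⟨m, hm⟩⁻¹, hN.conj_mem n hn ⟨m, hm⟩, rfl⟩

theorem normal_subgroupOf_of_le_normalizer' {M N : Subgroup G} (hN : M ≤ normalizer (N : Set G)) :
    (N.subgroupOf M).Normal :=
  Subgroup.normal_subgroupOf_of_le_normalizer hN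


/-- `(A' ∩ C_M(D'))` mapped to `G`, for arbitrary `A' ≤ M` -/
theorem map_inf_centralizer' {M D : Subgroup G} (hDM : D ≤ M) (A' : Subgroup ↥M) :
    (A' ⊓ centralizer ((D.subgroupOf M : Subgroup ↥M) : Set ↥M)).map M.subtype =
      A'.map M.subtype ⊓ centralizer (D : Set G) := by
  ext x
  constructor
  · rintro ⟨y, hy, rfl⟩
    exact ⟨⟨y, hy.1, rfl⟩, (mem_centralizer_subgroupOf_iff hDM y).mp hy.2⟩
  · rintro ⟨⟨y, hy, rfl⟩, hx2⟩
    exact ⟨y, ⟨hy, (mem_centralizer_subgroupOf_iff hDM y).mpr hx2⟩, rfl⟩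

theorem subgroupOf_map_subtype_self {M : Subgroup G} (A' : Subgroup ↥M) :
    (A'.map M.subtype).subgroupOf M = A' := by
  ext y
  rw [Subgroup.mem_subgroupOf]
  constructor
  · rintro ⟨z, hz, hzy⟩
    have : z = y := Subtype.ext hzy
    exact this ▸ hz
  · intro hy
    exact ⟨y, hy, rfl⟩

variable [Finite G]

/-- the hypotheses of the abstract core, transported to a subgroup `M` of `G` -/
theorem hyp_sub {M L K : Subgroup G} {q : ℕ}
    (hsolv : Group.IsSolvable ↥M) (hodd : Odd (Nat.card ↥M))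
    (hLM : L ≤ M) (hKM : K ≤ M) (hLn : M ≤ normalizer (L : Set G)) (hsup : L ⊔ K = M)
    (hcop : (Nat.card L).Coprime (Nat.card K)) (hK : K ≠ ⊥)
    (hact : ∀ x ∈ K, x ≠ 1 → L ⊓ centralizer ({x} : Set G) = L ⊓ centralizer (K : Set G))
    (hq : q.Prime) (hC : Nat.card ↥(L ⊓ centralizer (K : Set G)) = q)
    (hcomm : ⁅L, K⁆ = L) (hnil : ¬ Group.IsNilpotent ↥L) :
    Hyp (L.subgroupOf M) (K.subgroupOf M) q where
  solv := hsolv
  odd := hodd
  normal := Subgroup.normal_subgroupOf_of_le_normalizer hLn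
  sup := by
    rw [← Subgroup.subgroupOf_sup hLM hKM, hsup, Subgroup.subgroupOf_self]
  cop := by
    rw [Nat.card_congr (Subgroup.subgroupOfEquivOfLe hLM).toEquiv,
      Nat.card_congr (Subgroup.subgroupOfEquivOfLe hKM).toEquiv]
    exact hcop
  K_ne := by
    intro h
    rw [Subgroup.subgroupOf_eq_bot, disjoint_iff, inf_eq_left.mpr hKM] at h
    exact hK h
  prime_act := by
    intro x hx hx1
    have hx' : (x : G) ∈ K := Subgroup.mem_subgroupOf.mp hx
    have hx1' : (x : G) ≠ 1 := fun h => hx1 (Subtype.ext h)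
    have key := hact (x : G) hx' hx1'
    ext y
    rw [Subgroup.mem_inf, Subgroup.mem_inf, mem_centralizer_singleton_iff,
      mem_centralizer_subgroupOf_iff hKM, Subgroup.mem_subgroupOf]
    have e1 : (y : G) ∈ L ⊓ centralizer ({(x : G)} : Set G) ↔
        (y : G) ∈ L ⊓ centralizer (K : Set G) := by rw [key]
    rw [Subgroup.mem_inf, Subgroup.mem_inf] at e1
    exact e1
  q_prime := hq
  card_C := by
    rw [← Subgroup.card_map_of_injective M.subtype_injective, map_inf_centralizer hKM hLM]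
    exact hC
  comm := by
    apply Subgroup.map_injective M.subtype_injective
    rw [Subgroup.map_commutator, Subgroup.map_subgroupOf_eq_of_le hLM,
      Subgroup.map_subgroupOf_eq_of_le hKM]
    exact hcomm
  not_nil := by
    intro h
    exact hnil (Group.nilpotent_of_mulEquiv (Subgroup.subgroupOfEquivOfLe hLM))


/-- **Abstract core of B-G Corollary 15.3 for a subgroup `M = L K` of `G`.** -/
theorem core_sub {M L K : Subgroup G} {q : ℕ}
    (hsolv : Group.IsSolvable ↥M) (hodd : Odd (Nat.card ↥M))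
    (hLM : L ≤ M) (hKM : K ≤ M) (hLn : M ≤ normalizer (L : Set G)) (hsup : L ⊔ K = M)
    (hcop : (Nat.card L).Coprime (Nat.card K)) (hK : K ≠ ⊥)
    (hact : ∀ x ∈ K, x ≠ 1 → L ⊓ centralizer ({x} : Set G) = L ⊓ centralizer (K : Set G))
    (hq : q.Prime) (hC : Nat.card ↥(L ⊓ centralizer (K : Set G)) = q)
    (hcomm : ⁅L, K⁆ = L) (hnil : ¬ Group.IsNilpotent ↥L) :
    (Nat.card K).Prime ∧ ∃ Q : Subgroup G, Q ≤ L ∧ M ≤ normalizer (Q : Set G) ∧ IsPGroup q ↥Q ∧
      ¬ q ∣ Q.relIndex L ∧ L ⊓ centralizer (K : Set G) ≤ Q ∧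
      ∀ D : Subgroup G, Cfsg.IsComplIn Q D L →
        Group.IsNilpotent ↥D ∧
        M ≤ normalizer ((Q ⊓ centralizer (D : Set G) : Subgroup G) : Set G) ∧
        Q ⊓ centralizer (D : Set G) < Q ∧
        Nat.card Q = Nat.card ↥(Q ⊓ centralizer (D : Set G)) * q ^ Nat.card K ∧
        (∀ a ∈ Q, ∀ b ∈ Q, a ^ q ∈ Q ⊓ centralizer (D : Set G) ∧
          a * b * a⁻¹ * b⁻¹ ∈ Q ⊓ centralizer (D : Set G)) ∧
        (∀ N : Subgroup G, Q ⊓ centralizer (D : Set G) < N → N < Q →
          ¬ M ≤ normalizer (N : Set G)) ∧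
        ⁅D, D⁆ ≤ centralizer (Q : Set G) := by
  have h := hyp_sub hsolv hodd hLM hKM hLn hsup hcop hK hact hq hC hcomm hnil
  obtain ⟨c1, c2, c3, c4, c5, c6, c7⟩ := h.core
  have hinj := M.subtype_injective
  set Q' : Subgroup ↥M := Qof (L.subgroupOf M) q with hQ'
  have hQL : Q'.map M.subtype ≤ L := by
    have := Subgroup.map_mono (f := M.subtype) c2
    rwa [Subgroup.map_subgroupOf_eq_of_le hLM] at this
  have hQM : Q'.map M.subtype ≤ M := hQL.trans hLM
  refine ⟨?_, Q'.map M.subtype, hQL, ?_, ?_, ?_, ?_, ?_⟩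
  · rwa [Nat.card_congr (Subgroup.subgroupOfEquivOfLe hKM).toEquiv] at c1
  · haveI := c3
    exact le_normalizer_map_of_normal Q'
  · exact c4.of_equiv (Subgroup.equivMapOfInjective Q' M.subtype hinj)
  · have e := Subgroup.relIndex_map_map_of_injective Q' (L.subgroupOf M) hinj
    rw [Subgroup.map_subgroupOf_eq_of_le hLM] at e
    rw [e]
    exact c5
  · have := Subgroup.map_mono (f := M.subtype) c6
    rwa [map_inf_centralizer hKM hLM] at this
  · intro D hD
    obtain ⟨hD1, hD2, hD3, hD4⟩ := hD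
    have hDM : D ≤ M := hD2.trans hLM
    have hcompl : Cfsg.IsComplIn Q' (D.subgroupOf M) (L.subgroupOf M) := by
      refine ⟨c2, ?_, ?_, ?_⟩
      · intro y hy
        exact Subgroup.mem_subgroupOf.mpr (hD2 (Subgroup.mem_subgroupOf.mp hy))
      · rw [eq_bot_iff]
        rintro y ⟨hy1, hy2⟩
        have : (y : G) ∈ Q'.map M.subtype ⊓ D :=
          ⟨⟨y, hy1, rfl⟩, Subgroup.mem_subgroupOf.mp hy2⟩
        rw [hD3, Subgroup.mem_bot] at this
        exact Subgroup.mem_bot.mpr (Subtype.ext this)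
      · intro m hm
        obtain ⟨a, ⟨a', ha', rfl⟩, b, hb, hab⟩ := hD4 (m : G) (Subgroup.mem_subgroupOf.mp hm)
        exact ⟨a', ha', ⟨b, hDM hb⟩, Subgroup.mem_subgroupOf.mpr hb, Subtype.ext hab⟩
    obtain ⟨d1, d2, d3, d4, d5, d6, d7⟩ := c7 (D.subgroupOf M) hcompl
    have hmap0 := map_inf_centralizer' hDM Q'
    refine ⟨?_, ?_, ?_, ?_, ?_, ?_, ?_⟩
    · haveI := d1
      exact Group.nilpotent_of_mulEquiv (Subgroup.subgroupOfEquivOfLe hDM)
    · haveI := d2
      rw [← hmap0]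
      exact le_normalizer_map_of_normal _
    · rw [← hmap0]
      exact (Subgroup.map_lt_map_iff_of_injective hinj).mpr d3
    · rw [← hmap0, Subgroup.card_map_of_injective hinj, Subgroup.card_map_of_injective hinj,
        ← Nat.card_congr (Subgroup.subgroupOfEquivOfLe hKM).toEquiv]
      exact d4
    · rintro a ⟨a', ha', rfl⟩ b ⟨b', hb', rfl⟩
      obtain ⟨e1, e2⟩ := d5 a' ha' b' hb'
      rw [← hmap0]
      exact ⟨⟨a' ^ q, e1, by simp⟩, ⟨a' * b' * a'⁻¹ * b'⁻¹, e2, by simp⟩⟩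
    · intro N hN1 hN2 hNM
      have hNleM : N ≤ M := hN2.le.trans hQM
      haveI : (N.subgroupOf M).Normal := Subgroup.normal_subgroupOf_of_le_normalizer hNM
      refine d6 (N.subgroupOf M) inferInstance ?_ ?_
      · rw [← Subgroup.map_lt_map_iff_of_injective hinj, hmap0,
          Subgroup.map_subgroupOf_eq_of_le hNleM]
        exact hN1
      · rw [← Subgroup.map_lt_map_iff_of_injective hinj, Subgroup.map_subgroupOf_eq_of_le hNleM]
        exact hN2
    · rw [Subgroup.commutator_le]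
      intro a ha b hb
      have hc : ⁅(⟨a, hDM ha⟩ : ↥M), ⟨b, hDM hb⟩⁆ ∈ centralizer ((Q' : Subgroup ↥M) : Set ↥M) :=
        d7 (Subgroup.commutator_mem_commutator (Subgroup.mem_subgroupOf.mpr ha)
          (Subgroup.mem_subgroupOf.mpr hb))
      rw [Subgroup.mem_centralizer_iff] at hc ⊢
      rintro _ ⟨z, hz, rfl⟩
      have := congrArg Subtype.val (hc z hz)
      simpa [commutatorElement_def] using this

end Cfsg.Agent.Helper35.BG153
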