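import Mathlib
import Cfsg.Prelude.Def_OddOrderLocal
import Cfsg.Prelude.Def_OddOrder
import Cfsg.Agent.S1350
import Cfsg.Agent.Helper23.FittingHall
import Cfsg.Agent.Helper60.BGAsmB
import Cfsg.Agent.Helper60.BGAsmD
import Cfsg.Agent.Helper62.FrobActGroup
import Cfsg.Agent.Helper35.BG153H

/-!
# Bender-Glauberman section 15: generic lemmas for the assembly of Theorem 15.2 / Corollary 15.3
(helper35)

* `M_F ≤ M_σ`, and `M_F = M_σ` when `M_σ` is nilpotent;
* a Hall `(κ ∪ σ)'`-subgroup normalized by `K` gives a standard factorisation;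
* `U = 1` in `M = K U M_σ` makes `K` a complement of `M_σ`;
* `card_prime_of_fpf`: a group `R` acting on `H` in a prime manner, `U R` Frobenius-like, and
  `C_H(R)` not centralized by `U`: then `|R|` is prime.
-/

set_option autoImplicit false
set_option linter.unusedSectionVars false
set_option linter.style.haveILetI false

namespace Cfsg.Agent.Helper35.BG153

open Subgroup Cfsg

theorem isNilpotent_of_le' {G : Type*} [Group G] {L H : Subgroup G} (h : L ≤ H)
    (hH : Group.IsNilpotent ↥H) : Group.IsNilpotent ↥L := by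
  haveI := hH
  haveI : Group.IsNilpotent ↥(L.subgroupOf H) := inferInstance
  exact Group.nilpotent_of_mulEquiv (Subgroup.subgroupOfEquivOfLe h)

theorem isSolvable_of_le' {G : Type*} [Group G] {L H : Subgroup G} (h : L ≤ H)
    (hH : Group.IsSolvable ↥H) : Group.IsSolvable ↥L := by
  haveI := hH
  exact Group.isSolvable_of_isSolvable_injective (Subgroup.inclusion_injective h)

theorem fittingHall_isNilpotent' (H : Type*) [Group H] [Finite H] :
    Group.IsNilpotent ↥(Cfsg.fittingHall H) := by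
  have hle : Cfsg.fittingHall H ≤ Cfsg.fittingSubgroup H := by
    apply sSup_le
    intro N hN
    exact Cfsg.Agent.Lib.le_fittingSubgroup hN.1 hN.2.1
  exact isNilpotent_of_le' hle Cfsg.Agent.Lib.isNilpotent_fittingSubgroup

variable {G : Type*} [Group G] [Finite G]

/-- `M_F ≤ M_σ`: the primes of a normal nilpotent Hall subgroup of a maximal subgroup are in `σ(M)`. -/
theorem fittingHallOf_le_sigmaCore (hG : Cfsg.IsMinSimpleOddOrder G) {M : Subgroup G}
    (hM : IsCoatom M) : Cfsg.fittingHallOf M ≤ Cfsg.sigmaCore M := by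
  unfold Cfsg.fittingHallOf Cfsg.sigmaCore
  apply Subgroup.map_mono
  apply le_sSup
  refine ⟨Cfsg.fittingHall_normal ↥M, ?_⟩
  intro p hp hpF
  haveI : Fact p.Prime := ⟨hp⟩
  haveI hFnil := fittingHall_isNilpotent' ↥M
  have hFcop := Cfsg.Agent.Helper23.fittingHall_coprime ↥M
  obtain ⟨P⟩ : Nonempty (Sylow p ↥(Cfsg.fittingHall ↥M)) := inferInstance
  haveI hPn : (P : Subgroup ↥(Cfsg.fittingHall ↥M)).Normal :=
    Sylow.normal_of_normalizerCondition Group.normalizerCondition_of_isNilpotent P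
  haveI hPc : (P : Subgroup ↥(Cfsg.fittingHall ↥M)).Characteristic :=
    Sylow.characteristic_of_normal P hPn
  haveI hFn : (Cfsg.fittingHall ↥M).Normal := Cfsg.fittingHall_normal ↥M
  set P' : Subgroup ↥M := (P : Subgroup ↥(Cfsg.fittingHall ↥M)).map (Cfsg.fittingHall ↥M).subtype
    with hP'
  haveI hP'n : P'.Normal := ConjAct.normal_of_characteristic_of_normal
  have hP'p : IsPGroup p ↥P' := P.2.map _
  have hidx : ¬ p ∣ P'.index := by
    rw [hP', Subgroup.index_map_subtype]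
    intro hd
    rcases (Nat.Prime.dvd_mul hp).mp hd with h1 | h1
    · exact P.not_dvd_index h1
    · exact hp.one_lt.ne' (Nat.eq_one_of_dvd_coprimes hFcop hpF h1)
  have hP'1 : P' ≠ ⊥ := by
    intro hb
    have h1 : Nat.card ↥P' = 1 := by rw [hb, Subgroup.card_bot]
    have h2 : Nat.card ↥P' = Nat.card ↥(P : Subgroup ↥(Cfsg.fittingHall ↥M)) :=
      Subgroup.card_map_of_injective (Subgroup.subtype_injective _)
    have h3 : p ∣ Nat.card ↥(P : Subgroup ↥(Cfsg.fittingHall ↥M)) := P.dvd_card_of_dvd_card hpF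
    rw [← h2, h1] at h3
    exact hp.one_lt.ne' (Nat.dvd_one.mp h3)
  refine ⟨hp, ?_, hP'p.toSylow hidx, ?_⟩
  · exact hpF.trans (Subgroup.card_subgroup_dvd_card _)
  · rw [IsPGroup.toSylow_coe]
    set P'' : Subgroup G := P'.map M.subtype with hP''
    have h1 : M ≤ normalizer (P'' : Set G) := le_normalizer_map_of_normal P'
    have h2 : normalizer (P'' : Set G) ≠ ⊤ := by
      intro ht
      have hn : P''.Normal := Subgroup.normalizer_eq_top_iff.mp ht
      have hs : IsSimpleGroup G := hG.2.1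
      rcases hn.eq_bot_or_eq_top with h3 | h3
      · apply hP'1
        rw [hP''] at h3
        exact (Subgroup.map_eq_bot_iff_of_injective _ M.subtype_injective).mp h3
      · have : P'' ≤ M := Subgroup.map_subtype_le _
        rw [h3] at this
        exact hM.1 (top_le_iff.mp this)
    exact ((hM.le_iff_eq h2).mp h1).le


/-- if `M_σ` is nilpotent then `M_F = M_σ` -/
theorem fittingHallOf_eq_sigmaCore_of_isNilpotent (hG : Cfsg.IsMinSimpleOddOrder G) {M : Subgroup G}
    (hM : IsCoatom M) (hn : Group.IsNilpotent ↥(Cfsg.sigmaCore M)) :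
    Cfsg.fittingHallOf M = Cfsg.sigmaCore M := by
  apply le_antisymm (fittingHallOf_le_sigmaCore hG hM)
  have h50 := (Cfsg.Agent.S1350.result hG M hM).1
  unfold Cfsg.fittingHallOf Cfsg.sigmaCore
  apply Subgroup.map_mono
  have h1 : Nat.card (Cfsg.sigmaCore M) = Nat.card (Cfsg.piCore (Cfsg.sigma M) ↥M) :=
    Subgroup.card_subtype _ _
  have h2 : (Cfsg.sigmaCore M).relIndex M = (Cfsg.piCore (Cfsg.sigma M) ↥M).index := by
    unfold Cfsg.sigmaCore
    rw [Subgroup.relIndex, Subgroup.subgroupOf,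
      Subgroup.comap_map_eq_self_of_injective M.subtype_injective]
  apply Cfsg.Agent.Helper23.le_fittingHall (Cfsg.piCore_normal _ _)
  · haveI hn' : Group.IsNilpotent ↥((Cfsg.piCore (Cfsg.sigma M) ↥M).map M.subtype) := hn
    exact Group.nilpotent_of_mulEquiv
      (Subgroup.equivMapOfInjective _ M.subtype M.subtype_injective).symm
  · apply Nat.coprime_of_dvd
    intro q hq hq1 hq2
    have hqσ : q ∈ Cfsg.sigma M := h50.2.1 q hq (h1 ▸ hq1)
    exact h50.2.2 q hq hqσ (h2 ▸ hq2)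

/-- a Hall `(κ(M) ∪ σ(M))'`-subgroup of `M` normalized by the cyclic Hall `κ(M)`-subgroup `K`
gives a standard factorisation (helper60's argument from `S1352`). -/
theorem isSigmaDecomposition_of_hall (hG : Cfsg.IsMinSimpleOddOrder G) {M : Subgroup G}
    (hM : IsCoatom M) {K U : Subgroup G} (hKc : IsCyclic K)
    (hK : Cfsg.IsPiHallOf (Cfsg.kappa M) K M)
    (hUH : Cfsg.IsPiHallOf {q | q.Prime ∧ q ∉ Cfsg.kappa M ∧ q ∉ Cfsg.sigma M} U M)
    (hKU : K ≤ Subgroup.normalizer (U : Set G)) : Cfsg.IsSigmaDecomposition M K U := by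
  have h50 := (Cfsg.Agent.S1350.result hG M hM).1
  refine ⟨hKc, hK, ?_, hKU⟩
  have hσ := Cfsg.Agent.Helper60.BGAsm.le_normalizer_sigmaCore M
  have hKσ : K ≤ Subgroup.normalizer ((Cfsg.sigmaCore M : Subgroup G) : Set G) := hK.1.trans hσ
  have hKS : K ⊔ Cfsg.sigmaCore M ≤ M := sup_le hK.1 (Cfsg.Agent.Helper60.BGAsm.sigmaCore_le' M)
  refine ⟨hUH.1, hKS, ?_, ?_⟩
  · rw [eq_bot_iff]
    intro x hx
    rw [Subgroup.mem_bot]
    by_contra hx1
    have h1 : orderOf x ≠ 1 := fun h => hx1 (orderOf_eq_one_iff.mp h)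
    obtain ⟨q, hq, hqx⟩ := Nat.exists_prime_and_dvd h1
    have h2 : orderOf x ∣ Nat.card U := Subgroup.orderOf_dvd_natCard U hx.1
    have h3 : orderOf x ∣ Nat.card K * Nat.card (Cfsg.sigmaCore M) := by
      have h4 := Subgroup.orderOf_dvd_natCard (K ⊔ Cfsg.sigmaCore M) hx.2
      exact h4.trans (Cfsg.Agent.Helper22.card_sup_dvd_of_le_normalizer K _ hKσ)
    have h5 := hUH.2.1 q hq (hqx.trans h2)
    rcases (Nat.Prime.dvd_mul hq).mp (hqx.trans h3) with h6 | h6
    · exact h5.2.1 (hK.2.1 q hq h6)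
    · exact h5.2.2 (h50.2.1 q hq h6)
  · have hcover : M ≤ (U ⊔ Cfsg.sigmaCore M) ⊔ K := by
      apply Cfsg.Agent.Helper60.BGAsm.le_sup_of_hall_cover
      intro q hq
      by_cases h1 : q ∈ Cfsg.sigma M
      · exact ⟨Cfsg.sigmaCore M, le_sup_right.trans le_sup_left, h50.2.2 q hq h1⟩
      · by_cases h2 : q ∈ Cfsg.kappa M
        · exact ⟨K, le_sup_right, hK.2.2 q hq h2⟩
        · exact ⟨U, le_sup_left.trans le_sup_left, hUH.2.2 q hq ⟨hq, h2, h1⟩⟩
    have hUσ : U ≤ Subgroup.normalizer ((Cfsg.sigmaCore M : Subgroup G) : Set G) := hUH.1.trans hσ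
    have hKn : K ≤ Subgroup.normalizer ((U ⊔ Cfsg.sigmaCore M : Subgroup G) : Set G) := fun k hk =>
      Cfsg.Agent.Helper60.BGAsm.mem_normalizer_sup (hKU hk) (hKσ hk)
    intro m hm
    have h1 : m ∈ ((((U ⊔ Cfsg.sigmaCore M) ⊔ K : Subgroup G)) : Set G) := hcover hm
    rw [Subgroup.coe_mul_of_right_le_normalizer_left _ _ hKn] at h1
    obtain ⟨y, hy, k, hk, rfl⟩ := h1
    have h2 : y ∈ ((U ⊔ Cfsg.sigmaCore M : Subgroup G) : Set G) := hy
    rw [Subgroup.coe_mul_of_left_le_normalizer_right _ _ hUσ] at h2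
    obtain ⟨u, hu, s, hs, rfl⟩ := h2
    refine ⟨u, hu, s * k, ?_, by simp only [mul_assoc]⟩
    exact Subgroup.mul_mem _ (Subgroup.mem_sup_right hs) (Subgroup.mem_sup_left hk)

/-- in a standard factorisation with `U = 1`, `K` is a complement of `M_σ` in `M` -/
theorem isComplIn_of_U_eq_bot (hG : Cfsg.IsMinSimpleOddOrder G) {M : Subgroup G}
    (hM : IsCoatom M) {K U : Subgroup G} (hKU : Cfsg.IsSigmaDecomposition M K U) (hU : U = ⊥) :
    Cfsg.IsComplIn K (Cfsg.sigmaCore M) M ∧ Cfsg.sigmaCore M ⊔ K = M := by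
  have h50 := (Cfsg.Agent.S1350.result hG M hM).1
  have hK := hKU.hall
  have hσ := Cfsg.Agent.Helper60.BGAsm.le_normalizer_sigmaCore M
  have hKσ : K ≤ Subgroup.normalizer ((Cfsg.sigmaCore M : Subgroup G) : Set G) := hK.1.trans hσ
  have hle : M ≤ K ⊔ Cfsg.sigmaCore M := by
    intro m hm
    obtain ⟨a, ha, b, hb, rfl⟩ := hKU.compl.2.2.2 m hm
    rw [hU, Subgroup.mem_bot] at ha
    rw [ha, one_mul]; exact hb
  have hsup : K ⊔ Cfsg.sigmaCore M = M := le_antisymm hKU.compl.2.1 hle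
  refine ⟨⟨hK.1, Cfsg.Agent.Helper60.BGAsm.sigmaCore_le' M, ?_, ?_⟩, by rw [sup_comm]; exact hsup⟩
  · apply Cfsg.Agent.Helper60.BGAsm.inf_eq_bot_of_coprime_card
    apply Nat.coprime_of_dvd
    intro q hq hq1 hq2
    exact (hK.2.1 q hq hq1).2.2.1 (h50.2.1 q hq hq2)
  · intro m hm
    have h1 : m ∈ ((K ⊔ Cfsg.sigmaCore M : Subgroup G) : Set G) := hle hm
    rw [Subgroup.coe_mul_of_left_le_normalizer_right _ _ hKσ] at h1
    obtain ⟨k, hk, s, hs, rfl⟩ := h1
    exact ⟨k, hk, s, hs, rfl⟩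


/-- `R` acts on `H` in a prime manner, `U R` is Frobenius-like (no nonidentity element of `R`
centralizes a nonidentity element of `U`), `U R` acts coprimely on the solvable group `H`, and
`U` does not centralize `C_H(R)`: then `|R|` is prime. -/
theorem card_prime_of_fpf {X : Type*} [Group X] [Finite X] (U R H : Subgroup X) (hR1 : R ≠ ⊥)
    (hUn : ∀ e ∈ R, ∀ u ∈ U, e * u * e⁻¹ ∈ U)
    (hfpf : ∀ e ∈ R, e ≠ 1 → ∀ u ∈ U, e * u = u * e → u = 1)
    (hinv : ∀ x ∈ U ⊔ R, ∀ h ∈ H, x * h * x⁻¹ ∈ H) (hsolv : Group.IsSolvable ↥H)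
    (hcop : (Nat.card H).Coprime (Nat.card ↥(U ⊔ R)))
    (hpr : ∀ e ∈ R, e ≠ 1 → H ⊓ centralizer ({e} : Set X) = H ⊓ centralizer (R : Set X))
    (hne : ¬ H ⊓ centralizer (R : Set X) ≤ centralizer (U : Set X)) : (Nat.card R).Prime := by
  have key : ∀ E : Subgroup X, E ≤ R → E ≠ ⊥ →
      Nat.card ↥(H ⊓ centralizer (R : Set X) ⊓ centralizer (U : Set X)) ^ Nat.card E * Nat.card H =
      Nat.card ↥(H ⊓ centralizer (R : Set X)) ^ Nat.card E *
        Nat.card ↥(H ⊓ centralizer (U : Set X)) := by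
    intro E hE hE1
    have hUE : U ⊔ E ≤ U ⊔ R := sup_le_sup_left hE U
    have hf := Cfsg.Agent.Helper62.FrobAct.frobenius_fixed_point_formula U E hE1
      (fun e he u hu => hUn e (hE he) u hu)
      (fun e he he1 u hu hc => hfpf e (hE he) he1 u hu hc)
      _ H rfl (fun x hx h hh => hinv x (hUE hx) h hh) hsolv
      (Nat.Coprime.coprime_dvd_right (Subgroup.card_dvd_of_le hUE) hcop)
    have e1 : H ⊓ centralizer (E : Set X) = H ⊓ centralizer (R : Set X) := by
      obtain ⟨e, he, he1⟩ : ∃ e ∈ E, e ≠ 1 := by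
        obtain ⟨y, hy⟩ := (Subgroup.ne_bot_iff_exists_ne_one).mp hE1
        exact ⟨(y : X), y.2, fun hh => hy (Subtype.ext hh)⟩
      apply le_antisymm
      · intro x hx
        rw [← hpr e (hE he) he1]
        refine Subgroup.mem_inf.mpr ⟨hx.1, ?_⟩
        rw [Subgroup.mem_centralizer_iff]
        intro y hy
        rw [Set.mem_singleton_iff] at hy
        rw [hy]
        exact (Subgroup.mem_centralizer_iff.mp hx.2) e he
      · intro x hx
        exact ⟨hx.1, Subgroup.centralizer_le (by exact_mod_cast hE) hx.2⟩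
    have e2 : H ⊓ centralizer ((U ⊔ E : Subgroup X) : Set X) =
        H ⊓ centralizer (R : Set X) ⊓ centralizer (U : Set X) := by
      rw [centralizer_sup_eq, ← e1, inf_comm (centralizer (U : Set X)), ← inf_assoc]
    rw [e2, e1] at hf
    exact hf
  have hR1' : Nat.card R ≠ 1 := fun hh => hR1 (Subgroup.card_eq_one.mp hh)
  obtain ⟨p, hp, hpd⟩ := Nat.exists_prime_and_dvd hR1'
  haveI : Fact p.Prime := ⟨hp⟩
  obtain ⟨e, he⟩ := exists_prime_orderOf_dvd_card' (G := ↥R) p hpd
  have he' : orderOf (e : X) = p := by rw [Subgroup.orderOf_coe]; exact he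
  have hE : zpowers (e : X) ≤ R := (Subgroup.zpowers_le).mpr e.2
  have hE1 : zpowers (e : X) ≠ ⊥ := by
    intro hb
    have : Nat.card (zpowers (e : X)) = 1 := by rw [hb, Subgroup.card_bot]
    rw [Nat.card_zpowers, he'] at this
    exact hp.one_lt.ne' this
  have k1 := key _ hE hE1
  have k2 := key R le_rfl hR1
  rw [Nat.card_zpowers, he'] at k1
  by_contra hnp
  have hlt : p < Nat.card R :=
    lt_of_le_of_ne (Nat.le_of_dvd Nat.card_pos hpd) (fun h => hnp (h ▸ hp))
  obtain ⟨m, hm0, hd'⟩ : ∃ m, m ≠ 0 ∧ Nat.card R = p + m := ⟨Nat.card R - p, by omega, by omega⟩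
  rw [hd', pow_add, pow_add] at k2
  set a := Nat.card ↥(H ⊓ centralizer (R : Set X) ⊓ centralizer (U : Set X)) with ha
  set k := Nat.card ↥(H ⊓ centralizer (R : Set X)) with hk
  set c := Nat.card ↥(H ⊓ centralizer (U : Set X)) with hc
  set h := Nat.card H with hh
  have hT : 0 < a ^ p * h := Nat.mul_pos (pow_pos Nat.card_pos _) Nat.card_pos
  have k3 : a ^ m * (a ^ p * h) = k ^ m * (a ^ p * h) := by
    calc a ^ m * (a ^ p * h) = a ^ p * a ^ m * h := by ring
      _ = k ^ p * k ^ m * c := k2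
      _ = k ^ m * (k ^ p * c) := by ring
      _ = k ^ m * (a ^ p * h) := by rw [k1]
  have k4 : a ^ m = k ^ m := Nat.eq_of_mul_eq_mul_right hT k3
  have k5 : a = k := Nat.pow_left_injective hm0 k4
  have heq : H ⊓ centralizer (R : Set X) ⊓ centralizer (U : Set X) = H ⊓ centralizer (R : Set X) :=
    Subgroup.eq_of_le_of_card_ge inf_le_left (by rw [← ha, ← hk, k5])
  exact hne (inf_eq_left.mp heq)

end Cfsg.Agent.Helper35.BG153
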