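import Mathlib
import Cfsg.Prelude.Def_OddOrderLocal
import Cfsg.Prelude.Def_OddOrder
import Cfsg.Agent.Helper23.FittingHall
import Cfsg.Agent.Helper29.BenderA
import Cfsg.Agent.Helper65.Nilpotent
import Cfsg.Agent.Helper35.BG153I

/-!
# Bender-Glauberman Theorem 15.2(b),(c): generic lemmas (helper35)

* `F(M) ≤ C_M(M_F) M_F` for every finite `M`; equality when `C_M(M_F)` is nilpotent;
* `(N E)' ≤ N E'` for `N` normal;
* the join of two commuting nilpotent subgroups is nilpotent;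
* a normal `π`-subgroup lies in every Hall `π`-subgroup.
-/

set_option autoImplicit false
set_option linter.unusedSectionVars false
set_option linter.style.haveILetI false

namespace Cfsg.Agent.Helper35.BG152

open Subgroup Cfsg Cfsg.Agent.Helper35.BG153
open scoped commutatorElement

variable {G : Type*} [Group G]

theorem fittingHallOf_le' (M : Subgroup G) : Cfsg.fittingHallOf M ≤ M := Subgroup.map_subtype_le _

theorem le_normalizer_fittingHallOf' (M : Subgroup G) :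
    M ≤ normalizer ((Cfsg.fittingHallOf M : Subgroup G) : Set G) := by
  haveI := Cfsg.fittingHall_normal ↥M
  exact le_normalizer_map_of_normal (Cfsg.fittingHall ↥M)

theorem fittingHallOf_le_fittingOf [Finite G] (M : Subgroup G) :
    Cfsg.fittingHallOf M ≤ Cfsg.fittingOf M := by
  unfold Cfsg.fittingHallOf Cfsg.fittingOf
  apply Subgroup.map_mono
  apply sSup_le
  intro N hN
  exact Cfsg.Agent.Lib.le_fittingSubgroup hN.1 hN.2.1

/-- `M` normalizes `M ∩ C_G(N)` when it normalizes `N` -/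
theorem le_normalizer_inf_centralizer [Finite G] {M N : Subgroup G} (h : M ≤ normalizer (N : Set G)) :
    M ≤ normalizer ((M ⊓ centralizer (N : Set G) : Subgroup G) : Set G) := fun m hm =>
  mem_normalizer_inf (Subgroup.le_normalizer hm) (mem_normalizer_centralizer (h hm))

/-- **`F(M) ≤ C_M(M_F) M_F`** for every finite `M`. -/
theorem fittingOf_le_centralizer_sup [Finite G] (M : Subgroup G) :
    Cfsg.fittingOf M ≤
      (M ⊓ centralizer ((Cfsg.fittingHallOf M : Subgroup G) : Set G)) ⊔ Cfsg.fittingHallOf M := by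
  obtain ⟨n, m, hcop, h1, h2, h3, -, -⟩ := Cfsg.Agent.Helper23.fittingHallOf_data M
  haveI hFn : Group.IsNilpotent ↥(Cfsg.fittingOf M) := Cfsg.Agent.Helper29.Bender.isNilpotent_fittingOf M
  intro x hx
  have hxM : x ∈ M := Cfsg.Agent.Helper29.Bender.fittingOf_le M hx
  have hy : x ^ n ∈ M ⊓ centralizer ((Cfsg.fittingHallOf M : Subgroup G) : Set G) := by
    refine Subgroup.mem_inf.mpr ⟨M.pow_mem hxM n, ?_⟩
    rw [Subgroup.mem_centralizer_iff]
    intro h hh
    have hhF : h ∈ Cfsg.fittingOf M := fittingHallOf_le_fittingOf M hh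
    have hyF : x ^ n ∈ Cfsg.fittingOf M := Subgroup.pow_mem _ hx n
    have ho1 : orderOf h ∣ n := orderOf_dvd_of_pow_eq_one (h1 h hh)
    have ho2 : orderOf (x ^ n) ∣ m := by
      apply orderOf_dvd_of_pow_eq_one
      rw [← pow_mul]; exact h3 x hxM
    have hc := Cfsg.Agent.Helper65.commute_of_coprime_orderOf ↥(Cfsg.fittingOf M)
      ⟨h, hhF⟩ ⟨x ^ n, hyF⟩ (by
        rw [Subgroup.orderOf_mk, Subgroup.orderOf_mk]
        exact Nat.Coprime.coprime_dvd_left ho1 (Nat.Coprime.coprime_dvd_right ho2 hcop))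
    exact congrArg Subtype.val hc.eq
  have hz : x ^ m ∈ Cfsg.fittingHallOf M := h2 x hxM
  obtain ⟨a, b, hab⟩ := (Nat.isCoprime_iff_coprime.mpr hcop)
  have hx' : x = (x ^ n) ^ a * (x ^ m) ^ b := by
    rw [← zpow_natCast x n, ← zpow_natCast x m, ← zpow_mul, ← zpow_mul, ← zpow_add]
    have : (n : ℤ) * a + (m : ℤ) * b = 1 := by linarith
    rw [this, zpow_one]
  rw [hx']
  exact Subgroup.mul_mem _ (Subgroup.mem_sup_left (Subgroup.zpow_mem _ hy a))
    (Subgroup.mem_sup_right (Subgroup.zpow_mem _ hz b))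

/-- if `C_M(M_F)` is nilpotent then `F(M) = C_M(M_F) M_F` -/
theorem fittingOf_eq_of_isNilpotent [Finite G] (M : Subgroup G)
    (h : Group.IsNilpotent ↥(M ⊓ centralizer ((Cfsg.fittingHallOf M : Subgroup G) : Set G))) :
    Cfsg.fittingOf M =
      (M ⊓ centralizer ((Cfsg.fittingHallOf M : Subgroup G) : Set G)) ⊔ Cfsg.fittingHallOf M := by
  apply le_antisymm (fittingOf_le_centralizer_sup M)
  refine sup_le ?_ (fittingHallOf_le_fittingOf M)
  exact Cfsg.Agent.Helper29.Bender.le_fittingOf inf_le_left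
    (le_normalizer_inf_centralizer (le_normalizer_fittingHallOf' M)) h

/-- `(N E)' ≤ N E'` when `M = N E` normalizes `N` -/
theorem commutator_le_sup_of_cover (M N E : Subgroup G) (hMN : M ≤ normalizer (N : Set G))
    (hEM : E ≤ M) (hcover : ∀ m ∈ M, ∃ n ∈ N, ∃ e ∈ E, m = n * e) : ⁅M, M⁆ ≤ N ⊔ ⁅E, E⁆ := by
  rw [Subgroup.commutator_le]
  intro a ha b hb
  obtain ⟨n1, hn1, e1, he1, rfl⟩ := hcover a ha
  obtain ⟨n2, hn2, e2, he2, rfl⟩ := hcover b hb
  have conj : ∀ g ∈ M, ∀ x ∈ N, g * x * g⁻¹ ∈ N := fun g hg x hx =>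
    (mem_normalizer_iff.mp (hMN hg) x).mp hx
  have hE1 : e1 ∈ M := hEM he1
  have hE2 : e2 ∈ M := hEM he2
  have c1 : e1 * n2 * e1⁻¹ ∈ N := conj e1 hE1 n2 hn2
  have c2 : (e1 * e2 * e1⁻¹) * n1⁻¹ * (e1 * e2 * e1⁻¹)⁻¹ ∈ N :=
    conj _ (M.mul_mem (M.mul_mem hE1 hE2) (M.inv_mem hE1)) _ (N.inv_mem hn1)
  have c3 : (e1 * e2 * e1⁻¹ * e2⁻¹) * n2⁻¹ * (e1 * e2 * e1⁻¹ * e2⁻¹)⁻¹ ∈ N :=
    conj _ (M.mul_mem (M.mul_mem (M.mul_mem hE1 hE2) (M.inv_mem hE1)) (M.inv_mem hE2)) _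
      (N.inv_mem hn2)
  have c4 : e1 * e2 * e1⁻¹ * e2⁻¹ ∈ ⁅E, E⁆ := by
    have := Subgroup.commutator_mem_commutator he1 he2
    rwa [commutatorElement_def] at this
  have e : ⁅n1 * e1, n2 * e2⁆ = n1 * (e1 * n2 * e1⁻¹) *
      ((e1 * e2 * e1⁻¹) * n1⁻¹ * (e1 * e2 * e1⁻¹)⁻¹) *
      ((e1 * e2 * e1⁻¹ * e2⁻¹) * n2⁻¹ * (e1 * e2 * e1⁻¹ * e2⁻¹)⁻¹) * (e1 * e2 * e1⁻¹ * e2⁻¹) := by
    rw [commutatorElement_def]; group
  rw [e]
  exact Subgroup.mul_mem _ (Subgroup.mem_sup_left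
    (N.mul_mem (N.mul_mem (N.mul_mem hn1 c1) c2) c3)) (Subgroup.mem_sup_right c4)

/-- The join of two elementwise commuting nilpotent subgroups is nilpotent. -/
theorem isNilpotent_sup_of_commute' {A B : Subgroup G} (hA : Group.IsNilpotent ↥A)
    (hB : Group.IsNilpotent ↥B) (hc : ∀ a ∈ A, ∀ b ∈ B, a * b = b * a) :
    Group.IsNilpotent ↥(A ⊔ B) := by
  have hcomm : ∀ (a : A) (b : B), Commute (A.subtype a) (B.subtype b) :=
    fun a b => hc a a.2 b b.2
  have hr : (MonoidHom.noncommCoprod A.subtype B.subtype hcomm).range = A ⊔ B := by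
    rw [MonoidHom.noncommCoprod_range]; simp
  haveI := hA
  haveI := hB
  have h1 : Group.IsNilpotent ↥(MonoidHom.noncommCoprod A.subtype B.subtype hcomm).range :=
    Group.nilpotent_of_surjective _
      (MonoidHom.noncommCoprod A.subtype B.subtype hcomm).rangeRestrict_surjective
  exact hr ▸ h1

/-- a subgroup all of whose elements commute is nilpotent -/
theorem isNilpotent_of_forall_commute {A : Subgroup G} (h : ∀ a ∈ A, ∀ b ∈ A, a * b = b * a) :
    Group.IsNilpotent ↥A := by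
  letI : CommGroup ↥A := { (inferInstance : Group ↥A) with
    mul_comm := fun a b => Subtype.ext (h a a.2 b b.2) }
  exact CommGroup.isNilpotent

/-- a subgroup of `M` normalized by `M` whose primes lie in `π` is contained in every Hall
`π`-subgroup of `M` -/
theorem le_of_normal_of_isPiHallOf [Finite G] {π : Set ℕ} {M U Y : Subgroup G}
    (hU : Cfsg.IsPiHallOf π U M) (hYM : Y ≤ M) (hYn : M ≤ normalizer (Y : Set G))
    (hY : ∀ p : ℕ, p.Prime → p ∣ Nat.card Y → p ∈ π) : Y ≤ U := by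
  have hUY : U ≤ normalizer (Y : Set G) := hU.1.trans hYn
  have hsupM : U ⊔ Y ≤ M := sup_le hU.1 hYM
  have h1 : U.relIndex (U ⊔ Y) = 1 := by
    by_contra hne
    obtain ⟨p, hp, hpd⟩ := Nat.exists_prime_and_dvd hne
    have h2 : p ∣ U.relIndex M :=
      hpd.trans (Dvd.intro _ (Subgroup.relIndex_mul_relIndex U (U ⊔ Y) M le_sup_left hsupM))
    have h3 : p ∣ Nat.card ↥(U ⊔ Y) := hpd.trans (Subgroup.relIndex_dvd_card U (U ⊔ Y))
    have h4 := h3.trans (Cfsg.Agent.Helper22.card_sup_dvd_of_le_normalizer U Y hUY)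
    rcases (Nat.Prime.dvd_mul hp).mp h4 with h5 | h5
    · exact hU.2.2 p hp (hU.2.1 p hp h5) h2
    · exact hU.2.2 p hp (hY p hp h5) h2
  rw [Subgroup.relIndex_eq_one] at h1
  exact le_sup_right.trans h1


/-- a subgroup `C` of `L = Q D` (`Q` normal, `D` nilpotent) centralizing `Q` is nilpotent -/
theorem isNilpotent_of_centralizes_normal_compl [Finite G] {L Q D C : Subgroup G}
    (hQD : Cfsg.IsComplIn Q D L) (hLQ : L ≤ normalizer (Q : Set G)) (hD : Group.IsNilpotent ↥D)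
    (hCL : C ≤ L) (hCQ : C ≤ centralizer (Q : Set G)) : Group.IsNilpotent ↥C := by
  haveI hQn : (Q.subgroupOf L).Normal := Subgroup.normal_subgroupOf_of_le_normalizer hLQ
  haveI := hD
  have hDL : D ≤ L := hQD.2.1
  let g : ↥D →* ↥L ⧸ Q.subgroupOf L := (QuotientGroup.mk' (Q.subgroupOf L)).comp (Subgroup.inclusion hDL)
  have hg : Function.Surjective g := by
    intro y
    obtain ⟨⟨l, hl⟩, rfl⟩ := QuotientGroup.mk'_surjective (Q.subgroupOf L) y
    obtain ⟨a, ha, b, hb, hab⟩ := hQD.2.2.2 l hl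
    refine ⟨⟨b, hb⟩, ?_⟩
    change QuotientGroup.mk' (Q.subgroupOf L) (Subgroup.inclusion hDL ⟨b, hb⟩) =
      QuotientGroup.mk' (Q.subgroupOf L) ⟨l, hl⟩
    rw [QuotientGroup.mk'_eq_mk']
    refine ⟨⟨b⁻¹ * a * b, ?_⟩, ?_, ?_⟩
    · exact L.mul_mem (L.mul_mem (L.inv_mem (hDL hb)) (hQD.1 ha)) (hDL hb)
    · rw [Subgroup.mem_subgroupOf]
      have := (mem_normalizer_iff.mp (hLQ (L.inv_mem (hDL hb))) a).mp ha
      simpa using this
    · apply Subtype.ext
      simp only [Subgroup.coe_mul, Subgroup.coe_inclusion]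
      rw [hab]; group
  haveI hnil : Group.IsNilpotent (↥L ⧸ Q.subgroupOf L) := Group.nilpotent_of_surjective g hg
  let f : ↥C →* ↥L ⧸ Q.subgroupOf L := (QuotientGroup.mk' (Q.subgroupOf L)).comp (Subgroup.inclusion hCL)
  apply Subgroup.isNilpotent_of_ker_le_center f
  intro x hx
  rw [MonoidHom.mem_ker] at hx
  have hxQ : (x : G) ∈ Q := by
    have h1 : Subgroup.inclusion hCL x ∈ Q.subgroupOf L := by
      rw [← QuotientGroup.eq_one_iff]; exact hx
    exact Subgroup.mem_subgroupOf.mp h1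
  rw [Subgroup.mem_center_iff]
  intro y
  apply Subtype.ext
  have := (Subgroup.mem_centralizer_iff.mp (hCQ y.2)) (x : G) hxQ
  simpa using this.symm

/-- if `E` is a complement of the normal subgroup `N` of `M` and `E'` is abelian then `M'' ≤ N` -/
theorem derived2_le_of_compl {M N E : Subgroup G} (hE : Cfsg.IsComplIn E N M)
    (hMN : M ≤ normalizer (N : Set G)) (hEc : ∀ a ∈ ⁅E, E⁆, ∀ b ∈ ⁅E, E⁆, a * b = b * a) :
    ⁅⁅M, M⁆, ⁅M, M⁆⁆ ≤ N := by
  have hEM : E ≤ M := hE.1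
  have hNM : N ≤ M := hE.2.1
  have hcover : ∀ m ∈ M, ∃ n ∈ N, ∃ e ∈ E, m = n * e := by
    intro m hm
    obtain ⟨a, ha, b, hb, hab⟩ := hE.2.2.2 m⁻¹ (M.inv_mem hm)
    refine ⟨b⁻¹, N.inv_mem hb, a⁻¹, E.inv_mem ha, ?_⟩
    rw [← mul_inv_rev, ← hab, inv_inv]
  have h1 : ⁅M, M⁆ ≤ N ⊔ ⁅E, E⁆ := commutator_le_sup_of_cover M N E hMN hEM hcover
  have hE'E : ⁅E, E⁆ ≤ E := by
    rw [Subgroup.commutator_le]
    intro a ha b hb
    rw [commutatorElement_def]
    exact E.mul_mem (E.mul_mem (E.mul_mem ha hb) (E.inv_mem ha)) (E.inv_mem hb)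
  have hE'M : ⁅E, E⁆ ≤ M := hE'E.trans hEM
  have hE'n : ⁅E, E⁆ ≤ normalizer (N : Set G) := hE'M.trans hMN
  have hbot : ⁅⁅E, E⁆, ⁅E, E⁆⁆ = ⊥ := by
    rw [Subgroup.commutator_eq_bot_iff_le_centralizer]
    intro a ha
    rw [Subgroup.mem_centralizer_iff]
    intro b hb
    exact hEc b hb a ha
  have h2 : ⁅N ⊔ ⁅E, E⁆, N ⊔ ⁅E, E⁆⁆ ≤ N := by
    have h3 := commutator_le_sup_of_cover (N ⊔ ⁅E, E⁆) N ⁅E, E⁆
      (sup_le Subgroup.le_normalizer hE'n) le_sup_right (by
        intro m hm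
        have hm' : m ∈ ((N ⊔ ⁅E, E⁆ : Subgroup G) : Set G) := hm
        rw [Subgroup.coe_mul_of_right_le_normalizer_left _ _ hE'n] at hm'
        obtain ⟨n, hn, k, hk, rfl⟩ := hm'
        exact ⟨n, hn, k, hk, rfl⟩)
    rwa [hbot, sup_bot_eq] at h3
  exact (Subgroup.commutator_mono h1 h1).trans h2

/-- if `C_M(S) = Z(S) X` with `X` cyclic, then `C_M(S)` is abelian, hence nilpotent -/
theorem isNilpotent_centralizer_of_cyclic_cover [Finite G] {M S X : Subgroup G} (hX : IsCyclic ↥X)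
    (h : M ⊓ centralizer (S : Set G) = (S ⊓ centralizer (S : Set G)) ⊔ X) :
    Group.IsNilpotent ↥(M ⊓ centralizer (S : Set G)) := by
  have hXC : X ≤ centralizer (S : Set G) := by
    have : X ≤ M ⊓ centralizer (S : Set G) := by rw [h]; exact le_sup_right
    exact this.trans inf_le_right
  have hZS : S ⊓ centralizer (S : Set G) ≤ S := inf_le_left
  have hCZ : centralizer (S : Set G) ≤ centralizer ((S ⊓ centralizer (S : Set G) : Subgroup G) : Set G) :=
    Subgroup.centralizer_le (by exact_mod_cast hZS)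
  have hXX : X ≤ centralizer (X : Set G) := by
    intro a ha
    rw [Subgroup.mem_centralizer_iff]
    intro b hb
    haveI := hX
    letI := IsCyclic.commGroup (α := ↥X)
    exact congrArg Subtype.val (mul_comm (⟨b, hb⟩ : ↥X) ⟨a, ha⟩)
  have hZX : S ⊓ centralizer (S : Set G) ≤ centralizer (X : Set G) := by
    intro z hz
    rw [Subgroup.mem_centralizer_iff]
    intro x hx
    exact ((Subgroup.mem_centralizer_iff.mp (hXC hx)) z hz.1).symm
  rw [h]
  apply isNilpotent_of_forall_commute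
  have key : (S ⊓ centralizer (S : Set G)) ⊔ X ≤
      centralizer (((S ⊓ centralizer (S : Set G)) ⊔ X : Subgroup G) : Set G) := by
    rw [centralizer_sup_eq]
    exact sup_le (le_inf (inf_le_right.trans hCZ) hZX) (le_inf (hXC.trans hCZ) hXX)
  intro a ha b hb
  exact ((Subgroup.mem_centralizer_iff.mp (key hb)) a ha)


/-- a normal Sylow subgroup of `M` lies in `M_F` -/
theorem le_fittingHallOf_of_normal_sylow [Finite G] {M Q : Subgroup G} {q : ℕ} [hq : Fact q.Prime]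
    (hQM : Q ≤ M) (hQn : M ≤ normalizer (Q : Set G)) (hQp : IsPGroup q ↥Q)
    (hidx : ¬ q ∣ Q.relIndex M) : Q ≤ Cfsg.fittingHallOf M := by
  haveI hQ'n : (Q.subgroupOf M).Normal := Subgroup.normal_subgroupOf_of_le_normalizer hQn
  have hQ'p : IsPGroup q ↥(Q.subgroupOf M) := hQp.of_equiv (Subgroup.subgroupOfEquivOfLe hQM).symm
  have hcop : (Nat.card ↥(Q.subgroupOf M)).Coprime (Q.subgroupOf M).index := by
    obtain ⟨n, hn⟩ := hQ'p.exists_card_eq
    rw [hn]
    exact Nat.Coprime.pow_left n ((Nat.Prime.coprime_iff_not_dvd hq.out).mpr hidx)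
  have h1 : Q.subgroupOf M ≤ Cfsg.fittingHall ↥M :=
    Cfsg.Agent.Helper23.le_fittingHall hQ'n hQ'p.isNilpotent hcop
  have h2 := Subgroup.map_mono (f := M.subtype) h1
  rwa [Subgroup.map_subgroupOf_eq_of_le hQM] at h2

/-- `M'' ≤ M` and `M` normalizes `M''` -/
theorem derived2_facts (M : Subgroup G) : ⁅⁅M, M⁆, ⁅M, M⁆⁆ ≤ M ∧
    M ≤ normalizer ((⁅⁅M, M⁆, ⁅M, M⁆⁆ : Subgroup G) : Set G) := by
  have h : Subgroup.map M.subtype (⁅⁅(⊤ : Subgroup ↥M), (⊤ : Subgroup ↥M)⁆,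
      ⁅(⊤ : Subgroup ↥M), (⊤ : Subgroup ↥M)⁆⁆ : Subgroup ↥M) = ⁅⁅M, M⁆, ⁅M, M⁆⁆ := by
    rw [Subgroup.map_commutator, Subgroup.map_commutator, ← MonoidHom.range_eq_map,
      Subgroup.range_subtype]
  rw [← h]
  exact ⟨Subgroup.map_subtype_le _, le_normalizer_map_of_normal _⟩

theorem fittingHallOf_isNilpotent [Finite G] (M : Subgroup G) :
    Group.IsNilpotent ↥(Cfsg.fittingHallOf M) := by
  haveI := fittingHall_isNilpotent' ↥M
  exact Group.nilpotent_of_mulEquiv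
    ((Cfsg.fittingHall ↥M).equivMapOfInjective M.subtype M.subtype_injective)

end Cfsg.Agent.Helper35.BG152
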