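import Mathlib
import Cfsg.Agent.Helper30.HallSym.Defs
import Cfsg.Agent.Helper37.HallSymGA2

/-!
# Piece (A-2) of #6463 (Hall subgroups of `A_n`, helper30)

The constituent of a Hall `π`-subgroup `M` of `alternatingGroup α` on an invariant subset `S` whose
complement has at least two points is a Hall `π`-subgroup of `Perm S`.
-/

set_option autoImplicit false
set_option linter.style.haveILetI false

open Equiv Equiv.Perm MulAction Subgroup Cfsg Cfsg.Agent.Helper30.HallSym
open scoped Nat Pointwise

universe u

namespace Cfsg.Agent.Helper35.HallSym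

open Cfsg.Agent.Helper37.HallSym

/-- a subgroup of `Perm α` containing an odd permutation has twice the order of its even part -/
theorem two_mul_card_inf_alternatingGroup {α : Type u} [Fintype α] [DecidableEq α]
    (F : Subgroup (Perm α)) (σ : Perm α) (hσF : σ ∈ F) (hσ : Perm.sign σ = -1) :
    2 * Nat.card ↥(F ⊓ alternatingGroup α) = Nat.card F := by
  classical
  set sg : F →* ℤˣ := (Perm.sign).comp F.subtype with hsgdef
  have hker : Nat.card sg.ker = Nat.card ↥(F ⊓ alternatingGroup α) := by
    have : sg.ker.map F.subtype = F ⊓ alternatingGroup α := by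
      ext g
      constructor
      · rintro ⟨k, hk, rfl⟩
        refine Subgroup.mem_inf.mpr ⟨k.2, ?_⟩
        rw [Equiv.Perm.mem_alternatingGroup]
        exact MonoidHom.mem_ker.mp hk
      · intro hg
        obtain ⟨hgF, hgA⟩ := Subgroup.mem_inf.mp hg
        refine ⟨⟨g, hgF⟩, ?_, rfl⟩
        rw [SetLike.mem_coe, MonoidHom.mem_ker]
        exact Equiv.Perm.mem_alternatingGroup.mp hgA
    rw [← this, Subgroup.card_map_of_injective F.subtype_injective]
  have hrange : Nat.card sg.range = 2 := by
    have htop : sg.range = ⊤ := by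
      rw [eq_top_iff]
      intro u _
      rcases Int.units_eq_one_or u with h | h
      · rw [h]; exact Subgroup.one_mem _
      · rw [h]; exact ⟨⟨σ, hσF⟩, hσ⟩
    rw [htop, Subgroup.card_top]
    simp
  have h := Subgroup.card_mul_index sg.ker
  rw [Subgroup.index_ker, hrange, hker] at h
  rw [← h]; ring

theorem alt_constituent_hall {α : Type u} [Fintype α] [DecidableEq α] {π : Set ℕ}
    (M : Subgroup (Perm α)) (hM : IsPiHallOf π M (alternatingGroup α)) (S : SubMulAction M α)
    (hS : ∃ x y : α, x ≠ y ∧ x ∉ S ∧ y ∉ S) : IsPiHall π (MulAction.toPermHom M S).range := by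
  classical
  obtain ⟨x, y, hxy, hxS, hyS⟩ := hS
  haveI : Nontrivial α := ⟨⟨x, y, hxy⟩⟩
  set ρ : M →* Perm S := MulAction.toPermHom M S with hρdef
  have hHR : Nat.card ρ.ker * Nat.card ρ.range = Nat.card M := by
    rw [← Subgroup.index_ker, Subgroup.card_mul_index]
  refine ⟨fun p hp hdvd => hM.2.1 p hp (hdvd.trans (Subgroup.card_range_dvd ρ)), ?_⟩
  intro r hr hrπ
  have : Fact r.Prime := ⟨hr⟩
  -- the kernel fixes `S` pointwise, so preserves `sepFun S`; it is even
  have hker : ρ.ker.map M.subtype ≤ fiberStab (sepFun (S : Set α)) ⊓ alternatingGroup α := by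
    rintro _ ⟨k, hk0, rfl⟩
    refine Subgroup.mem_inf.mpr ⟨?_, hM.1 k.2⟩
    have hk : ρ k = 1 := MonoidHom.mem_ker.mp hk0
    have hfix : ∀ a ∈ S, (k : Perm α) a = a := by
      intro a ha
      have h1 : ρ k ⟨a, ha⟩ = ⟨a, ha⟩ := by rw [hk]; rfl
      exact congrArg Subtype.val h1
    rw [mem_fiberStab]
    funext a
    show sepFun (S : Set α) ((k : Perm α) a) = sepFun (S : Set α) a
    by_cases ha : a ∈ S
    · rw [hfix a ha]
    · have hka : (k : Perm α) a ∉ S := by
        intro h1
        apply ha
        have h2 := S.smul_mem k⁻¹ h1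
        have h3 : k⁻¹ • ((k : Perm α) a) = a := by
          show ((k⁻¹ : M) : Perm α) ((k : Perm α) a) = a
          simp
        rwa [h3] at h2
      rw [sepFun_of_not_mem _ ha, sepFun_of_not_mem _ hka]
  -- the swap of `x` and `y` is an odd permutation preserving `sepFun S`
  have hswap : Equiv.swap x y ∈ fiberStab (sepFun (S : Set α)) := by
    rw [mem_fiberStab]
    funext a
    show sepFun (S : Set α) (Equiv.swap x y a) = sepFun (S : Set α) a
    by_cases hax : a = x
    · rw [hax, Equiv.swap_apply_left, sepFun_of_not_mem _ hxS, sepFun_of_not_mem _ hyS]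
    · by_cases hay : a = y
      · rw [hay, Equiv.swap_apply_right, sepFun_of_not_mem _ hxS, sepFun_of_not_mem _ hyS]
      · rw [Equiv.swap_apply_of_ne_of_ne hax hay]
  have hF2 := two_mul_card_inf_alternatingGroup (fiberStab (sepFun (S : Set α))) (Equiv.swap x y)
    hswap (Equiv.Perm.sign_swap hxy)
  have hKdvd : 2 * Nat.card ρ.ker ∣ (Fintype.card α - Nat.card S)! := by
    have hc : Nat.card (fiberStab (sepFun (S : Set α))) = (Fintype.card α - Nat.card S)! :=
      card_fiberStab_sepFun (S : Set α)
    rw [← hc, ← hF2, ← Subgroup.card_map_of_injective M.subtype_injective]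
    exact Nat.mul_dvd_mul_left 2 (Subgroup.card_dvd_of_le hker)
  have hRdvd : Nat.card ρ.range ∣ (Nat.card S)! := by
    rw [← Nat.card_perm]
    exact Subgroup.card_subgroup_dvd_card _
  have hSle : Nat.card S ≤ Fintype.card α := by
    rw [← Nat.card_eq_fintype_card]
    exact Nat.card_le_card_of_injective _ Subtype.val_injective
  have hbin := Nat.factorial_mul_factorial_dvd_factorial hSle
  -- `v_r 2 + v_r |M| = v_r d!`
  have hMcard : padicValNat r 2 + padicValNat r (Nat.card M) = padicValNat r (Fintype.card α)! := by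
    have h1 : Nat.card M * M.relIndex (alternatingGroup α) = Nat.card (alternatingGroup α) := by
      have := Subgroup.relIndex_mul_relIndex ⊥ M (alternatingGroup α) bot_le hM.1
      rwa [Subgroup.relIndex_bot_left, Subgroup.relIndex_bot_left] at this
    have h2 : 2 * Nat.card (alternatingGroup α) = (Fintype.card α)! := by
      rw [two_mul_nat_card_alternatingGroup, Nat.card_perm, Nat.card_eq_fintype_card]
    have hidx : M.relIndex (alternatingGroup α) ≠ 0 := by
      intro h0
      rw [h0, mul_zero] at h1
      exact Nat.card_pos.ne' h1.symm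
    rw [← h2, ← h1, padicValNat.mul two_ne_zero (mul_ne_zero Nat.card_pos.ne' hidx),
      padicValNat.mul Nat.card_pos.ne' hidx,
      padicValNat.eq_zero_of_not_dvd (hM.2.2 r hr hrπ), add_zero]
  have hv1 : padicValNat r (Nat.card ρ.ker) + padicValNat r (Nat.card ρ.range) =
      padicValNat r (Nat.card M) := by
    rw [← hHR, padicValNat.mul Nat.card_pos.ne' Nat.card_pos.ne']
  have hv2 := padicValNat_le_of_dvd' (r := r) (Nat.factorial_pos _).ne' hKdvd
  rw [padicValNat.mul two_ne_zero Nat.card_pos.ne'] at hv2
  have hv3 := padicValNat_le_of_dvd' (r := r) (Nat.factorial_pos _).ne' hRdvd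
  have hv4 := padicValNat_le_of_dvd' (r := r) (Nat.factorial_pos _).ne' hbin
  rw [padicValNat.mul (Nat.factorial_pos _).ne' (Nat.factorial_pos _).ne'] at hv4
  have hv5 : padicValNat r (Nat.card ρ.range) = padicValNat r (Nat.card S)! := by omega
  -- the index
  have hidx : Nat.card ρ.range * ρ.range.index = (Nat.card S)! := by
    rw [Subgroup.card_mul_index, Nat.card_perm]
  have hidx0 : ρ.range.index ≠ 0 := by
    intro h0
    rw [h0, mul_zero] at hidx
    exact (Nat.factorial_pos _).ne hidx
  intro hdvd
  have h1 := one_le_padicValNat_of_dvd hidx0 hdvd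
  have h2 : padicValNat r (Nat.card S)! =
      padicValNat r (Nat.card ρ.range) + padicValNat r ρ.range.index := by
    rw [← hidx, padicValNat.mul Nat.card_pos.ne' hidx0]
  omega

end Cfsg.Agent.Helper35.HallSym
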