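import Mathlib
import Cfsg.Agent.Helper30.ThreeMin.Defs
import Cfsg.Agent.Helper59.ThreeCycGen

/-!
# (T-2) for S2930: `A_n` is generated by `Alt(A₁)` and `Alt(A₂)` for two overlapping sets covering
everything, each with at least three points.
-/

set_option autoImplicit false

open Equiv Equiv.Perm MulAction Subgroup Cfsg.Agent.Helper30.ThreeMin
open scoped Pointwise

universe u

namespace Cfsg.Agent.Helper35.ThreeMin

/-- a third point in a set with at least three points -/
theorem t2_exists_third {α : Type u} [Fintype α] (A : Set α) (h : 3 ≤ A.ncard) (x w : α) :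
    ∃ v ∈ A, v ≠ x ∧ v ≠ w := by
  have hlt : ({x, w} : Set α).ncard < A.ncard := by
    have : ({x, w} : Set α).ncard ≤ 2 := by
      have := Set.ncard_insert_le x ({w} : Set α)
      rw [Set.ncard_singleton] at this
      exact this
    omega
  obtain ⟨v, hvA, hv⟩ := Set.exists_mem_notMem_of_ncard_lt_ncard hlt (Set.toFinite _)
  refine ⟨v, hvA, ?_, ?_⟩
  · intro h'; apply hv; rw [h']; simp
  · intro h'; apply hv; rw [h']; simp

/-- the 3-cycle `swap a b * swap a c` with all points in `A` lies in `Alt(A)` -/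
theorem t2_cyc_mem {α : Type u} [Fintype α] [DecidableEq α] (A : Set α) {a b c : α}
    (ha : a ∈ A) (hb : b ∈ A) (hc : c ∈ A) (hab : a ≠ b) (hac : a ≠ c) (hbc : b ≠ c) :
    swap a b * swap a c ∈ alternatingGroup α ⊓ fixingSubgroup (Perm α) Aᶜ := by
  refine ⟨?_, ?_⟩
  · exact (isThreeCycle_swap_mul_swap_same hab hac hbc).mem_alternatingGroup
  · show swap a b * swap a c ∈ fixingSubgroup (Perm α) Aᶜ
    rw [mem_fixingSubgroup_iff]
    intro y hy
    have hya : y ≠ a := fun h => hy (h ▸ ha)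
    have hyb : y ≠ b := fun h => hy (h ▸ hb)
    have hyc : y ≠ c := fun h => hy (h ▸ hc)
    rw [Perm.smul_def, Perm.mul_apply, swap_apply_of_ne_of_ne hya hyc,
      swap_apply_of_ne_of_ne hya hyb]

/-- (T-2) -/
theorem alternatingGroup_le_sup_fixing {α : Type u} [Fintype α] [DecidableEq α] (A₁ A₂ : Set α)
    (hcov : A₁ ∪ A₂ = Set.univ) (hint : (A₁ ∩ A₂).Nonempty) (h1 : 3 ≤ A₁.ncard)
    (h2 : 3 ≤ A₂.ncard) :
    alternatingGroup α ≤ (alternatingGroup α ⊓ fixingSubgroup (Perm α) A₁ᶜ) ⊔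
      (alternatingGroup α ⊓ fixingSubgroup (Perm α) A₂ᶜ) := by
  obtain ⟨w, hw1, hw2⟩ := hint
  set J := (alternatingGroup α ⊓ fixingSubgroup (Perm α) A₁ᶜ) ⊔
      (alternatingGroup α ⊓ fixingSubgroup (Perm α) A₂ᶜ) with hJ
  let T₀ : Set (Perm α) := {t | t.IsThreeCycle ∧ t ∈ J}
  have hT₀J : Subgroup.closure T₀ ≤ J := by
    rw [Subgroup.closure_le]
    intro t ht
    exact ht.2
  -- every point can be moved to `w` inside the closure
  have hmove : ∀ x : α, ∃ g ∈ Subgroup.closure T₀, g x = w := by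
    intro x
    by_cases hxw : x = w
    · exact ⟨1, Subgroup.one_mem _, by rw [hxw]; rfl⟩
    have hx : x ∈ A₁ ∪ A₂ := by rw [hcov]; trivial
    rcases hx with hx | hx
    · obtain ⟨v, hv, hvx, hvw⟩ := t2_exists_third A₁ h1 x w
      refine ⟨swap v w * swap v x, Subgroup.subset_closure ⟨?_, ?_⟩, ?_⟩
      · exact isThreeCycle_swap_mul_swap_same hvw hvx (Ne.symm hxw)
      · exact Subgroup.mem_sup_left (t2_cyc_mem A₁ hv hw1 hx hvw hvx (Ne.symm hxw))
      · rw [Perm.mul_apply, swap_apply_right, swap_apply_left]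
    · obtain ⟨v, hv, hvx, hvw⟩ := t2_exists_third A₂ h2 x w
      refine ⟨swap v w * swap v x, Subgroup.subset_closure ⟨?_, ?_⟩, ?_⟩
      · exact isThreeCycle_swap_mul_swap_same hvw hvx (Ne.symm hxw)
      · exact Subgroup.mem_sup_right (t2_cyc_mem A₂ hv hw2 hx hvw hvx (Ne.symm hxw))
      · rw [Perm.mul_apply, swap_apply_right, swap_apply_left]
  have : IsPretransitive (Subgroup.closure T₀) α := by
    constructor
    intro x y
    obtain ⟨g, hg, hgx⟩ := hmove x
    obtain ⟨k, hk, hky⟩ := hmove y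
    refine ⟨⟨k⁻¹ * g, Subgroup.mul_mem _ (Subgroup.inv_mem _ hk) hg⟩, ?_⟩
    show (k⁻¹ * g) x = y
    rw [Perm.mul_apply, hgx, ← hky]
    simp
  have hne : T₀.Nonempty := by
    obtain ⟨v, hv, hvw, -⟩ := t2_exists_third A₁ h1 w w
    obtain ⟨x, hx, hxv, hxw⟩ := t2_exists_third A₁ h1 v w
    refine ⟨swap v w * swap v x, ?_, ?_⟩
    · exact isThreeCycle_swap_mul_swap_same hvw hxv.symm hxw.symm
    · exact Subgroup.mem_sup_left (t2_cyc_mem A₁ hv hw1 hx hvw hxv.symm hxw.symm)
  exact (Cfsg.Agent.Helper59.ThreeCyc.alternatingGroup_le_closure_threeCycles T₀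
    (fun t ht => ht.1) hne).trans hT₀J

end Cfsg.Agent.Helper35.ThreeMin
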