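import Mathlib
import Cfsg.Agent.Helper30.ThreeMin.Defs
import Cfsg.Agent.Helper35.ThreeMinT2

/-!
# (T-3a) for S2930: a group with at least three orbits on at least five points lies in two
intransitive subgroups whose even parts generate the alternating group.
-/

set_option autoImplicit false

open Equiv Equiv.Perm MulAction Subgroup Cfsg.Agent.Helper30.ThreeMin
open scoped Pointwise

universe u

namespace Cfsg.Agent.Helper35.ThreeMin

/-- the alternating group does not stabilize a nonempty set whose complement has at least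
three points -/
theorem t3a_not_le_stabilizer {α : Type u} [Fintype α] [DecidableEq α] (Θ : Set α)
    (hne : Θ.Nonempty) (hc : 3 ≤ Θᶜ.ncard) :
    ¬ alternatingGroup α ≤ stabilizer (Perm α) Θ := by
  intro hle
  obtain ⟨a, ha⟩ := hne
  obtain ⟨b, hb, -, -⟩ := t2_exists_third Θᶜ hc a a
  obtain ⟨c, hc', hcb, -⟩ := t2_exists_third Θᶜ hc b b
  have hab : a ≠ b := fun h => hb (h ▸ ha)
  have hac : a ≠ c := fun h => hc' (h ▸ ha)
  have hmem : swap a b * swap a c ∈ alternatingGroup α :=
    (isThreeCycle_swap_mul_swap_same hab hac hcb.symm).mem_alternatingGroup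
  have hst := hle hmem
  rw [mem_stabilizer_iff] at hst
  have h1 : (swap a b * swap a c) • a ∈ (swap a b * swap a c) • Θ := Set.smul_mem_smul_set ha
  rw [hst, Perm.smul_def, Perm.mul_apply, swap_apply_left,
    swap_apply_of_ne_of_ne hac.symm hcb] at h1
  exact hc' h1

/-- the pointwise stabilizer lies in the setwise stabilizer -/
theorem t3a_fixing_le_stabilizer {α : Type u} [DecidableEq α] (Θ : Set α) :
    fixingSubgroup (Perm α) Θ ≤ stabilizer (Perm α) Θ := by
  intro g hg
  rw [mem_fixingSubgroup_iff] at hg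
  rw [mem_stabilizer_iff]
  ext y
  constructor
  · rintro ⟨b, hb, rfl⟩
    show g • b ∈ Θ
    rw [hg b hb]; exact hb
  · intro hy
    exact ⟨y, hy, hg y hy⟩

/-- two disjoint invariant sets with large complements and a point outside both -/
theorem t3a_twoOver_of_two_sets {α : Type u} [Fintype α] [DecidableEq α] (S : Subgroup (Perm α))
    (Θ₁ Θ₂ : Set α) (hS1 : ∀ s ∈ S, s • Θ₁ = Θ₁) (hS2 : ∀ s ∈ S, s • Θ₂ = Θ₂)
    (hne1 : Θ₁.Nonempty) (hne2 : Θ₂.Nonempty) (hdisj : Disjoint Θ₁ Θ₂)
    (hout : ∃ u, u ∉ Θ₁ ∧ u ∉ Θ₂) (hc1 : 3 ≤ Θ₁ᶜ.ncard) (hc2 : 3 ≤ Θ₂ᶜ.ncard) : TwoOver S := by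
  refine ⟨stabilizer (Perm α) Θ₁, stabilizer (Perm α) Θ₂, ?_, ?_, t3a_not_le_stabilizer Θ₁ hne1 hc1,
    t3a_not_le_stabilizer Θ₂ hne2 hc2, ?_⟩
  · intro s hs
    rw [mem_stabilizer_iff]; exact hS1 s hs
  · intro s hs
    rw [mem_stabilizer_iff]; exact hS2 s hs
  · have hcov : Θ₁ᶜ ∪ Θ₂ᶜ = Set.univ := by
      rw [← Set.compl_inter, Set.disjoint_iff_inter_eq_empty.mp hdisj, Set.compl_empty]
    have hint : (Θ₁ᶜ ∩ Θ₂ᶜ).Nonempty := by
      obtain ⟨u, hu1, hu2⟩ := hout
      exact ⟨u, hu1, hu2⟩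
    have h := alternatingGroup_le_sup_fixing Θ₁ᶜ Θ₂ᶜ hcov hint hc1 hc2
    rw [compl_compl, compl_compl] at h
    refine h.trans (sup_le_sup ?_ ?_)
    · rw [inf_comm]
      exact inf_le_inf_right _ (t3a_fixing_le_stabilizer Θ₁)
    · rw [inf_comm]
      exact inf_le_inf_right _ (t3a_fixing_le_stabilizer Θ₂)

/-- orbits of a subgroup are invariant under its elements -/
theorem t3a_smul_orbit {α : Type u} [DecidableEq α] (S : Subgroup (Perm α)) (x : α) :
    ∀ s ∈ S, s • orbit S x = orbit S x := by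
  intro s hs
  exact MulAction.smul_orbit (⟨s, hs⟩ : S) x

/-- (T-3a) -/
theorem twoOver_of_three_orbits {α : Type u} [Fintype α] [DecidableEq α] (S : Subgroup (Perm α))
    (h5 : 5 ≤ Fintype.card α) (x y z : α) (hxy : orbit S x ≠ orbit S y)
    (hxz : orbit S x ≠ orbit S z) (hyz : orbit S y ≠ orbit S z) : TwoOver S := by
  have dxy : Disjoint (orbit S x) (orbit S y) :=
    (MulAction.orbit.eq_or_disjoint x y).resolve_left hxy
  have dxz : Disjoint (orbit S x) (orbit S z) :=
    (MulAction.orbit.eq_or_disjoint x z).resolve_left hxz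
  have dyz : Disjoint (orbit S y) (orbit S z) :=
    (MulAction.orbit.eq_or_disjoint y z).resolve_left hyz
  have nx : (orbit S x).Nonempty := ⟨x, mem_orbit_self x⟩
  have ny : (orbit S y).Nonempty := ⟨y, mem_orbit_self y⟩
  have nz : (orbit S z).Nonempty := ⟨z, mem_orbit_self z⟩
  have px : 0 < (orbit S x).ncard := (Set.ncard_pos (Set.toFinite _)).mpr nx
  have py : 0 < (orbit S y).ncard := (Set.ncard_pos (Set.toFinite _)).mpr ny
  have pz : 0 < (orbit S z).ncard := (Set.ncard_pos (Set.toFinite _)).mpr nz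
  -- the three orbits together have at most `card α` points
  have hsum : (orbit S x).ncard + (orbit S y).ncard + (orbit S z).ncard ≤ Fintype.card α := by
    have d3 : Disjoint (orbit S x ∪ orbit S y) (orbit S z) := Set.disjoint_union_left.mpr ⟨dxz, dyz⟩
    rw [← Set.ncard_union_eq dxy (Set.toFinite _) (Set.toFinite _),
      ← Set.ncard_union_eq d3 (Set.toFinite _) (Set.toFinite _), ← Nat.card_eq_fintype_card,
      ← Set.ncard_univ]
    exact Set.ncard_le_ncard (Set.subset_univ _) (Set.toFinite _)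
  have hcompl : ∀ Θ : Set α, Θᶜ.ncard = Fintype.card α - Θ.ncard := by
    intro Θ
    rw [Set.ncard_compl, Nat.card_eq_fintype_card]
  have ox : ∀ {u v : α}, Disjoint (orbit S u) (orbit S v) → u ∉ orbit S v := by
    intro u v huv hu
    exact Set.disjoint_left.mp huv (mem_orbit_self u) hu
  by_cases hx3 : (orbit S x).ncard + 3 ≤ Fintype.card α
  · by_cases hy3 : (orbit S y).ncard + 3 ≤ Fintype.card α
    · refine t3a_twoOver_of_two_sets S (orbit S x) (orbit S y) (t3a_smul_orbit S x)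
        (t3a_smul_orbit S y) nx ny dxy ⟨z, ox dxz.symm, ox dyz.symm⟩ ?_ ?_
      · rw [hcompl]; omega
      · rw [hcompl]; omega
    · refine t3a_twoOver_of_two_sets S (orbit S x) (orbit S z) (t3a_smul_orbit S x)
        (t3a_smul_orbit S z) nx nz dxz ⟨y, ox dxy.symm, ox dyz⟩ ?_ ?_
      · rw [hcompl]; omega
      · rw [hcompl]; omega
  · refine t3a_twoOver_of_two_sets S (orbit S y) (orbit S z) (t3a_smul_orbit S y)
      (t3a_smul_orbit S z) ny nz dyz ⟨x, ox dxy, ox dxz⟩ ?_ ?_
    · rw [hcompl]; omega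
    · rw [hcompl]; omega

end Cfsg.Agent.Helper35.ThreeMin
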