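import Mathlib

/-!
The conjugate-pair order condition of statement S3033 (helper35), and its inheritance by subgroups.
-/

set_option autoImplicit false

namespace Cfsg.Agent.Helper35.CP

/-- The conjugate-pair order condition: for distinct primes `p`, `q`, a `p`-element `x` and a
`q`-element `g`, the order of `⟨x, g x g⁻¹⟩` is not divisible by `q ^ 2`. -/
def ConjPair (G : Type*) [Group G] : Prop :=
  ∀ (p q : ℕ), p.Prime → q.Prime → p ≠ q → ∀ (x g : G), (∃ a : ℕ, orderOf x = p ^ a) →
    (∃ b : ℕ, orderOf g = q ^ b) →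
      ¬ q ^ 2 ∣ Nat.card ↥(Subgroup.zpowers x ⊔ Subgroup.zpowers (g * x * g⁻¹))

/-- The condition passes to subgroups. -/
theorem ConjPair.subgroup {G : Type*} [Group G] (h : ConjPair G) (H : Subgroup G) :
    ConjPair H := by
  intro p q hp hq hpq x g hx hg hdvd
  apply h p q hp hq hpq (x : G) (g : G)
  · rw [Subgroup.orderOf_coe]; exact hx
  · rw [Subgroup.orderOf_coe]; exact hg
  · have hmap : (Subgroup.zpowers x ⊔ Subgroup.zpowers (g * x * g⁻¹)).map H.subtype =
        Subgroup.zpowers (x : G) ⊔ Subgroup.zpowers ((g : G) * (x : G) * (g : G)⁻¹) := by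
      rw [Subgroup.map_sup, MonoidHom.map_zpowers, MonoidHom.map_zpowers]
      simp
    rw [← hmap, Subgroup.card_map_of_injective H.subtype_injective]
    exact hdvd

end Cfsg.Agent.Helper35.CP
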