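import Mathlib
import Cfsg.Agent.Helper12.MultTrans

set_option autoImplicit false

namespace Cfsg.Agent.Helper35

open MulAction

/-- Skeleton for multiple transitivity: if the pointwise stabiliser of every `t`-set is transitive
on the remaining points (and there are at least `t + 2` points), then the group is
`(t + 1)`-transitive. -/
theorem isMultiplyPretransitive_of_fixingSubgroup_transitive {α : Type*} [Fintype α]
    [DecidableEq α] (G : Subgroup (Equiv.Perm α)) (t : ℕ) (ht : t + 2 ≤ Fintype.card α)
    (h : ∀ U : Finset α, U.card = t → ∀ a b : α, a ∉ U → b ∉ U →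
      ∃ g : G, g ∈ fixingSubgroup G (U : Set α) ∧ g • a = b) :
    MulAction.IsMultiplyPretransitive G α (t + 1) := by
  -- first: the same for all smaller sets
  have key : ∀ S : Finset α, S.card ≤ t → ∀ a b : α, a ∉ S → b ∉ S →
      ∃ g : G, g ∈ fixingSubgroup G (S : Set α) ∧ g • a = b := by
    intro S hS a b ha hb
    obtain ⟨T, hST, hTt, hTc⟩ : ∃ T : Finset α, S ⊆ T ∧ T ⊆ Finset.univ \ {a, b} ∧
        T.card = t := by
      apply Finset.exists_subsuperset_card_eq
      · intro x hx
        simp only [Finset.mem_sdiff, Finset.mem_univ, Finset.mem_insert, Finset.mem_singleton,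
          true_and, not_or]
        exact ⟨fun h => ha (h ▸ hx), fun h => hb (h ▸ hx)⟩
      · exact hS
      · have h1 : ({a, b} : Finset α).card ≤ 2 := Finset.card_le_two
        have h2 := Finset.card_sdiff_add_card_inter (Finset.univ : Finset α) {a, b}
        have h3 : (Finset.univ ∩ ({a, b} : Finset α)).card ≤ 2 :=
          le_trans (Finset.card_le_card Finset.inter_subset_right) h1
        rw [Finset.card_univ] at h2
        omega
    have haT : a ∉ T := fun h => by
      have := hTt h
      simp at this
    have hbT : b ∉ T := fun h => by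
      have := hTt h
      simp at this
    obtain ⟨g, hg, hgab⟩ := h T hTc a b haT hbT
    refine ⟨g, ?_, hgab⟩
    rw [mem_fixingSubgroup_iff] at hg ⊢
    intro y hy
    exact hg y (hST hy)
  have main : ∀ j : ℕ, j ≤ t + 1 → MulAction.IsMultiplyPretransitive G α j := by
    intro j
    induction j with
    | zero => intro _; exact MulAction.is_zero_pretransitive'
    | succ j ih =>
      intro hj
      have ihj := ih (by omega)
      obtain ⟨S, -, hSc⟩ := Finset.exists_subset_card_eq (s := (Finset.univ : Finset α)) (n := j)
        (by rw [Finset.card_univ]; omega)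
      have hn : (S : Set α).ncard = j := by rw [Set.ncard_coe_finset, hSc]
      have h1 : MulAction.IsMultiplyPretransitive (fixingSubgroup G (S : Set α))
          (SubMulAction.ofFixingSubgroup G (S : Set α)) 1 := by
        rw [MulAction.is_one_pretransitive_iff]
        constructor
        intro x y
        obtain ⟨g, hg, hgxy⟩ := key S (by omega) x.1 y.1
          (by simpa using (SubMulAction.mem_ofFixingSubgroup_iff G).mp x.2)
          (by simpa using (SubMulAction.mem_ofFixingSubgroup_iff G).mp y.2)
        exact ⟨⟨g, hg⟩, Subtype.ext hgxy⟩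
      have := Cfsg.Agent.Helper12.isMultiplyPretransitive_add_of_fixingSubgroup (G := G)
        (S : Set α) (k := 1) (hn ▸ ihj) h1
      rwa [hn] at this
  exact main (t + 1) le_rfl

/-- If all orbits of `K` inside an invariant set `S` have the same size `r`, then `r ∣ |S|`. -/
theorem dvd_ncard_of_orbits {K α : Type*} [Group K] [MulAction K α] [Finite α] (S : Set α)
    (hinv : ∀ (k : K) (x : α), x ∈ S → k • x ∈ S) (r : ℕ)
    (hr : ∀ x ∈ S, Nat.card (orbit K x) = r) : r ∣ S.ncard := by
  classical
  have := Fintype.ofFinite α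
  have e0 : S.ncard = S.toFinset.card := Set.ncard_eq_toFinset_card' S
  rw [e0]
  have key := Finset.card_eq_sum_card_fiberwise (f := fun x => orbit K x) (s := S.toFinset)
    (t := S.toFinset.image (fun x => orbit K x)) (fun x hx => Finset.mem_image_of_mem _ hx)
  rw [key]
  apply Finset.dvd_sum
  intro O hO
  obtain ⟨x, hx, rfl⟩ := Finset.mem_image.mp hO
  have hx' : x ∈ S := Set.mem_toFinset.mp hx
  have e1 : (S.toFinset.filter (fun y => orbit K y = orbit K x)) = (orbit K x).toFinset := by
    ext y
    simp only [Finset.mem_filter, Set.mem_toFinset]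
    constructor
    · rintro ⟨-, hyx⟩
      rw [← hyx]
      exact mem_orbit_self y
    · intro hy
      refine ⟨?_, orbit_eq_iff.mpr hy⟩
      obtain ⟨k, rfl⟩ := hy
      exact hinv k x hx'
  rw [e1, ← hr x hx', Nat.card_eq_fintype_card, Set.toFinset_card]

/-- orbit-stabiliser with `Nat.card` and `ncard` -/
theorem card_stabilizer_mul_ncard_orbit {K α : Type*} [Group K] [MulAction K α] (x : α) :
    Nat.card (stabilizer K x) * (orbit K x).ncard = Nat.card K := by
  rw [← index_stabilizer, Subgroup.card_mul_index]

/-- If all point stabilisers (points of an invariant set `Ω`) have the same order, all two-point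
stabilisers have the same order, and point stabilisers act non-trivially on `Ω`, then the group is
transitive on `Ω`. -/
theorem transitive_of_card_stabilizers {H α : Type*} [Group H] [Finite H] [MulAction H α]
    [Finite α] (Ω : Set α) (hinv : ∀ (h : H) (x : α), x ∈ Ω → h • x ∈ Ω) (l m : ℕ)
    (h1 : ∀ x ∈ Ω, Nat.card (stabilizer H x) = l)
    (h2 : ∀ x ∈ Ω, ∀ y ∈ Ω, x ≠ y → Nat.card (stabilizer (stabilizer H x) y) = m)
    (hnt : ∀ x ∈ Ω, ∃ g : stabilizer H x, ∃ z ∈ Ω, g • z ≠ z)
    (a b : α) (ha : a ∈ Ω) (hb : b ∈ Ω) : ∃ h : H, h • a = b := by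
  by_contra hcon
  push Not at hcon
  have hba : b ∉ orbit H a := by
    rintro ⟨h, hh⟩
    exact hcon h hh
  have hab : a ∉ orbit H b := by
    intro h
    exact hba ((orbit_eq_iff.mpr h) ▸ mem_orbit_self b)
  obtain ⟨g, z, hz, hgz⟩ := hnt a ha
  have hza : z ≠ a := by
    rintro rfl
    exact hgz g.2
  have hl : Nat.card (stabilizer H a) = l := h1 a ha
  have hlpos : 0 < l := hl ▸ Nat.card_pos
  have hm : ∀ y ∈ Ω, y ≠ a → m * (orbit (stabilizer H a) y).ncard = l := by
    intro y hy hya
    rw [← h2 a ha y hy (Ne.symm hya), card_stabilizer_mul_ncard_orbit, hl]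
  have hmpos : 0 < m := by
    rcases Nat.eq_zero_or_pos m with h | h
    · have := hm z hz hza
      rw [h, zero_mul] at this
      omega
    · exact h
  have hr : ∀ y ∈ Ω, y ≠ a → Nat.card (orbit (stabilizer H a) y) =
      (orbit (stabilizer H a) z).ncard := by
    intro y hy hya
    rw [Nat.card_coe_set_eq]
    have e1 := hm y hy hya
    have e2 := hm z hz hza
    exact Nat.eq_of_mul_eq_mul_left hmpos (e1.trans e2.symm)
  -- the common orbit size is at least two
  have hr2 : 2 ≤ (orbit (stabilizer H a) z).ncard := by
    have hsub : ({z, g • z} : Set α) ⊆ orbit (stabilizer H a) z := by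
      intro w hw
      rcases hw with rfl | rfl
      · exact mem_orbit_self _
      · exact mem_orbit _ _
    have := Set.ncard_le_ncard hsub (Set.toFinite _)
    rwa [Set.ncard_pair (Ne.symm hgz)] at this
  -- orbits of `H` through `a` and `b` have the same size
  have ht : (orbit H a).ncard = (orbit H b).ncard := by
    have e1 := card_stabilizer_mul_ncard_orbit (K := H) a
    have e2 := card_stabilizer_mul_ncard_orbit (K := H) b
    rw [h1 a ha] at e1
    rw [h1 b hb] at e2
    exact Nat.eq_of_mul_eq_mul_left hlpos (e1.trans e2.symm)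
  -- divisibility on the orbit of `b`
  have d1 : (orbit (stabilizer H a) z).ncard ∣ (orbit H b).ncard := by
    apply dvd_ncard_of_orbits (K := stabilizer H a) (orbit H b)
    · intro k x hx
      exact (orbit_eq_iff.mpr hx) ▸ mem_orbit x (k : H)
    · intro y hy
      apply hr y
      · obtain ⟨h, rfl⟩ := hy
        exact hinv h b hb
      · rintro rfl
        exact hab hy
  -- divisibility on the orbit of `a` minus `a`
  have d2 : (orbit (stabilizer H a) z).ncard ∣ (orbit H a \ {a}).ncard := by
    apply dvd_ncard_of_orbits (K := stabilizer H a) (orbit H a \ {a})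
    · rintro k x ⟨hx, hxa⟩
      refine ⟨(orbit_eq_iff.mpr hx) ▸ mem_orbit x (k : H), ?_⟩
      intro hkx
      apply hxa
      have hkx' : (k : H) • x = a := hkx
      have e : x = (k : H)⁻¹ • a := eq_inv_smul_iff.mpr hkx'
      have hk : (k : H)⁻¹ • a = a := (stabilizer H a).inv_mem k.2
      exact e.trans hk
    · rintro y ⟨hy, hya⟩
      apply hr y
      · obtain ⟨h, rfl⟩ := hy
        exact hinv h a ha
      · exact hya
  have e3 : (orbit H a \ {a}).ncard = (orbit H a).ncard - 1 := by
    rw [Set.ncard_sdiff_singleton_of_mem (mem_orbit_self a)]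
  have hpos : 0 < (orbit H a).ncard := by
    rw [Set.ncard_pos (Set.toFinite _)]
    exact ⟨a, mem_orbit_self a⟩
  rw [e3] at d2
  rw [← ht] at d1
  have d3 : (orbit (stabilizer H a) z).ncard ∣ 1 := by
    have := Nat.dvd_sub d1 d2
    rwa [show (orbit H a).ncard - ((orbit H a).ncard - 1) = 1 by omega] at this
  have := Nat.le_of_dvd one_pos d3
  omega

end Cfsg.Agent.Helper35
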