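import Mathlib

set_option autoImplicit false

/-!
# Groups with a self-centralizing normal subgroup `N ≃ T` are determined by their image in `Out T`

If `T` has trivial centre, `N ⊴ G` with `N ≃* T` and `C_G(N) ≤ N`, then `G` embeds into `Aut T` as the full
preimage of a subgroup of `Out T` isomorphic to `G ⧸ N`.  If any two subgroups of (a group `W` isomorphic to)
`Out T` that are isomorphic to `S` are conjugate, then any two such `G`, `G'` with `G ⧸ N ≃ S ≃ G' ⧸ N'` are
isomorphic.
-/

namespace Cfsg.Agent.Helper35.AutExt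

variable {T W : Type*} [Group T] [Group W]

/-- the action of `G` on the normal subgroup `N ≃ T` -/
noncomputable def actHom {G : Type*} [Group G] (N : Subgroup G) [N.Normal] (φ : N ≃* T) :
    G →* MulAut T :=
  (MulAut.congr φ).toMonoidHom.comp (MulAut.conjNormal (H := N))

theorem actHom_apply {G : Type*} [Group G] (N : Subgroup G) [N.Normal] (φ : N ≃* T) (g : G) (t : T) :
    actHom N φ g t = φ (MulAut.conjNormal g (φ.symm t)) := rfl

theorem actHom_of_mem {G : Type*} [Group G] (N : Subgroup G) [N.Normal] (φ : N ≃* T) (n : G)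
    (hn : n ∈ N) : actHom N φ n = MulAut.conj (φ ⟨n, hn⟩) := by
  ext t
  rw [actHom_apply, MulAut.conj_apply]
  have h : MulAut.conjNormal n (φ.symm t) = (⟨n, hn⟩ : N) * φ.symm t * (⟨n, hn⟩ : N)⁻¹ := by
    apply Subtype.ext
    rw [MulAut.conjNormal_apply]
    rfl
  rw [h, map_mul, map_mul, map_inv, MulEquiv.apply_symm_apply]

theorem mem_centralizer_of_actHom_eq_one {G : Type*} [Group G] (N : Subgroup G) [N.Normal]
    (φ : N ≃* T) (g : G) (h : actHom N φ g = 1) : g ∈ Subgroup.centralizer (N : Set G) := by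
  rw [Subgroup.mem_centralizer_iff]
  intro n hn
  have h1 := congrArg (fun f : MulAut T => f (φ ⟨n, hn⟩)) h
  simp only [MulAut.one_apply] at h1
  rw [actHom_apply, MulEquiv.symm_apply_apply] at h1
  have h2 := φ.injective h1
  have h3 := congrArg (Subtype.val) h2
  rw [MulAut.conjNormal_apply] at h3
  simp only at h3
  calc n * g = (g * n * g⁻¹) * g := by rw [h3]
    _ = g * n := by group

theorem actHom_injective {G : Type*} [Group G] (N : Subgroup G) [N.Normal] (φ : N ≃* T)
    (hZ : Subgroup.center T = ⊥) (hC : Subgroup.centralizer (N : Set G) ≤ N) :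
    Function.Injective (actHom N φ) := by
  rw [injective_iff_map_eq_one]
  intro g hg
  have hgN : g ∈ N := hC (mem_centralizer_of_actHom_eq_one N φ g hg)
  rw [actHom_of_mem N φ g hgN] at hg
  have hcen : φ ⟨g, hgN⟩ ∈ Subgroup.center T := by
    rw [Subgroup.mem_center_iff]
    intro t
    have h1 := congrArg (fun f : MulAut T => f t) hg
    simp only [MulAut.conj_apply, MulAut.one_apply] at h1
    calc t * φ ⟨g, hgN⟩ = (φ ⟨g, hgN⟩ * t * (φ ⟨g, hgN⟩)⁻¹) * φ ⟨g, hgN⟩ := by rw [h1]
      _ = φ ⟨g, hgN⟩ * t := by group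
  rw [hZ, Subgroup.mem_bot] at hcen
  have h2 : (⟨g, hgN⟩ : N) = 1 := φ.injective (by rw [hcen, map_one])
  exact congrArg Subtype.val h2

theorem ker_comp_actHom {G : Type*} [Group G] (N : Subgroup G) [N.Normal] (φ : N ≃* T)
    (π : MulAut T →* W) (hker : π.ker = (MulAut.conj : T →* MulAut T).range)
    (hC : Subgroup.centralizer (N : Set G) ≤ N) : (π.comp (actHom N φ)).ker = N := by
  ext x
  rw [MonoidHom.mem_ker, MonoidHom.comp_apply, ← MonoidHom.mem_ker, hker]
  constructor
  · rintro ⟨t, ht⟩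
    have hn : ((φ.symm t : N) : G) ∈ N := (φ.symm t).2
    have h1 : actHom N φ ((φ.symm t : N) : G) = MulAut.conj t := by
      rw [actHom_of_mem N φ _ hn]
      congr 1
      exact φ.apply_symm_apply t
    have h2 : actHom N φ (((φ.symm t : N) : G)⁻¹ * x) = 1 := by
      rw [map_mul, map_inv, h1, ← ht, inv_mul_cancel]
    have h3 := hC (mem_centralizer_of_actHom_eq_one N φ _ h2)
    have : x = ((φ.symm t : N) : G) * (((φ.symm t : N) : G)⁻¹ * x) := by group
    rw [this]
    exact N.mul_mem hn h3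
  · intro hx
    exact ⟨φ ⟨x, hx⟩, (actHom_of_mem N φ x hx).symm⟩

theorem range_eq_comap {G : Type*} [Group G] (N : Subgroup G) [N.Normal] (φ : N ≃* T)
    (π : MulAut T →* W) (hker : π.ker = (MulAut.conj : T →* MulAut T).range) :
    (actHom N φ).range = (π.comp (actHom N φ)).range.comap π := by
  ext β
  rw [Subgroup.mem_comap]
  constructor
  · rintro ⟨g, rfl⟩
    exact ⟨g, rfl⟩
  · rintro ⟨g, hg⟩
    have h1 : β * (actHom N φ g)⁻¹ ∈ π.ker := by
      rw [MonoidHom.mem_ker, map_mul, map_inv, ← hg, MonoidHom.comp_apply, mul_inv_cancel]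
    rw [hker] at h1
    obtain ⟨t, ht⟩ := h1
    have hn : ((φ.symm t : N) : G) ∈ N := (φ.symm t).2
    have h2 : actHom N φ ((φ.symm t : N) : G) = MulAut.conj t := by
      rw [actHom_of_mem N φ _ hn]
      congr 1
      exact φ.apply_symm_apply t
    refine ⟨((φ.symm t : N) : G) * g, ?_⟩
    rw [map_mul, h2, ht]
    group

/-- The main uniqueness statement. -/
theorem nonempty_mulEquiv {S : Type*} [Group S] (hZ : Subgroup.center T = ⊥)
    (π : MulAut T →* W) (hπ : Function.Surjective π)
    (hker : π.ker = (MulAut.conj : T →* MulAut T).range)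
    (hconj : ∀ P P' : Subgroup W, Nonempty (P ≃* S) → Nonempty (P' ≃* S) →
      ∃ y : W, ∀ w : W, w ∈ P' ↔ y⁻¹ * w * y ∈ P)
    {G G' : Type*} [Group G] [Group G'] (N : Subgroup G) [N.Normal] (N' : Subgroup G') [N'.Normal]
    (φ : N ≃* T) (φ' : N' ≃* T)
    (hC : Subgroup.centralizer (N : Set G) ≤ N) (hC' : Subgroup.centralizer (N' : Set G') ≤ N')
    (e : G ⧸ N ≃* S) (e' : G' ⧸ N' ≃* S) : Nonempty (G ≃* G') := by
  -- the subgroups of `W`
  have hQ : Nonempty ((π.comp (actHom N φ)).range ≃* S) :=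
    ⟨(QuotientGroup.quotientKerEquivRange (π.comp (actHom N φ))).symm.trans
      ((QuotientGroup.quotientMulEquivOfEq (ker_comp_actHom N φ π hker hC)).trans e)⟩
  have hQ' : Nonempty ((π.comp (actHom N' φ')).range ≃* S) :=
    ⟨(QuotientGroup.quotientKerEquivRange (π.comp (actHom N' φ'))).symm.trans
      ((QuotientGroup.quotientMulEquivOfEq (ker_comp_actHom N' φ' π hker hC')).trans e')⟩
  obtain ⟨y, hy⟩ := hconj _ _ hQ hQ'
  obtain ⟨α, rfl⟩ := hπ y
  -- the ranges are conjugate under `α`
  have hR : (actHom N' φ').range = (actHom N φ).range.map (MulAut.conj α).toMonoidHom := by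
    ext β
    rw [range_eq_comap N' φ' π hker, Subgroup.mem_comap, hy, Subgroup.mem_map]
    have h1 : (π α)⁻¹ * π β * π α = π (α⁻¹ * β * α) := by
      rw [map_mul, map_mul, map_inv]
    rw [h1, ← Subgroup.mem_comap, ← range_eq_comap N φ π hker]
    constructor
    · intro h
      refine ⟨α⁻¹ * β * α, h, ?_⟩
      show MulAut.conj α (α⁻¹ * β * α) = β
      rw [MulAut.conj_apply]
      group
    · rintro ⟨γ, hγ, rfl⟩
      have : α⁻¹ * (MulAut.conj α).toMonoidHom γ * α = γ := by
        show α⁻¹ * (MulAut.conj α γ) * α = γ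
        rw [MulAut.conj_apply]
        group
      rw [this]
      exact hγ
  have e1 : G ≃* (actHom N φ).range := MonoidHom.ofInjective (actHom_injective N φ hZ hC)
  have e2 : G' ≃* (actHom N' φ').range := MonoidHom.ofInjective (actHom_injective N' φ' hZ hC')
  have e3 : (actHom N φ).range ≃* (actHom N φ).range.map (MulAut.conj α).toMonoidHom :=
    (MulAut.conj α).subgroupMap _
  exact ⟨e1.trans (e3.trans ((MulEquiv.subgroupCongr hR.symm).trans e2.symm))⟩

end Cfsg.Agent.Helper35.AutExt
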