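import Mathlib
import Cfsg.Agent.Helper70.BG14N1
import Cfsg.Agent.S1409
import Cfsg.Agent.Helper71.BGHall
import Cfsg.Agent.Helper67.CyclicSub
import Cfsg.Agent.Helper31.BGTrans
import Cfsg.Agent.Helper29.BG10C
import Cfsg.Agent.Helper29.BG10D
import Cfsg.Agent.Helper23.BG13E

/-!
# B-G §13/§14, THEOREM N3 (helper70, board #3585 / #3892): chunk [S0]

`mem_tau_of_dvd_card_compl` (GB1), `not_conj_of_mem_tau1` (GB2), `step0_of`, `exists_step0`,
`step0_same` with the exact signatures of helper70's skeleton `Helper70/BG14Skel.lean`.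
-/

set_option autoImplicit false
set_option linter.style.haveILetI false
set_option linter.unusedVariables false

namespace Cfsg.Agent.Helper35.BG14

open Cfsg Cfsg.Agent.Helper29 Cfsg.Agent.Helper29.BG10 Cfsg.Agent.Helper29.BG11
open Cfsg.Agent.Helper70.BG14
open scoped commutatorElement

variable {G : Type*} [Group G] [Finite G]

/-- (GB1) a prime dividing `|E|` is in `τ₁(M) ∪ τ₂(M) ∪ τ₃(M)` -/
theorem mem_tau_of_dvd_card_compl (hG : Cfsg.IsMinSimpleOddOrder G) {M E : Subgroup G}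
    (hM : IsCoatom M) (hE : Cfsg.IsComplIn E (Cfsg.sigmaCore M) M) {r : ℕ} (hr : r.Prime)
    (hrE : r ∣ Nat.card ↥E) : r ∈ Cfsg.tau1 M ∨ r ∈ Cfsg.tau2 M ∨ r ∈ Cfsg.tau3 M := by
  have h := ectx hG hM hE
  have hrσ : r ∉ Cfsg.sigma M := h.not_sigma_of_dvd r hr hrE
  have hrM : r ∣ Nat.card M := hrE.trans (Subgroup.card_dvd_of_le h.le)
  have h2 : Cfsg.PRankLE r 2 M := by
    by_contra hcon
    exact hrσ (h.alpha_sub ⟨hr, hcon⟩)
  by_cases h1 : Cfsg.PRankLE r 1 M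
  · by_cases hc : r ∣ Nat.card ↥⁅M, M⁆
    · right; right; exact ⟨hr, hrσ, hc, h1⟩
    · left; exact ⟨hr, hrσ, hrM, hc, h1⟩
  · right; left; exact ⟨hr, hrσ, h2, h1⟩

/-- (GB2) `N_G(P) ≤ H` for `P` of order `p ∈ τ₁(M)` forces `H` not conjugate to `M` (S1409) -/
theorem not_conj_of_mem_tau1 (hG : Cfsg.IsMinSimpleOddOrder G) {M H : Subgroup G}
    (hM : IsCoatom M) {p : ℕ} (hp : p ∈ Cfsg.tau1 M) {P : Subgroup G} (hP : Nat.card ↥P = p)
    (hNH : Subgroup.normalizer (P : Set G) ≤ H) : ∀ g : G, cj g M ≠ H := by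
  intro g hg
  haveI : Fact p.Prime := ⟨hp.1⟩
  have hX : Nat.card (cj g⁻¹ P) = p := by rw [card_cj, hP]
  have hN : Subgroup.normalizer ((cj g⁻¹ P : Subgroup G) : Set G) ≤ M := by
    rw [normalizer_cj, cj_le_iff, inv_inv, hg]
    exact hNH
  have := (Cfsg.Agent.S1409.result hG M hM p hp.2.1 (cj g⁻¹ P) hX hN).1.2
  exact this hp.2.2.2.2

/-- a subgroup of `E` of prime order `s ∈ τ₃(M)` is normal in `E` and lies in `E'` -/
theorem tau3_normal_le_comm (hG : Cfsg.IsMinSimpleOddOrder G) {M E Y : Subgroup G} {s : ℕ}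
    (hM : IsCoatom M) (hE : Cfsg.IsComplIn E (Cfsg.sigmaCore M) M) (hs : s ∈ Cfsg.tau3 M)
    (hYE : Y ≤ E) (hY : Nat.card Y = s) :
    E ≤ Subgroup.normalizer (Y : Set G) ∧ Y ≤ ⁅E, E⁆ := by
  have hc := ectx hG hM hE
  haveI := hc.solvable
  haveI : Fact s.Prime := ⟨hs.1⟩
  obtain ⟨E₃, hE₃, hYE₃⟩ := Cfsg.Agent.Helper71.BGHall.exists_isPiHallOf_ge (Cfsg.tau3 M) E hYE
    (by
      intro p hp hpd
      rw [hY] at hpd
      rw [(Nat.prime_dvd_prime_iff_eq hp hs.1).1 hpd]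
      exact hs)
  obtain ⟨hcyc, hcomm, hnorm⟩ := hc.tau3 hE₃
  haveI := hcyc
  refine ⟨?_, hYE₃.trans hcomm⟩
  intro e he
  apply mem_normalizer_of_cj_eq
  apply Cfsg.Agent.Helper67.eq_of_card_eq_of_le_cyclic E₃ _ _ ?_ hYE₃ (card_cj e Y)
  have h1 : cj e Y ≤ cj e E₃ := cj_mono hYE₃
  rwa [cj_eq_of_mem_normalizer (hnorm he)] at h1

theorem step0_of (hG : Cfsg.IsMinSimpleOddOrder G) {M E Y : Subgroup G} {s : ℕ}
    (h : N3Hyp M E Y s) {L : Subgroup G} (hL : IsCoatom L)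
    (hNL : Subgroup.normalizer (Y : Set G) ≤ L) : Step0 M E Y s L := by
  have hM := h.coatom
  have hc := ectx hG hM h.compl
  have hs := h.mem_tau3
  haveI : Fact s.Prime := ⟨hs.1⟩
  have hYp : IsPGroup s Y := IsPGroup.of_card (n := 1) (by rw [pow_one]; exact h.card)
  have hY1 : Y ≠ ⊥ := by
    intro hb
    have := h.card
    rw [hb, Subgroup.card_bot] at this
    exact hs.1.one_lt.ne this
  obtain ⟨hnormal, hlecomm⟩ := tau3_normal_le_comm hG hM h.compl hs h.le h.card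
  have hEL : E ≤ L := hnormal.trans hNL
  have hYM : Y ≤ M := h.le.trans hc.le
  have hCL : Subgroup.centralizer (Y : Set G) ≤ L :=
    (Subgroup.centralizer_le_normalizer _).trans hNL
  -- `L` is not conjugate to `M`
  have hnc : ∀ g : G, cj g M ≠ L := by
    intro g hg
    obtain ⟨S, hYS, hS⟩ := exists_isSylowIn_ge hYM hYp
    haveI : IsCyclic ↥S :=
      Cfsg.Agent.Helper23.BG13.isCyclic_of_isPGroup_of_pRankLE_one hG.1 hS.2.1
        (Cfsg.Agent.Helper23.BG13.pRankLE_mono hS.1 hs.2.2.2)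
    have hNS : Subgroup.normalizer (S : Set G) ≤ L := by
      refine le_trans ?_ hNL
      intro n hn
      apply mem_normalizer_of_cj_eq
      apply Cfsg.Agent.Helper67.eq_of_card_eq_of_le_cyclic S _ _ ?_ hYS (card_cj n Y)
      have h1 : cj n Y ≤ cj n S := cj_mono hYS
      rwa [cj_eq_of_mem_normalizer hn] at h1
    have hSL : S ≤ L := Subgroup.le_normalizer.trans hNS
    have hcard : Nat.card L = Nat.card M := by rw [← hg, card_cj]
    have hSylL : IsSylowIn s S L := by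
      refine ⟨hSL, hS.2.1, ?_⟩
      have h1 := Cfsg.Agent.Helper31.relIndex_mul_card' hSL
      have h2 := Cfsg.Agent.Helper31.relIndex_mul_card' hS.1
      rw [hcard, ← h2] at h1
      rw [Nat.eq_of_mul_eq_mul_right Nat.card_pos h1]
      exact hS.2.2
    have hsL : s ∈ Cfsg.sigma L :=
      mem_sigma_iff.2 ⟨(by
        rw [← h.card]
        exact Subgroup.card_dvd_of_le (hYS.trans hSL)), S, hSylL, hNS⟩
    rw [← hg, sigma_cj] at hsL
    exact hs.2.1 hsL
  have hLM : L ≠ M := by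
    intro hLM
    apply hnc 1
    rw [cj_one, hLM]
  have hge : Cfsg.sigmaCore M ⊓ Subgroup.centralizer (Y : Set G) ≤ Cfsg.sigmaCore M ⊓ L :=
    inf_le_inf_left _ hCL
  refine ⟨h, hL, hNL, hnormal, hlecomm, hEL, hnc, ?_, ?_⟩
  · -- `τ₂(M) = ∅`
    ext r
    simp only [Set.mem_empty_iff_false, iff_false]
    intro hr
    haveI : Fact r.Prime := ⟨hr.1⟩
    obtain ⟨A, hAE, hAe, hAc⟩ :=
      Cfsg.Agent.Helper71.BGHall.exists_elementaryAbelian_sq_le_compl hc hr.2.1 hr.2.2.1 hr.2.2.2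
    have h17 := (Cfsg.Agent.S1417.result hG M hM r hr A ⟨hAE.trans hc.le, hAe, hAc⟩).2.2.2.2.1
      L hL hLM (hAE.trans hEL)
    apply h.cent_ne_bot
    rw [eq_bot_iff, ← h17]
    exact hge
  · -- `M_σ ∩ L = C_{M_σ}(Y)`
    apply le_antisymm _ hge
    refine le_inf inf_le_left ?_
    have hs1 : s ∉ Cfsg.tau1 L := by
      intro h1
      apply h1.2.2.2.1
      rw [← h.card]
      exact Subgroup.card_dvd_of_le (hlecomm.trans (Subgroup.commutator_mono hEL hEL))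
    have hA := lemmaA hG hM hL hnc (x := s) hs.2.1 hYp hY1 hYM (h.le.trans hEL) hs1
    exact Subgroup.commutator_eq_bot_iff_le_centralizer.1 hA

theorem exists_step0 (hG : Cfsg.IsMinSimpleOddOrder G) {M E Y : Subgroup G} {s : ℕ}
    (h : N3Hyp M E Y s) : ∃ L : Subgroup G, Step0 M E Y s L := by
  have hs := h.mem_tau3
  haveI : Fact s.Prime := ⟨hs.1⟩
  haveI : IsSimpleGroup G := hG.2.1
  have hYp : IsPGroup s Y := IsPGroup.of_card (n := 1) (by rw [pow_one]; exact h.card)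
  have hY1 : Y ≠ ⊥ := by
    intro hb
    have := h.card
    rw [hb, Subgroup.card_bot] at this
    exact hs.1.one_lt.ne this
  have hN : Subgroup.normalizer (Y : Set G) ≠ ⊤ :=
    Cfsg.Agent.Helper31.bgt_normalizer_ne_top_of_simple hY1 (isPGroup_ne_top hG hYp)
  rcases eq_top_or_exists_le_coatom (Subgroup.normalizer (Y : Set G)) with h1 | ⟨L, hL, hNL⟩
  · exact absurd h1 hN
  · exact ⟨L, step0_of hG h hL hNL⟩

/-- half of `step0_same` -/
theorem cent_le_cent (hG : Cfsg.IsMinSimpleOddOrder G) {M E Y : Subgroup G} {s : ℕ}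
    (h : N3Hyp M E Y s) {Y' : Subgroup G} {s' : ℕ} (hs' : s' ∈ Cfsg.tau3 M) (hY'E : Y' ≤ E)
    (hY' : Nat.card ↥Y' = s') :
    Cfsg.sigmaCore M ⊓ Subgroup.centralizer (Y : Set G) ≤
      Cfsg.sigmaCore M ⊓ Subgroup.centralizer (Y' : Set G) := by
  obtain ⟨L, h0⟩ := exists_step0 hG h
  have hM := h.coatom
  have hc := ectx hG hM h.compl
  haveI : Fact s'.Prime := ⟨hs'.1⟩
  have hYp : IsPGroup s' Y' := IsPGroup.of_card (n := 1) (by rw [pow_one]; exact hY')
  have hY1 : Y' ≠ ⊥ := by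
    intro hb
    rw [hb, Subgroup.card_bot] at hY'
    exact hs'.1.one_lt.ne hY'
  obtain ⟨-, hlecomm⟩ := tau3_normal_le_comm hG hM h.compl hs' hY'E hY'
  have hs1 : s' ∉ Cfsg.tau1 L := by
    intro h1
    apply h1.2.2.2.1
    rw [← hY']
    exact Subgroup.card_dvd_of_le (hlecomm.trans (Subgroup.commutator_mono h0.le_L h0.le_L))
  have hA := lemmaA hG hM h0.coatomL h0.not_conj (x := s') hs'.2.1 hYp hY1 (hY'E.trans hc.le)
    (hY'E.trans h0.le_L) hs1
  rw [← h0.inf_eq]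
  exact le_inf inf_le_left (Subgroup.commutator_eq_bot_iff_le_centralizer.1 hA)

theorem step0_same (hG : Cfsg.IsMinSimpleOddOrder G) {M E Y : Subgroup G} {s : ℕ}
    (h : N3Hyp M E Y s) {Y' : Subgroup G} {s' : ℕ} (hs' : s' ∈ Cfsg.tau3 M) (hY'E : Y' ≤ E)
    (hY' : Nat.card ↥Y' = s') :
    Cfsg.sigmaCore M ⊓ Subgroup.centralizer (Y' : Set G) =
      Cfsg.sigmaCore M ⊓ Subgroup.centralizer (Y : Set G) := by
  have h1 := cent_le_cent hG h hs' hY'E hY'
  have h' : N3Hyp M E Y' s' :=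
    ⟨h.coatom, h.compl, hs', hY'E, hY', fun hb => h.cent_ne_bot (eq_bot_iff.2 (hb ▸ h1))⟩
  exact le_antisymm (cent_le_cent hG h' h.mem_tau3 h.le h.card) h1

end Cfsg.Agent.Helper35.BG14
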