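import Mathlib

/-!
Linear algebra for S3033 (helper35): endomorphisms `X` all of whose vectors `v - X v` are
eigenvectors.
-/

set_option autoImplicit false

namespace Cfsg.Agent.Helper35.CPLin

section LA

variable {F : Type*} [Field F] {V : Type*} [AddCommGroup V] [Module F V]

/-- If every vector of `W` is an eigenvector of `X`, then `X` is a scalar on `W`. -/
theorem exists_scalar_of_forall_eigen (X : Module.End F V) (W : Submodule F V)
    (h : ∀ w ∈ W, ∃ c : F, X w = c • w) : ∃ l : F, ∀ w ∈ W, X w = l • w := by
  by_cases hW : ∀ w ∈ W, w = 0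
  · exact ⟨0, fun w hw => by rw [hW w hw]; simp⟩
  · push Not at hW
    obtain ⟨w₀, hw₀, hne⟩ := hW
    obtain ⟨l, hl⟩ := h w₀ hw₀
    refine ⟨l, fun w hw => ?_⟩
    obtain ⟨c, hc⟩ := h w hw
    obtain ⟨d, hd⟩ := h (w + w₀) (W.add_mem hw hw₀)
    by_cases hcl : c = l
    · rw [hc, hcl]
    · have h1 : (d - c) • w = (l - d) • w₀ := by
        have h0 : X (w + w₀) = c • w + l • w₀ := by rw [map_add, hc, hl]
        rw [h0, smul_add] at hd
        have h2 : (d - c) • w - (l - d) • w₀ = 0 := by
          rw [sub_smul, sub_smul,
            show d • w - c • w - (l • w₀ - d • w₀) = (d • w + d • w₀) - (c • w + l • w₀) by abel,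
            ← hd, sub_self]
        exact sub_eq_zero.mp h2
      by_cases hdc : d = c
      · exfalso
        rw [hdc, sub_self, zero_smul] at h1
        rcases smul_eq_zero.mp h1.symm with h3 | h3
        · exact hcl (sub_eq_zero.mp h3).symm
        · exact hne h3
      · have h3 : w = ((d - c)⁻¹ * (l - d)) • w₀ := by
          rw [mul_smul, ← h1, smul_smul, inv_mul_cancel₀ (sub_ne_zero.mpr hdc), one_smul]
        rw [h3, map_smul, hl, smul_smul, smul_smul, mul_comm]

/-- every `v - X v` is an eigenvector of `X`. -/
def Good (X : Module.End F V) : Prop := ∀ v, ∃ c : F, X (v - X v) = c • (v - X v)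

/-- `X` acts as the scalar `l` on all `v - X v`. -/
def Quad (X : Module.End F V) (l : F) : Prop := ∀ v, X (v - X v) = l • (v - X v)

theorem Good.exists_quad {X : Module.End F V} (h : Good X) : ∃ l, Quad X l := by
  obtain ⟨l, hl⟩ := exists_scalar_of_forall_eigen X (LinearMap.range (LinearMap.id - X)) (by
    rintro w ⟨v, rfl⟩
    simpa using h v)
  exact ⟨l, fun v => by simpa using hl (v - X v) ⟨v, by simp⟩⟩

theorem Quad.sq_apply {X : Module.End F V} {l : F} (h : Quad X l) (v : V) :
    X (X v) = X v - l • v + l • X v := by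
  have := h v
  rw [map_sub, smul_sub] at this
  have h2 : X (X v) = X v - (l • v - l • X v) := by
    rw [← this]
    abel
  rw [h2]
  abel

theorem Quad.apply_sub_smul {X : Module.End F V} {l : F} (h : Quad X l) (v : V) :
    X (X v - l • v) = X v - l • v := by
  rw [map_sub, map_smul, h.sq_apply]
  abel

theorem Quad.eigen_cases {X : Module.End F V} {l : F} (h : Quad X l) {u : V} {d : F}
    (hu : X u = d • u) (hne : u ≠ 0) : d = 1 ∨ d = l := by
  have h1 := h u
  rw [hu, map_sub, map_smul, hu] at h1
  have h2 : ((1 - d) * (d - l)) • u = 0 := by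
    have : ((1 - d) * (d - l)) • u = (d • u - d • d • u) - l • (u - d • u) := by
      rw [smul_sub, smul_smul, smul_smul]
      have e : (1 - d) * (d - l) = d - d * d - (l - l * d) := by ring
      rw [e, sub_smul, sub_smul, sub_smul]
    rw [this, h1, sub_self]
  rcases smul_eq_zero.mp h2 with h3 | h3
  · rcases mul_eq_zero.mp h3 with h4 | h4
    · left; exact (sub_eq_zero.mp h4).symm
    · right; exact sub_eq_zero.mp h4
  · exact absurd h3 hne

theorem pow_apply_of_eigen (X : Module.End F V) {u : V} {d : F} (hu : X u = d • u) (n : ℕ) :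
    (X ^ n) u = d ^ n • u := by
  induction n with
  | zero => simp
  | succ n ih => rw [pow_succ, Module.End.mul_apply, hu, map_smul, ih, smul_smul, ← pow_succ']

/-- A unipotent `X` of order prime to the characteristic is trivial. -/
theorem Quad.eq_one_of_pow {X : Module.End F V} (h : Quad X 1) {n : ℕ} (hn : (n : F) ≠ 0)
    (hX : X ^ n = 1) (v : V) : X v = v := by
  have hfix : X (X v - v) = X v - v := by
    have := h v
    rw [one_smul] at this
    rw [← neg_sub, map_neg, this]
  have hpow : ∀ k : ℕ, (X ^ k) v = v + (k : F) • (X v - v) := by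
    intro k
    induction k with
    | zero => simp
    | succ k ih =>
      rw [pow_succ', Module.End.mul_apply, ih, map_add, map_smul, hfix, Nat.cast_succ, add_smul,
        one_smul]
      abel
  have h1 := hpow n
  rw [hX, Module.End.one_apply] at h1
  have h2 : (n : F) • (X v - v) = 0 := by
    have := h1
    rw [left_eq_add] at this
    exact this
  rcases smul_eq_zero.mp h2 with h3 | h3
  · exact absurd h3 hn
  · exact sub_eq_zero.mp h3

end LA

end Cfsg.Agent.Helper35.CPLin
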