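import Mathlib
import Cfsg.Agent.Helper35.CPLinA

/-!
Linear algebra for S3033 (helper35), part B: a representation, its scalar subgroup, and the
two-eigenspace configuration.
-/

set_option autoImplicit false

namespace Cfsg.Agent.Helper35.CPLin

open Module.End

section Rep

variable {F : Type*} [Field F] {V : Type*} [AddCommGroup V] [Module F V]
variable {M : Type*} [Group M] (ρ : M →* Module.End F V)

theorem rho_inv_apply (m : M) (v : V) : ρ m⁻¹ (ρ m v) = v := by
  rw [← Module.End.mul_apply, ← map_mul, inv_mul_cancel, map_one, Module.End.one_apply]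

theorem rho_apply_inv (m : M) (v : V) : ρ m (ρ m⁻¹ v) = v := by
  rw [← Module.End.mul_apply, ← map_mul, mul_inv_cancel, map_one, Module.End.one_apply]

theorem rho_apply_ne_zero (m : M) {v : V} (hv : v ≠ 0) : ρ m v ≠ 0 := by
  intro h
  apply hv
  rw [← rho_inv_apply ρ m v, h, map_zero]

/-- The elements acting as scalars. -/
def scalarSub : Subgroup M where
  carrier := {m | ∃ c : F, ∀ v, ρ m v = c • v}
  one_mem' := ⟨1, fun v => by simp⟩
  mul_mem' := by
    rintro a b ⟨c, hc⟩ ⟨d, hd⟩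
    exact ⟨d * c, fun v => by rw [map_mul, Module.End.mul_apply, hd, map_smul, hc, smul_smul]⟩
  inv_mem' := by
    rintro a ⟨c, hc⟩
    refine ⟨c⁻¹, fun v => ?_⟩
    have h1 : c • ρ a⁻¹ v = v := by
      rw [← hc, rho_apply_inv]
    by_cases hc0 : c = 0
    · rw [hc0, zero_smul] at h1
      rw [← h1]; simp
    · conv_rhs => rw [← h1]
      rw [smul_smul, inv_mul_cancel₀ hc0, one_smul]

theorem mem_scalarSub {m : M} : m ∈ scalarSub ρ ↔ ∃ c : F, ∀ v, ρ m v = c • v := Iff.rfl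

instance scalarSub_normal : (scalarSub ρ).Normal := by
  constructor
  rintro n ⟨c, hc⟩ g
  refine ⟨c, fun v => ?_⟩
  rw [map_mul, map_mul, Module.End.mul_apply, Module.End.mul_apply, hc, map_smul, rho_apply_inv]

/-- The two-eigenspace configuration. -/
structure Ctx (a : M) (l : F) : Prop where
  quad : Quad (ρ a) l
  l_ne : l ≠ 1
  notZ : a ∉ scalarSub ρ
  conj : ∀ m : M, ∃ z ∈ scalarSub ρ, ∃ k : ℕ, m * a * m⁻¹ = z * a ^ k

variable {ρ} {a : M} {l : F}

/-- `m` preserves both eigenspaces -/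
def Pres (ρ : M →* Module.End F V) (a : M) (l : F) (m : M) : Prop :=
  (∀ w, ρ a w = w → ρ a (ρ m w) = ρ m w) ∧ (∀ w, ρ a w = l • w → ρ a (ρ m w) = l • ρ m w)

/-- `m` swaps the eigenspaces -/
def Swap (ρ : M →* Module.End F V) (a : M) (l : F) (m : M) : Prop :=
  (∀ w, ρ a w = w → ρ a (ρ m w) = l • ρ m w) ∧ (∀ w, ρ a w = l • w → ρ a (ρ m w) = ρ m w)

namespace Ctx

variable (C : Ctx ρ a l)
include C

theorem one_sub_ne : (1 - l) ≠ 0 := sub_ne_zero.mpr (Ne.symm C.l_ne)

theorem decomp (v : V) : ∃ v₁ v₂ : V, ρ a v₁ = v₁ ∧ ρ a v₂ = l • v₂ ∧ v = v₁ + v₂ := by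
  refine ⟨(1 - l)⁻¹ • (ρ a v - l • v), (1 - l)⁻¹ • (v - ρ a v), ?_, ?_, ?_⟩
  · rw [map_smul, C.quad.apply_sub_smul]
  · rw [map_smul, C.quad v, smul_comm]
  · rw [← smul_add, show ρ a v - l • v + (v - ρ a v) = (1 - l) • v by rw [sub_smul, one_smul]; abel,
      smul_smul, inv_mul_cancel₀ C.one_sub_ne, one_smul]

theorem ext_on (T T' : Module.End F V) (h1 : ∀ w, ρ a w = w → T w = T' w)
    (h2 : ∀ w, ρ a w = l • w → T w = T' w) (v : V) : T v = T' v := by
  obtain ⟨v₁, v₂, hv₁, hv₂, rfl⟩ := C.decomp v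
  rw [map_add, map_add, h1 v₁ hv₁, h2 v₂ hv₂]

theorem inter {w : V} (h1 : ρ a w = w) (h2 : ρ a w = l • w) : w = 0 := by
  have : (1 - l) • w = 0 := by rw [sub_smul, one_smul, ← h2, h1, sub_self]
  rcases smul_eq_zero.mp this with h | h
  · exact absurd h C.one_sub_ne
  · exact h

theorem exists_E1 : ∃ w : V, w ≠ 0 ∧ ρ a w = w := by
  by_contra hcon
  push Not at hcon
  apply C.notZ
  refine ⟨l, fun v => ?_⟩
  have := C.quad.apply_sub_smul v
  by_contra hne
  exact hcon (ρ a v - l • v) (sub_ne_zero.mpr hne) this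

theorem exists_E2 : ∃ w : V, w ≠ 0 ∧ ρ a w = l • w := by
  by_contra hcon
  push Not at hcon
  apply C.notZ
  refine ⟨1, fun v => ?_⟩
  rw [one_smul]
  by_contra hne
  exact hcon (v - ρ a v) (sub_ne_zero.mpr (Ne.symm hne)) (C.quad v)

theorem conj_eigen (m : M) : ∃ d₁ d₂ : F, (∀ w, ρ a w = w → ρ a (ρ m w) = d₁ • ρ m w) ∧
    (∀ w, ρ a w = l • w → ρ a (ρ m w) = d₂ • ρ m w) := by
  obtain ⟨z, ⟨c, hc⟩, k, hk⟩ := C.conj m⁻¹
  rw [inv_inv] at hk
  have ham : a * m = m * z * a ^ k := by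
    rw [mul_assoc m, ← hk]; group
  have key : ∀ w, ρ a (ρ m w) = ρ m (c • ((ρ a) ^ k) w) := by
    intro w
    rw [← Module.End.mul_apply, ← map_mul, ham, map_mul, map_mul, map_pow, Module.End.mul_apply,
      Module.End.mul_apply, hc]
  refine ⟨c, c * l ^ k, fun w hw => ?_, fun w hw => ?_⟩
  · rw [key, pow_apply_of_eigen (ρ a) (d := 1) (by rw [one_smul]; exact hw), one_pow, one_smul,
      map_smul]
  · rw [key, pow_apply_of_eigen (ρ a) hw, smul_smul, map_smul]

theorem dichotomy (m : M) : Pres ρ a l m ∨ Swap ρ a l m := by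
  obtain ⟨d₁, d₂, h1, h2⟩ := C.conj_eigen m
  obtain ⟨w₁, hw₁, hw₁'⟩ := C.exists_E1
  obtain ⟨w₂, hw₂, hw₂'⟩ := C.exists_E2
  have c1 := C.quad.eigen_cases (h1 w₁ hw₁') (rho_apply_ne_zero ρ m hw₁)
  have c2 := C.quad.eigen_cases (h2 w₂ hw₂') (rho_apply_ne_zero ρ m hw₂)
  have hne : d₁ ≠ d₂ := by
    intro hd
    apply C.notZ
    have hall : ∀ v, ρ a (ρ m v) = d₁ • ρ m v := by
      intro v
      have := C.ext_on (ρ a * ρ m) (d₁ • ρ m) (fun w hw => by
        rw [Module.End.mul_apply, h1 w hw, LinearMap.smul_apply]) (fun w hw => by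
        rw [Module.End.mul_apply, h2 w hw, hd, LinearMap.smul_apply]) v
      rw [Module.End.mul_apply, LinearMap.smul_apply] at this
      exact this
    have hz : m⁻¹ * a * m ∈ scalarSub ρ := by
      refine ⟨d₁, fun v => ?_⟩
      rw [map_mul, map_mul, Module.End.mul_apply, Module.End.mul_apply, hall, map_smul,
        rho_inv_apply]
    have := (scalarSub_normal ρ).conj_mem _ hz m
    rw [show m * (m⁻¹ * a * m) * m⁻¹ = a by group] at this
    exact this
  rcases c1 with c1 | c1 <;> rcases c2 with c2 | c2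
  · exact absurd (c1.trans c2.symm) hne
  · left
    refine ⟨fun w hw => ?_, fun w hw => ?_⟩
    · rw [h1 w hw, c1, one_smul]
    · rw [h2 w hw, c2]
  · right
    refine ⟨fun w hw => ?_, fun w hw => ?_⟩
    · rw [h1 w hw, c1]
    · rw [h2 w hw, c2, one_smul]
  · exact absurd (c1.trans c2.symm) hne

theorem not_pres_and_swap (m : M) (hp : Pres ρ a l m) (hs : Swap ρ a l m) : False := by
  obtain ⟨w₁, hw₁, hw₁'⟩ := C.exists_E1
  exact rho_apply_ne_zero ρ m hw₁ (C.inter (hp.1 w₁ hw₁') (hs.1 w₁ hw₁'))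

theorem swap_inv {m : M} (hs : Swap ρ a l m) : Swap ρ a l m⁻¹ := by
  rcases C.dichotomy m⁻¹ with h | h
  · exfalso
    obtain ⟨w₁, hw₁, hw₁'⟩ := C.exists_E1
    have h1 := h.1 w₁ hw₁'
    have h2 := hs.1 _ h1
    rw [rho_apply_inv] at h2
    exact hw₁ (C.inter hw₁' h2)
  · exact h

theorem pres_inv {m : M} (hs : Pres ρ a l m) : Pres ρ a l m⁻¹ := by
  rcases C.dichotomy m⁻¹ with h | h
  · exact h
  · exfalso
    obtain ⟨w₁, hw₁, hw₁'⟩ := C.exists_E1
    have h1 := h.1 w₁ hw₁'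
    have h2 := hs.2 _ h1
    rw [rho_apply_inv] at h2
    exact hw₁ (C.inter hw₁' h2)

omit C in
theorem pres_mul {m m' : M} (h : Pres ρ a l m) (h' : Pres ρ a l m') : Pres ρ a l (m * m') := by
  refine ⟨fun w hw => ?_, fun w hw => ?_⟩
  · rw [map_mul, Module.End.mul_apply]; exact h.1 _ (h'.1 w hw)
  · rw [map_mul, Module.End.mul_apply]; exact h.2 _ (h'.2 w hw)

omit C in
theorem swap_mul_swap {m m' : M} (h : Swap ρ a l m) (h' : Swap ρ a l m') :
    Pres ρ a l (m * m') := by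
  refine ⟨fun w hw => ?_, fun w hw => ?_⟩
  · rw [map_mul, Module.End.mul_apply]; exact h.2 _ (h'.1 w hw)
  · rw [map_mul, Module.End.mul_apply]; exact h.1 _ (h'.2 w hw)

omit C in
theorem swap_mul_pres {m m' : M} (h : Swap ρ a l m) (h' : Pres ρ a l m') :
    Swap ρ a l (m * m') := by
  refine ⟨fun w hw => ?_, fun w hw => ?_⟩
  · rw [map_mul, Module.End.mul_apply]; exact h.1 _ (h'.1 w hw)
  · rw [map_mul, Module.End.mul_apply]; exact h.2 _ (h'.2 w hw)

omit C in
theorem pres_mul_swap {m m' : M} (h : Pres ρ a l m) (h' : Swap ρ a l m') :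
    Swap ρ a l (m * m') := by
  refine ⟨fun w hw => ?_, fun w hw => ?_⟩
  · rw [map_mul, Module.End.mul_apply]; exact h.2 _ (h'.1 w hw)
  · rw [map_mul, Module.End.mul_apply]; exact h.1 _ (h'.2 w hw)

omit C in
theorem pres_one : Pres ρ a l 1 := by
  refine ⟨fun w hw => ?_, fun w hw => ?_⟩
  · rw [map_one, Module.End.one_apply]; exact hw
  · rw [map_one, Module.End.one_apply]; exact hw

omit C in
theorem pres_self : Pres ρ a l a := by
  refine ⟨fun w hw => ?_, fun w hw => ?_⟩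
  · rw [hw]; exact hw
  · rw [hw, map_smul, hw]

/-- the preserving elements form a subgroup -/
def presSub : Subgroup M where
  carrier := {m | Pres ρ a l m}
  one_mem' := pres_one
  mul_mem' := fun h h' => pres_mul h h'
  inv_mem' := fun h => C.pres_inv h

theorem mem_presSub {m : M} : m ∈ C.presSub ↔ Pres ρ a l m := Iff.rfl

theorem index_presSub {m₀ : M} (h₀ : Swap ρ a l m₀) : C.presSub.index = 2 := by
  rw [Subgroup.index_eq_two_iff]
  refine ⟨m₀, fun b => ?_⟩
  rcases C.dichotomy b with hb | hb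
  · refine Or.inr ⟨hb, fun hcon => ?_⟩
    exact C.not_pres_and_swap _ hcon (pres_mul_swap hb h₀)
  · refine Or.inl ⟨swap_mul_swap hb h₀, fun hcon => ?_⟩
    exact C.not_pres_and_swap _ hcon hb

end Ctx

end Rep

end Cfsg.Agent.Helper35.CPLin
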