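import Mathlib
import Cfsg.Prelude.Def_SolvableStructure
import Cfsg.Agent.Helper35.CPLinB
import Cfsg.Agent.Helper31.CPP12
import Cfsg.Agent.Helper31.CPP6

/-!
Linear algebra for S3033 (helper35), part C: the irreducible supersolvable configuration.
-/

set_option autoImplicit false

namespace Cfsg.Agent.Helper35.CPLin

open Module.End Cfsg.Agent.Helper31.CP

section Gen

variable {F : Type*} [Field F] {V : Type*} [AddCommGroup V] [Module F V]
variable {M : Type*} [Group M] (ρ : M →* Module.End F V)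

/-- irreducibility -/
def Irr : Prop :=
  ∀ W : Submodule F V, (∀ m : M, ∀ w ∈ W, ρ m w ∈ W) → W = ⊥ ∨ W = ⊤

variable {ρ}

theorem scalarSub_ne_top (hirr : Irr ρ) (hnd : ¬ ∃ v : V, ∀ w : V, ∃ c : F, w = c • v) :
    scalarSub ρ ≠ ⊤ := by
  intro htop
  apply hnd
  by_cases hV : ∀ v : V, v = 0
  · exact ⟨0, fun w => ⟨0, by rw [hV w]; simp⟩⟩
  · push Not at hV
    obtain ⟨v₀, hv₀⟩ := hV
    refine ⟨v₀, fun w => ?_⟩
    have hinv : ∀ m : M, ∀ w ∈ Submodule.span F {v₀}, ρ m w ∈ Submodule.span F {v₀} := by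
      intro m w hw
      obtain ⟨c, hc⟩ : m ∈ scalarSub ρ := by rw [htop]; trivial
      rw [hc]
      exact Submodule.smul_mem _ _ hw
    rcases hirr _ hinv with h | h
    · exfalso
      have : v₀ ∈ Submodule.span F {v₀} := Submodule.mem_span_singleton_self v₀
      rw [h, Submodule.mem_bot] at this
      exact hv₀ this
    · have : w ∈ Submodule.span F {v₀} := by rw [h]; trivial
      obtain ⟨c, hc⟩ := Submodule.mem_span_singleton.mp this
      exact ⟨c, hc.symm⟩

theorem Ctx.exists_swap {a : M} {l : F} (C : Ctx ρ a l) (hirr : Irr ρ) :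
    ∃ m₀, Swap ρ a l m₀ := by
  by_contra hcon
  push Not at hcon
  have hall : ∀ m, Pres ρ a l m := fun m => (C.dichotomy m).resolve_right (hcon m)
  rcases hirr (eigenspace (ρ a) 1) (fun m w hw => by
    rw [mem_eigenspace_iff, one_smul] at hw ⊢; exact (hall m).1 w hw) with h | h
  · obtain ⟨w, hw, hw'⟩ := C.exists_E1
    have : w ∈ eigenspace (ρ a) 1 := by rw [mem_eigenspace_iff, one_smul]; exact hw'
    rw [h, Submodule.mem_bot] at this; exact hw this
  · apply C.notZ
    refine ⟨1, fun v => ?_⟩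
    have : v ∈ eigenspace (ρ a) 1 := by rw [h]; trivial
    rw [mem_eigenspace_iff] at this; exact this

/-- the representation is good at prime-power elements for primes other than `r` -/
def GoodRep (ρ : M →* Module.End F V) (r : ℕ) : Prop :=
  ∀ (t : ℕ), t.Prime → t ≠ r → ∀ x : M, (∃ e : ℕ, orderOf x = t ^ e) → Good (ρ x)

theorem Ctx.l_pow {a : M} {l : F} (C : Ctx ρ a l) {n : ℕ} (hn : a ^ n = 1) : l ^ n = 1 := by
  obtain ⟨w₂, hw₂, hw₂'⟩ := C.exists_E2
  have h1 := pow_apply_of_eigen (ρ a) hw₂' n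
  rw [← map_pow, hn, map_one, Module.End.one_apply] at h1
  have h2 : (1 - l ^ n) • w₂ = 0 := by rw [sub_smul, one_smul, ← h1, sub_self]
  rcases smul_eq_zero.mp h2 with h | h
  · exact (sub_eq_zero.mp h).symm
  · exact absurd h hw₂

/-- Case A: `l ^ 2 ≠ 1` is impossible. -/
theorem Ctx.caseA [Finite M] {a : M} {l : F} (C : Ctx ρ a l) {r t ea : ℕ} (ht : t.Prime)
    (htr : t ≠ r) (ha : orderOf a = t ^ ea) (hgood : GoodRep ρ r) {m₀ : M}
    (h₀ : Swap ρ a l m₀) (hl : l * l ≠ 1) : False := by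
  have hn : a ^ (t ^ ea) = 1 := by rw [← ha]; exact pow_orderOf_eq_one a
  have hln := C.l_pow hn
  have h₀' := C.swap_inv h₀
  have hb1 : ∀ w, ρ a w = w → ρ (m₀ * a * m₀⁻¹) w = l • w := by
    intro w hw
    rw [map_mul, map_mul, Module.End.mul_apply, Module.End.mul_apply, h₀'.1 w hw, map_smul,
      rho_apply_inv]
  have hb2 : ∀ w, ρ a w = l • w → ρ (m₀ * a * m₀⁻¹) w = w := by
    intro w hw
    rw [map_mul, map_mul, Module.End.mul_apply, Module.End.mul_apply, h₀'.2 w hw, rho_apply_inv]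
  obtain ⟨e, he⟩ : ∃ e : M, e = a * (m₀ * a * m₀⁻¹) * (m₀ * a * m₀⁻¹) := ⟨_, rfl⟩
  have he1 : ∀ w, ρ a w = w → ρ e w = (l * l) • w := by
    intro w hw
    rw [he, map_mul, map_mul, Module.End.mul_apply, Module.End.mul_apply, hb1 w hw, map_smul,
      hb1 w hw, map_smul, map_smul, hw, smul_smul]
  have he2 : ∀ w, ρ a w = l • w → ρ e w = l • w := by
    intro w hw
    rw [he, map_mul, map_mul, Module.End.mul_apply, Module.End.mul_apply, hb2 w hw, hb2 w hw, hw]
  have hepow : ρ e ^ t ^ ea = 1 := by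
    apply LinearMap.ext
    intro v
    refine C.ext_on _ _ (fun w hw => ?_) (fun w hw => ?_) v
    · rw [pow_apply_of_eigen (ρ e) (he1 w hw), mul_pow, hln, one_mul, one_smul,
        Module.End.one_apply]
    · rw [pow_apply_of_eigen (ρ e) (he2 w hw), hln, one_smul, Module.End.one_apply]
  obtain ⟨j, ⟨e', he'⟩, hj⟩ := exists_primePow_pow_map_eq ρ e (isOfFinOrder_of_finite e) ht hepow
  have hG : Good (ρ e) := by
    rw [← hj]
    exact hgood t ht htr (e ^ j) ⟨e', he'⟩
  obtain ⟨μ, hμ⟩ := hG.exists_quad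
  obtain ⟨w₁, hw₁, hw₁'⟩ := C.exists_E1
  obtain ⟨w₂, hw₂, hw₂'⟩ := C.exists_E2
  have c1 := (hμ.eigen_cases (he1 w₁ hw₁') hw₁).resolve_left hl
  have c2 := (hμ.eigen_cases (he2 w₂ hw₂') hw₂).resolve_left C.l_ne
  have h3 : l * (l - 1) = 0 := by rw [mul_sub, mul_one, c1, c2, sub_self]
  rcases mul_eq_zero.mp h3 with h | h
  · rw [h, zero_pow (pow_ne_zero _ ht.ne_zero)] at hln
    exact zero_ne_one hln
  · exact C.l_ne (sub_eq_zero.mp h)

/-- Case B: `l ^ 2 = 1` is impossible. -/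
theorem Ctx.caseB [Finite M] {a : M} {l : F} (C : Ctx ρ a l) {r t ea : ℕ} (ht : t.Prime)
    (htr : t ≠ r) (ha : orderOf a = t ^ ea) (hgood : GoodRep ρ r) {m₀ : M}
    (h₀ : Swap ρ a l m₀) (hl : l * l = 1) : False := by
  have hn : a ^ (t ^ ea) = 1 := by rw [← ha]; exact pow_orderOf_eq_one a
  have hln := C.l_pow hn
  have : Fact (Nat.Prime 2) := ⟨Nat.prime_two⟩
  have ht2 : t = 2 := by
    have h1 : orderOf l = 2 := orderOf_eq_prime (by rw [sq]; exact hl) C.l_ne
    have h2 : 2 ∣ t ^ ea := by rw [← h1]; exact orderOf_dvd_of_pow_eq_one hln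
    exact ((Nat.prime_dvd_prime_iff_eq Nat.prime_two ht).mp
      (Nat.Prime.dvd_of_dvd_pow Nat.prime_two h2)).symm
  subst ht2
  have hpg : IsPGroup 2 (Subgroup.zpowers a) :=
    IsPGroup.of_card (n := ea) (by rw [Nat.card_zpowers, ha])
  obtain ⟨S, hS⟩ := hpg.exists_le_sylow
  have haS : a ∈ (S : Subgroup M) := hS (Subgroup.mem_zpowers a)
  have hex : ∃ m ∈ (S : Subgroup M), Swap ρ a l m := by
    by_contra hcon
    push Not at hcon
    have hle : (S : Subgroup M) ≤ C.presSub := fun m hm =>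
      (C.dichotomy m).resolve_right (hcon m hm)
    have h1 := Subgroup.index_dvd_of_le hle
    rw [C.index_presSub h₀] at h1
    exact S.not_dvd_index h1
  obtain ⟨m, hmS, hm⟩ := hex
  have two_elt : ∀ x ∈ (S : Subgroup M), ∃ e : ℕ, orderOf x = 2 ^ e := by
    intro x hx
    obtain ⟨k, hk⟩ := S.2 ⟨x, hx⟩
    have h1 : x ^ 2 ^ k = 1 := by
      have := congrArg Subtype.val hk
      simpa using this
    obtain ⟨e, -, he⟩ := (Nat.dvd_prime_pow Nat.prime_two).mp (orderOf_dvd_of_pow_eq_one h1)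
    exact ⟨e, he⟩
  -- swapping good elements square to the identity on the first eigenspace
  have key : ∀ x ∈ (S : Subgroup M), Swap ρ a l x → ∀ w, ρ a w = w → ρ x (ρ x w) = w := by
    intro x hxS hx w hw
    by_cases hw0 : w = 0
    · rw [hw0, map_zero, map_zero]
    obtain ⟨μ, hμ⟩ := (hgood 2 ht htr x (two_elt x hxS)).exists_quad
    have h1 := hμ w
    rw [map_sub, smul_sub] at h1
    -- h1 : ρ x w - ρ x (ρ x w) = μ • w - μ • ρ x w
    have hxw : ρ a (ρ x w) = l • ρ x w := hx.1 w hw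
    have hxxw : ρ a (ρ x (ρ x w)) = ρ x (ρ x w) := hx.2 _ hxw
    have h2 : ρ x w + μ • ρ x w = μ • w + ρ x (ρ x w) := by
      rw [← sub_eq_zero]
      have : ρ x w + μ • ρ x w - (μ • w + ρ x (ρ x w)) =
          (ρ x w - ρ x (ρ x w)) - (μ • w - μ • ρ x w) := by abel
      rw [this, h1, sub_self]
    have h3 : ρ x w + μ • ρ x w = 0 := by
      apply C.inter
      · rw [h2, map_add, map_smul, hw, hxxw]
      · rw [map_add, map_smul, hxw, smul_add, smul_comm]
    have h4 : (1 + μ) • ρ x w = 0 := by rw [add_smul, one_smul, h3]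
    have hμ1 : 1 + μ = 0 := by
      rcases smul_eq_zero.mp h4 with h | h
      · exact h
      · exact absurd h (rho_apply_ne_zero ρ x hw0)
    have hμ2 : μ = -1 := by rw [← sub_eq_zero, sub_neg_eq_add, add_comm]; exact hμ1
    rw [h3, hμ2, neg_smul, one_smul] at h2
    -- h2 : 0 = -w + ρ x (ρ x w)
    have := h2.symm
    rw [neg_add_eq_zero] at this
    exact this.symm
  obtain ⟨w₁, hw₁, hw₁'⟩ := C.exists_E1
  have k1 := key m hmS hm w₁ hw₁'
  have hma : Swap ρ a l (m * a) := Ctx.swap_mul_pres hm Ctx.pres_self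
  have k2 := key (m * a) ((S : Subgroup M).mul_mem hmS haS) hma w₁ hw₁'
  rw [map_mul, Module.End.mul_apply, Module.End.mul_apply, hw₁', hm.1 w₁ hw₁', map_smul, k1]
    at k2
  -- k2 : l • w₁ = w₁
  have : (1 - l) • w₁ = 0 := by rw [sub_smul, one_smul, k2, sub_self]
  rcases smul_eq_zero.mp this with h | h
  · exact C.one_sub_ne h
  · exact hw₁ h

end Gen

end Cfsg.Agent.Helper35.CPLin
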