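import Mathlib
import Cfsg.Prelude.Def_SolvableStructure
import Cfsg.Agent.Helper35.CPLinC
import Cfsg.Agent.Helper31.CPP12
import Cfsg.Agent.Helper31.CPP6

/-!
Linear algebra for S3033 (helper35), part D: the main theorem over `ZMod r`.
-/

set_option autoImplicit false

namespace Cfsg.Agent.Helper35.CPLin

open Module.End Cfsg.Agent.Helper31.CP

section Main

variable {r : ℕ} [hr : Fact r.Prime] {V : Type*} [AddCommGroup V] [Module (ZMod r) V] [Finite V]
variable {M : Type*} [Group M] [Finite M] {ρ : M →* Module.End (ZMod r) V}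

omit [Finite M] in
theorem exists_fixed_of_rpow (hV : ∃ v : V, v ≠ 0) (a : M) (e : ℕ) (ha : orderOf a = r ^ e) :
    ∃ b : V, b ≠ 0 ∧ ρ a b = b := by
  have hpg : IsPGroup r (Subgroup.zpowers a) :=
    IsPGroup.of_card (n := e) (by rw [Nat.card_zpowers, ha])
  letI : MulAction (Subgroup.zpowers a) V :=
    MulAction.compHom V (ρ.comp (Subgroup.zpowers a).subtype)
  have hsmul : ∀ (g : Subgroup.zpowers a) (v : V), g • v = ρ (g : M) v := fun g v => rfl
  have hdvd : r ∣ Nat.card V := by
    obtain ⟨v, hv⟩ := hV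
    have h1 : r • v = 0 := by
      rw [← Nat.cast_smul_eq_nsmul (ZMod r), ZMod.natCast_self, zero_smul]
    have h2 : addOrderOf v ∣ r := addOrderOf_dvd_of_nsmul_eq_zero h1
    rcases (Nat.dvd_prime hr.out).mp h2 with h3 | h3
    · exact absurd (AddMonoid.addOrderOf_eq_one_iff.mp h3) hv
    · rw [← h3]; exact addOrderOf_dvd_natCard v
  have h0 : (0 : V) ∈ MulAction.fixedPoints (Subgroup.zpowers a) V := by
    intro g
    rw [hsmul, map_zero]
  obtain ⟨b, hb, hb0⟩ := hpg.exists_fixed_point_of_prime_dvd_card_of_fixed_point V hdvd h0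
  refine ⟨b, fun h => hb0 h.symm, ?_⟩
  have := hb ⟨a, Subgroup.mem_zpowers a⟩
  rw [hsmul] at this
  exact this

theorem mem_scalarSub_of_rpow (hirr : Irr ρ) (hV : ∃ v : V, v ≠ 0) (a : M) (e : ℕ)
    (ha : orderOf a = r ^ e)
    (hconj : ∀ m : M, ∃ z ∈ scalarSub ρ, ∃ k : ℕ, m * a * m⁻¹ = z * a ^ k) :
    a ∈ scalarSub ρ := by
  have hpow : (ρ a) ^ (r ^ e) = 1 := by rw [← map_pow, ← ha, pow_orderOf_eq_one, map_one]
  have hE : ∀ v, v ∈ eigenspace (ρ a) 1 ↔ ρ a v = v := by
    intro v; rw [mem_eigenspace_iff, one_smul]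
  have hinv : ∀ m : M, ∀ w ∈ eigenspace (ρ a) 1, ρ m w ∈ eigenspace (ρ a) 1 := by
    intro m w hw
    rw [hE] at hw ⊢
    obtain ⟨z, ⟨c, hc⟩, k, hk⟩ := hconj m⁻¹
    rw [inv_inv] at hk
    have ham : a * m = m * z * a ^ k := by rw [mul_assoc m, ← hk]; group
    have key : ρ a (ρ m w) = c • ρ m w := by
      rw [← Module.End.mul_apply, ← map_mul, ham, map_mul, map_mul, map_pow,
        Module.End.mul_apply, Module.End.mul_apply, hc,
        pow_apply_of_eigen (ρ a) (d := 1) (by rw [one_smul]; exact hw), one_pow, one_smul,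
        map_smul]
    have h1 := pow_apply_of_eigen (ρ a) key (r ^ e)
    rw [hpow, Module.End.one_apply, ZMod.pow_card_pow] at h1
    rw [key, ← h1]
  obtain ⟨b, hb0, hb⟩ := exists_fixed_of_rpow (ρ := ρ) hV a e ha
  rcases hirr _ hinv with h | h
  · exfalso
    have : b ∈ eigenspace (ρ a) 1 := (hE b).mpr hb
    rw [h, Submodule.mem_bot] at this
    exact hb0 this
  · refine ⟨1, fun v => ?_⟩
    rw [one_smul, ← hE, h]; trivial

/-- The linear core of S3033: an irreducible representation over `ZMod r` of a finite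
supersolvable group in which all prime-power elements for primes other than `r` are good has
dimension at most one. -/
theorem linear_core (hss : Cfsg.IsSupersolvable M) (hirr : Irr ρ) (hgood : GoodRep ρ r) :
    ∃ v : V, ∀ w : V, ∃ c : ZMod r, w = c • v := by
  by_contra hnd
  have hZ := scalarSub_ne_top hirr hnd
  obtain ⟨a, t, ea, ht, ha, haZ, hconj⟩ := exists_primePow_elt_normal_mod hss (scalarSub ρ) hZ
  have hV : ∃ v : V, v ≠ 0 := by
    by_contra h
    push Not at h
    exact hnd ⟨0, fun w => ⟨0, by rw [h w]; simp⟩⟩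
  by_cases htr : t = r
  · subst htr
    exact haZ (mem_scalarSub_of_rpow hirr hV a ea ha hconj)
  · obtain ⟨l, hl⟩ := (hgood t ht htr a ⟨ea, ha⟩).exists_quad
    have hl1 : l ≠ 1 := by
      rintro rfl
      apply haZ
      refine ⟨1, fun v => ?_⟩
      rw [one_smul]
      refine hl.eq_one_of_pow (n := t ^ ea) ?_ ?_ v
      · rw [Nat.cast_pow]
        apply pow_ne_zero
        rw [Ne, ZMod.natCast_eq_zero_iff]
        intro hdvd
        exact htr ((Nat.prime_dvd_prime_iff_eq hr.out ht).mp hdvd).symm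
      · rw [← map_pow, ← ha, pow_orderOf_eq_one, map_one]
    have C : Ctx ρ a l := ⟨hl, hl1, haZ, hconj⟩
    obtain ⟨m₀, h₀⟩ := C.exists_swap hirr
    by_cases hll : l * l = 1
    · exact C.caseB ht htr ha hgood h₀ hll
    · exact C.caseA ht htr ha hgood h₀ hll

end Main

end Cfsg.Agent.Helper35.CPLin
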