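import Mathlib
import Cfsg.Prelude.Def_SolvableStructure
import Cfsg.Agent.Helper35.CPLinD

/-!
Interface for S3033 (helper35): from automorphisms of an elementary abelian group to the linear
core.
-/

set_option autoImplicit false

namespace Cfsg.Agent.Helper35.CPLin

theorem exists_generator_of_good_aux {V : Type*} [CommGroup V] [Finite V] {M : Type*} [Group M]
    [Finite M] {r : ℕ} [hr : Fact r.Prime] [Module (ZMod r) (Additive V)]
    (φ : M →* MulAut V) (hss : Cfsg.IsSupersolvable M)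
    (hirr : ∀ W : Subgroup V, (∀ m : M, ∀ w ∈ W, φ m w ∈ W) → W = ⊥ ∨ W = ⊤)
    (hgood : ∀ (t : ℕ), t.Prime → t ≠ r → ∀ x : M, (∃ e : ℕ, orderOf x = t ^ e) → ∀ v : V,
      ∃ k : ℕ, φ x (v * (φ x v)⁻¹) = (v * (φ x v)⁻¹) ^ k) :
    ∃ v₀ : V, ∀ w : V, ∃ k : ℕ, w = v₀ ^ k := by
  obtain ⟨ρ, hρ⟩ : ∃ ρ : M →* Module.End (ZMod r) (Additive V),
      ∀ (m : M) (v : V), ρ m (Additive.ofMul v) = Additive.ofMul (φ m v) := by
    refine ⟨{ toFun := fun m => (MonoidHom.toAdditive (φ m).toMonoidHom).toZModLinearMap r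
              map_one' := ?_
              map_mul' := ?_ }, fun m v => rfl⟩
    · apply LinearMap.ext
      intro v
      simp
    · intro a b
      apply LinearMap.ext
      intro v
      simp
  have hirr' : Irr ρ := by
    intro W hW
    let K : Subgroup V :=
      { carrier := {v | Additive.ofMul v ∈ W}
        one_mem' := W.zero_mem
        mul_mem' := fun ha hb => W.add_mem ha hb
        inv_mem' := fun ha => W.neg_mem ha }
    have hK : ∀ v, v ∈ K ↔ Additive.ofMul v ∈ W := fun v => Iff.rfl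
    have hinv : ∀ m : M, ∀ w ∈ K, φ m w ∈ K := by
      intro m w hw
      rw [hK] at hw ⊢
      rw [← hρ]
      exact hW m _ hw
    rcases hirr K hinv with h | h
    · left
      rw [Submodule.eq_bot_iff]
      intro x hx
      have h1 : Additive.toMul x ∈ K := by rw [hK, ofMul_toMul]; exact hx
      rw [h, Subgroup.mem_bot] at h1
      have := congrArg Additive.ofMul h1
      simpa using this
    · right
      rw [Submodule.eq_top_iff']
      intro x
      have h1 : Additive.toMul x ∈ K := by rw [h]; trivial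
      rw [hK, ofMul_toMul] at h1
      exact h1
  have hgood' : GoodRep ρ r := by
    intro t ht htr x hx v
    obtain ⟨k, hk⟩ := hgood t ht htr x hx (Additive.toMul v)
    refine ⟨(k : ZMod r), ?_⟩
    have h1 : v - ρ x v = Additive.ofMul (Additive.toMul v * (φ x (Additive.toMul v))⁻¹) := by
      rw [ofMul_mul, ofMul_inv, ← hρ, ofMul_toMul, sub_eq_add_neg]
    rw [h1, hρ, hk, Nat.cast_smul_eq_nsmul, ofMul_pow]
  obtain ⟨v, hv⟩ := linear_core hss hirr' hgood'
  refine ⟨Additive.toMul v, fun w => ?_⟩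
  obtain ⟨c, hc⟩ := hv (Additive.ofMul w)
  refine ⟨c.val, ?_⟩
  have h2 : c • v = c.val • v := by
    conv_lhs => rw [← ZMod.natCast_zmod_val c]
    rw [Nat.cast_smul_eq_nsmul]
  rw [h2] at hc
  have := congrArg Additive.toMul hc
  simpa using this

theorem exists_generator_of_good {V : Type*} [Group V] [Finite V] {M : Type*} [Group M]
    [Finite M] {r : ℕ} [hr : Fact r.Prime] (hcomm : ∀ x y : V, x * y = y * x)
    (hexp : ∀ v : V, v ^ r = 1)
    (φ : M →* MulAut V) (hss : Cfsg.IsSupersolvable M)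
    (hirr : ∀ W : Subgroup V, (∀ m : M, ∀ w ∈ W, φ m w ∈ W) → W = ⊥ ∨ W = ⊤)
    (hgood : ∀ (t : ℕ), t.Prime → t ≠ r → ∀ x : M, (∃ e : ℕ, orderOf x = t ^ e) → ∀ v : V,
      ∃ k : ℕ, φ x (v * (φ x v)⁻¹) = (v * (φ x v)⁻¹) ^ k) :
    ∃ v₀ : V, ∀ w : V, ∃ k : ℕ, w = v₀ ^ k := by
  letI : CommGroup V := { ‹Group V› with mul_comm := hcomm }
  letI : Module (ZMod r) (Additive V) := AddCommGroup.zmodModule (n := r) (by
    intro x
    have := hexp (Additive.toMul x)
    have h2 := congrArg Additive.ofMul this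
    simpa using h2)
  exact exists_generator_of_good_aux φ hss hirr hgood

end Cfsg.Agent.Helper35.CPLin
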