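import Mathlib
import Cfsg.Prelude.Def_SolvableStructure
import Cfsg.Agent.Helper35.CPDef
import Cfsg.Agent.Helper35.CPInt
import Cfsg.Agent.Helper60.CPP5

/-!
The core of S3033 (helper35): a complemented abelian minimal normal subgroup of a group with the
conjugate-pair condition, all of whose proper subgroups are supersolvable, has prime order.
-/

set_option autoImplicit false

namespace Cfsg.Agent.Helper35.CP

open Cfsg.Agent.Helper35.CPLin

theorem core {G : Type*} [Group G] [Finite G] (h : ConjPair G)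
    (hsub : ∀ H : Subgroup G, H ≠ ⊤ → Cfsg.IsSupersolvable H)
    (N M : Subgroup G) (r : ℕ) (hr : r.Prime) (hNn : N.Normal) (hN : N ≠ ⊥)
    (hmin : ∀ K : Subgroup G, K.Normal → K ≤ N → K = ⊥ ∨ K = N)
    (hexp : ∀ v ∈ N, v ^ r = 1) (hcomm : ∀ v ∈ N, ∀ w ∈ N, v * w = w * v)
    (hNM : N ⊓ M = ⊥) (hNM' : N ⊔ M = ⊤) : Nat.card N = r := by
  have : Fact r.Prime := ⟨hr⟩
  have hMtop : M ≠ ⊤ := by
    rintro rfl
    rw [inf_top_eq] at hNM
    exact hN hNM
  have hss : Cfsg.IsSupersolvable M := hsub M hMtop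
  obtain ⟨φ, hφ⟩ : ∃ φ : M →* MulAut N, ∀ (m : M) (v : N),
      ((φ m v : N) : G) = (m : G) * (v : G) * (m : G)⁻¹ :=
    ⟨(MulAut.conjNormal).comp M.subtype, fun m v => by simp⟩
  have hirr : ∀ W : Subgroup N, (∀ m : M, ∀ w ∈ W, φ m w ∈ W) → W = ⊥ ∨ W = ⊤ := by
    intro W hW
    have hKN : W.map N.subtype ≤ N := by
      rintro _ ⟨w, -, rfl⟩
      exact w.2
    have hnorm : Subgroup.normalizer ((W.map N.subtype : Subgroup G) : Set G) = ⊤ := by
      rw [eq_top_iff, ← hNM']
      apply sup_le
      · intro n hn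
        rw [Subgroup.mem_normalizer_iff]
        intro k
        constructor
        · intro hk
          have : n * k * n⁻¹ = k := by
            rw [hcomm n hn k (hKN hk), mul_inv_cancel_right]
          rw [this]; exact hk
        · intro hk
          have hkN : k ∈ N := by
            have := hNn.conj_mem _ (hKN hk) n⁻¹
            simpa [mul_assoc] using this
          have : n * k * n⁻¹ = k := by
            rw [hcomm n hn k hkN, mul_inv_cancel_right]
          rw [← this]; exact hk
      · intro m hm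
        have hfwd : ∀ (g : G), g ∈ M → ∀ k ∈ W.map N.subtype, g * k * g⁻¹ ∈ W.map N.subtype := by
          rintro g hg _ ⟨w, hw, rfl⟩
          refine ⟨φ ⟨g, hg⟩ w, hW ⟨g, hg⟩ w hw, ?_⟩
          rw [Subgroup.coe_subtype, hφ]
        rw [Subgroup.mem_normalizer_iff]
        intro k
        constructor
        · exact hfwd m hm k
        · intro hk
          have := hfwd m⁻¹ (M.inv_mem hm) _ hk
          simpa [mul_assoc] using this
    have hKn : (W.map N.subtype).Normal := Subgroup.normalizer_eq_top_iff.mp hnorm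
    rcases hmin _ hKn hKN with h1 | h1
    · left
      exact (Subgroup.map_eq_bot_iff_of_injective W N.subtype_injective).mp h1
    · right
      rw [eq_top_iff]
      intro x _
      have hx : (x : G) ∈ W.map N.subtype := by rw [h1]; exact x.2
      obtain ⟨y, hy, hyx⟩ := hx
      have : y = x := Subtype.ext hyx
      rw [← this]; exact hy
  have hgood : ∀ (t : ℕ), t.Prime → t ≠ r → ∀ x : M, (∃ e : ℕ, orderOf x = t ^ e) → ∀ v : N,
      ∃ k : ℕ, φ x (v * (φ x v)⁻¹) = (v * (φ x v)⁻¹) ^ k := by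
    intro t ht htr x hx v
    have hx' : ∃ e : ℕ, orderOf (x : G) = t ^ e := by
      rw [Subgroup.orderOf_coe]; exact hx
    obtain ⟨k, hk⟩ := Cfsg.Agent.Helper60.CP.conjPair_eigen h N hr ht htr hexp (x : G) hx' (v : G) v.2
    refine ⟨k, ?_⟩
    apply Subtype.ext
    have h1 : ((v * (φ x v)⁻¹ : N) : G) = (v : G) * (x : G) * (v : G)⁻¹ * (x : G)⁻¹ := by
      rw [Subgroup.coe_mul, Subgroup.coe_inv, hφ]
      group
    rw [hφ, Subgroup.coe_pow, h1]
    exact hk
  obtain ⟨v₀, hv₀⟩ := exists_generator_of_good (V := N) (M := M) (r := r)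
    (fun x y => Subtype.ext (hcomm x x.2 y y.2))
    (fun v => Subtype.ext (by rw [Subgroup.coe_pow, Subgroup.coe_one]; exact hexp v v.2))
    φ hss hirr hgood
  -- card N = orderOf v₀ divides r
  have htop : Subgroup.zpowers v₀ = ⊤ := by
    rw [eq_top_iff]
    intro w _
    obtain ⟨k, hk⟩ := hv₀ w
    rw [hk]
    exact Subgroup.pow_mem _ (Subgroup.mem_zpowers v₀) k
  have hcard : Nat.card N = orderOf v₀ := by
    rw [← Nat.card_zpowers, htop, Subgroup.card_top]
  have hdvd : orderOf v₀ ∣ r := by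
    apply orderOf_dvd_of_pow_eq_one
    apply Subtype.ext
    rw [Subgroup.coe_pow, Subgroup.coe_one]
    exact hexp v₀ v₀.2
  rw [hcard]
  rcases (Nat.dvd_prime hr).mp hdvd with h1 | h1
  · exfalso
    rw [h1] at hcard
    exact hN (Subgroup.card_eq_one.mp hcard)
  · exact h1

end Cfsg.Agent.Helper35.CP
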