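/-
helper35: core lemma for S4184 (Chen's lemma towards Thompson's conjecture, elementary proof).
If every nontrivial class size of a centerless finite group `G` divides `μ`, is never `μ`, and carries
either the full `A'`-part or the full `A`-part of `μ`, then for a prime `s ∉ A` dividing `μ` the
`s`-part of `|G|` is at most the `s`-part of `μ`.
-/
import Mathlib
import Cfsg.Agent.Lib.Nilpotent

set_option autoImplicit false

namespace Cfsg.Agent.Helper35.Chen

open Subgroup

/-- For commuting elements of coprime orders, the centralizer of the product lies in the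
centralizer of the first factor. -/
theorem centralizer_mul_le_left {G : Type*} [Group G] {x y : G} (hxy : Commute x y)
    (hco : (orderOf x).Coprime (orderOf y)) :
    centralizer ({x * y} : Set G) ≤ centralizer ({x} : Set G) := by
  intro g hg
  rw [mem_centralizer_singleton_iff] at hg ⊢
  obtain ⟨m, hm⟩ := exists_pow_eq_self_of_coprime (x := x) (n := orderOf y) hco.symm
  have h1 : (x * y) ^ orderOf y = x ^ orderOf y := by
    rw [hxy.mul_pow, pow_orderOf_eq_one, mul_one]
  have h2 : Commute g (x * y) := hg
  have h3 : Commute g (x ^ orderOf y) := by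
    rw [← h1]; exact h2.pow_right _
  have h4 : Commute g ((x ^ orderOf y) ^ m) := h3.pow_right _
  rw [hm] at h4
  exact h4

theorem centralizer_mul_le_right {G : Type*} [Group G] {x y : G} (hxy : Commute x y)
    (hco : (orderOf x).Coprime (orderOf y)) :
    centralizer ({x * y} : Set G) ≤ centralizer ({y} : Set G) := by
  rw [hxy.eq]
  exact centralizer_mul_le_left hxy.symm hco.symm

/-- (CORE) -/
theorem core {G : Type*} [Group G] [Finite G] (μ : ℕ) (hμ : μ ≠ 0) (A : Set ℕ)
    (hdiv : ∀ g : G, (centralizer ({g} : Set G)).index ∣ μ)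
    (htype : ∀ g : G, g ≠ 1 →
      (∀ b : ℕ, b.Prime → b ∉ A →
        ((centralizer ({g} : Set G)).index).factorization b = μ.factorization b) ∨
      (∀ a : ℕ, a.Prime → a ∈ A →
        ((centralizer ({g} : Set G)).index).factorization a = μ.factorization a))
    (hne : ∀ g : G, (centralizer ({g} : Set G)).index ≠ μ)
    (r : ℕ) (hr : r.Prime) (hrA : r ∈ A) (hrμ : r ∣ μ) (hrG : r ∣ Nat.card G)
    (s : ℕ) (hs : s.Prime) (hsA : s ∉ A) (hsμ : s ∣ μ) :
    (Nat.card G).factorization s ≤ μ.factorization s := by
  classical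
  have : Fact r.Prime := ⟨hr⟩
  have : Fact s.Prime := ⟨hs⟩
  have hG0 : Nat.card G ≠ 0 := Nat.card_pos.ne'
  have hrs : r ≠ s := fun h => hsA (h ▸ hrA)
  by_contra hlt
  push Not at hlt
  have hc1 : 1 ≤ μ.factorization s := hs.factorization_pos_of_dvd hμ hsμ
  have hidx0 : ∀ g : G, (centralizer ({g} : Set G)).index ≠ 0 := fun g =>
    (Subgroup.index_ne_zero_of_finite)
  -- Step 1: a nontrivial central element `z` of a Sylow `r`-subgroup
  obtain ⟨R⟩ : Nonempty (Sylow r G) := inferInstance
  have hRnt : Nontrivial (R : Subgroup G) := by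
    have hRcard := R.card_eq_multiplicity
    have h1 : 1 ≤ (Nat.card G).factorization r := hr.factorization_pos_of_dvd hG0 hrG
    apply Finite.one_lt_card_iff_nontrivial.1
    rw [hRcard]
    exact Nat.one_lt_pow (by omega) hr.one_lt
  have : Nontrivial (center (R : Subgroup G)) := R.isPGroup'.center_nontrivial
  obtain ⟨⟨z', hz'c⟩, hz'ne⟩ := exists_ne (1 : center (R : Subgroup G))
  have hz'1 : z' ≠ 1 := fun h => hz'ne (Subtype.ext h)
  set z : G := (z' : G) with hz
  have hz1 : z ≠ 1 := fun h => hz'1 (Subtype.ext h)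
  have hRz : (R : Subgroup G) ≤ centralizer ({z} : Set G) := by
    intro x hx
    rw [mem_centralizer_singleton_iff]
    have := (Subgroup.mem_center_iff.1 hz'c) ⟨x, hx⟩
    have h2 := congrArg (Subtype.val) this
    simpa using h2
  have hrz : ¬ r ∣ (centralizer ({z} : Set G)).index := fun h =>
    R.not_dvd_index (h.trans (Subgroup.index_dvd_of_le hRz))
  have hzA : ∀ b : ℕ, b.Prime → b ∉ A →
      ((centralizer ({z} : Set G)).index).factorization b = μ.factorization b := by
    rcases htype z hz1 with h | h
    · exact h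
    · exfalso
      have h1 := h r hr hrA
      have h2 : 1 ≤ μ.factorization r := hr.factorization_pos_of_dvd hμ hrμ
      rw [Nat.factorization_eq_zero_of_not_dvd hrz] at h1
      omega
  -- Step 2: the `s`-part of the centralizer of `z`
  obtain ⟨i, hi⟩ := (IsPGroup.iff_orderOf.1 R.isPGroup') z'
  have hoz : orderOf z = r ^ i := by rw [hz, Subgroup.orderOf_coe, hi]
  set c := μ.factorization s with hc
  obtain ⟨k, hk⟩ : ∃ k, (Nat.card G).factorization s = c + (k + 1) :=
    ⟨(Nat.card G).factorization s - c - 1, by omega⟩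
  have hfac : ∀ g : G, (Nat.card (centralizer ({g} : Set G))).factorization s +
      ((centralizer ({g} : Set G)).index).factorization s = (Nat.card G).factorization s := by
    intro g
    have h1 := (centralizer ({g} : Set G)).card_mul_index
    have h2 := Nat.factorization_mul (Nat.card_pos.ne' : Nat.card (centralizer ({g} : Set G)) ≠ 0)
      (hidx0 g)
    rw [h1] at h2
    rw [h2]; rfl
  have hCz : (Nat.card (centralizer ({z} : Set G))).factorization s = k + 1 := by
    have h1 := hfac z
    rw [hzA s hs hsA, hk] at h1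
    omega
  obtain ⟨Q⟩ : Nonempty (Sylow s (centralizer ({z} : Set G))) := inferInstance
  set Q' : Subgroup G := (Q : Subgroup (centralizer ({z} : Set G))).map
    (centralizer ({z} : Set G)).subtype with hQ'
  have hQ'card : Nat.card Q' = s ^ (k + 1) := by
    rw [hQ', Subgroup.card_map_of_injective (Subgroup.subtype_injective _), Q.card_eq_multiplicity,
      hCz]
  have hQ'le : Q' ≤ centralizer ({z} : Set G) := Subgroup.map_subtype_le _
  -- Step 3: an `s`-subgroup `K` of order `s^(k+2)` containing `Q'`
  have hdvd : s ^ (k + 1 + 1) ∣ Nat.card G := by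
    rw [hs.pow_dvd_iff_le_factorization hG0, hk]
    omega
  obtain ⟨K, hKcard, hQK⟩ := Sylow.exists_subgroup_card_pow_succ hdvd hQ'card
  have hKp : IsPGroup s K := IsPGroup.of_card hKcard
  set N : Subgroup K := Q'.subgroupOf K with hN
  have hNcard : Nat.card N = s ^ (k + 1) :=
    (Nat.card_congr (Subgroup.subgroupOfEquivOfLe hQK).toEquiv).trans hQ'card
  have hNidx : N.index = s := by
    have h1 := N.card_mul_index
    rw [hNcard, hKcard, pow_succ s (k + 1)] at h1
    exact Nat.eq_of_mul_eq_mul_left (pow_pos hs.pos (k + 1)) h1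
  have hNn : N.Normal := by
    apply Subgroup.normal_of_index_eq_minFac_card
    rw [hNidx, hKcard, hs.pow_minFac (Nat.succ_ne_zero (k + 1))]
  have hNne : N ≠ ⊥ := by
    intro h
    rw [h, Subgroup.card_bot] at hNcard
    have : 1 < s ^ (k + 1) := Nat.one_lt_pow (Nat.succ_ne_zero k) hs.one_lt
    omega
  have : Group.IsNilpotent K := hKp.isNilpotent
  obtain ⟨q, hqmem, hq1⟩ := (Subgroup.ne_bot_iff_exists_ne_one).1
    (Cfsg.Agent.Lib.normal_inf_center_ne_bot N hNne) |> fun ⟨⟨q, hq⟩, hne⟩ =>
      (⟨q, hq, fun h => hne (Subtype.ext h)⟩ : ∃ q : K, q ∈ N ⊓ center K ∧ q ≠ 1)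
  set q₀ : G := (q : G) with hq₀
  have hq₀1 : q₀ ≠ 1 := fun h => hq1 (Subtype.ext h)
  have hq₀Q : q₀ ∈ Q' := Subgroup.mem_subgroupOf.1 hqmem.1
  have hq₀z : Commute z q₀ := by
    have := hQ'le hq₀Q
    rw [mem_centralizer_singleton_iff] at this
    exact this.symm
  have hKq : K ≤ centralizer ({q₀} : Set G) := by
    intro x hx
    rw [mem_centralizer_singleton_iff]
    have := (Subgroup.mem_center_iff.1 hqmem.2) ⟨x, hx⟩
    have h2 := congrArg (Subtype.val) this
    simpa using h2
  obtain ⟨j, hj⟩ := (IsPGroup.iff_orderOf.1 hKp) q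
  have hoq : orderOf q₀ = s ^ j := by rw [hq₀, Subgroup.orderOf_coe, hj]
  have hco : (orderOf z).Coprime (orderOf q₀) := by
    rw [hoz, hoq]
    exact Nat.Coprime.pow _ _ ((Nat.coprime_primes hr hs).2 hrs)
  -- Step 4: `q₀` does not carry the full `A'`-part, hence carries the full `A`-part
  have hq₀idx : ((centralizer ({q₀} : Set G)).index).factorization s < c := by
    have h1 := hfac q₀
    have h2 : s ^ (k + 1 + 1) ∣ Nat.card (centralizer ({q₀} : Set G)) := by
      rw [← hKcard]; exact Subgroup.card_dvd_of_le hKq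
    rw [hs.pow_dvd_iff_le_factorization Nat.card_pos.ne'] at h2
    omega
  have hq₀B : ∀ a : ℕ, a.Prime → a ∈ A →
      ((centralizer ({q₀} : Set G)).index).factorization a = μ.factorization a := by
    rcases htype q₀ hq₀1 with h | h
    · exfalso
      have := h s hs hsA
      omega
    · exact h
  -- Step 5: the class size of `z * q₀` is `μ`
  have h1 : (centralizer ({z} : Set G)).index ∣ (centralizer ({z * q₀} : Set G)).index :=
    Subgroup.index_dvd_of_le (centralizer_mul_le_left hq₀z hco)
  have h2 : (centralizer ({q₀} : Set G)).index ∣ (centralizer ({z * q₀} : Set G)).index :=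
    Subgroup.index_dvd_of_le (centralizer_mul_le_right hq₀z hco)
  apply hne (z * q₀)
  apply Nat.eq_of_factorization_eq (hidx0 _) hμ
  intro p
  by_cases hp : p.Prime
  · apply le_antisymm ((Nat.factorization_le_iff_dvd (hidx0 _) hμ).2 (hdiv (z * q₀)) p)
    by_cases hpA : p ∈ A
    · rw [← hq₀B p hp hpA]
      exact (Nat.factorization_le_iff_dvd (hidx0 _) (hidx0 _)).2 h2 p
    · rw [← hzA p hp hpA]
      exact (Nat.factorization_le_iff_dvd (hidx0 _) (hidx0 _)).2 h1 p
  · rw [Nat.factorization_eq_zero_of_not_prime _ hp, Nat.factorization_eq_zero_of_not_prime _ hp]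

end Cfsg.Agent.Helper35.Chen
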