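import Cfsg.Agent.Helper36.LeviBruhat
import Cfsg.Agent.Helper18.Monomial
import Cfsg.Agent.S1036
import Cfsg.Agent.S1037
import Cfsg.Agent.S1048

/-!
helper35 for helper19 (S2314, piece INT of #4669): conjugating the Borel subgroup by an element of
`N ∩ P_K` that sends the positive root subgroups of `Φ_K` into `V`.
-/

set_option autoImplicit false

namespace Cfsg.Agent.Helper35.ChevInt

open Cfsg Cfsg.Lie Cfsg.Agent.Helper18 Cfsg.Agent.Helper36.LeviBruhat

section

variable {F : Type*} [Field F] (D : ChevalleyDatum)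
  (hD : D ∈ [chevG2, chevB2, chevD4, chevF4, chevE6, chevE7, chevE8])

include hD in
theorem diag_le_normalizer_radical (K : Set ℕ) :
    D.diagonalSubgroup F ≤ Subgroup.normalizer (D.unipotentRadical F K : Set (GL D.Idx F)) := by
  refine le_trans ?_ (Cfsg.Agent.S1048.result (F := F) D hD K).1
  unfold ChevalleyDatum.parabolicSubgroup ChevalleyDatum.borelSubgroup
  exact le_trans le_sup_right le_sup_left

include hD in
theorem radical_inf_diag (K : Set ℕ) : D.unipotentRadical F K ⊓ D.diagonalSubgroup F = ⊥ := by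
  rw [eq_bot_iff, ← (Cfsg.Agent.S1036.result (F := F) D hD).2]
  exact inf_le_inf_right _ (radical_le_pos D K)

include hD in
theorem mem_radical_of_mem_sup (K : Set ℕ) (u : GL D.Idx F) (hu : u ∈ D.posUnipotent F)
    (h : u ∈ D.unipotentRadical F K ⊔ D.diagonalSubgroup F) : u ∈ D.unipotentRadical F K := by
  have hset := Subgroup.coe_mul_of_right_le_normalizer_left (D.unipotentRadical F K)
    (D.diagonalSubgroup F) (diag_le_normalizer_radical D hD K)
  have hmem : u ∈ ((D.unipotentRadical F K ⊔ D.diagonalSubgroup F : Subgroup (GL D.Idx F)) :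
      Set (GL D.Idx F)) := h
  rw [hset] at hmem
  obtain ⟨z, hz, y, hy, hzy⟩ := hmem
  change z * y = u at hzy
  subst hzy
  have hy' : y ∈ D.posUnipotent F ⊓ D.diagonalSubgroup F := by
    refine Subgroup.mem_inf.mpr ⟨?_, hy⟩
    have : y = z⁻¹ * (z * y) := by group
    rw [this]
    exact (D.posUnipotent F).mul_mem ((D.posUnipotent F).inv_mem (radical_le_pos D K hz)) hu
  rw [(Cfsg.Agent.S1036.result (F := F) D hD).2, Subgroup.mem_bot] at hy'
  rw [hy', mul_one]
  exact hz

include hD in
theorem conj_mem_borel_iff (K : Set ℕ) (m : GL D.Idx F) (hmN : m ∈ D.monomialSubgroup F)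
    (hmP : m ∈ D.parabolicSubgroup F K)
    (hneg : ∀ (r : ℕ) (t : F), D.IsPosRoot r → D.InRootSub K r →
      m * xGL D F r t * m⁻¹ ∈ D.negUnipotent F)
    (u : GL D.Idx F) (hu : u ∈ D.borelSubgroup F) :
    m * u * m⁻¹ ∈ D.borelSubgroup F ↔ u ∈ D.unipotentRadical F K ⊔ D.diagonalSubgroup F := by
  have htri := triOK_of_mem D hD
  have hmU : ∀ x ∈ D.unipotentRadical F K, m * x * m⁻¹ ∈ D.unipotentRadical F K := fun x hx =>
    (Subgroup.mem_normalizer_iff.mp ((Cfsg.Agent.S1048.result (F := F) D hD K).1 hmP) x).mp hx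
  have hmH : ∀ x ∈ D.diagonalSubgroup F, m * x * m⁻¹ ∈ D.diagonalSubgroup F := fun x hx =>
    (Subgroup.mem_normalizer_iff.mp (monomialSubgroup_le_normalizer D hD hmN) x).mp hx
  have hUB : D.unipotentRadical F K ≤ D.borelSubgroup F :=
    le_trans (radical_le_pos D K) le_sup_left
  have hHB : D.diagonalSubgroup F ≤ D.borelSubgroup F := le_sup_right
  constructor
  · intro hconj
    -- u = u₀ h
    have hset := Subgroup.coe_mul_of_right_le_normalizer_left (D.posUnipotent F)
      (D.diagonalSubgroup F) (Cfsg.Agent.S1036.result (F := F) D hD).1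
    have hmem : u ∈ ((D.posUnipotent F ⊔ D.diagonalSubgroup F : Subgroup (GL D.Idx F)) :
        Set (GL D.Idx F)) := hu
    rw [hset] at hmem
    obtain ⟨u₀, hu₀, h, hh, huh⟩ := hmem
    change u₀ * h = u at huh
    subst huh
    obtain ⟨z, hz, y, hy, rfl⟩ := pos_decomp D hD K u₀ hu₀
    -- m y m⁻¹ ∈ V
    have hyV : m * y * m⁻¹ ∈ D.negUnipotent F := by
      have hle : US D F K ≤ (D.negUnipotent F).comap (MulAut.conj m).toMonoidHom := by
        unfold US
        rw [Subgroup.closure_le]
        rintro g ⟨r, t, hr, hrK, hg⟩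
        have hgx : g = xGL D F r t := Units.ext (by rw [hg, xGL_val D _ htri r t])
        rw [hgx]
        exact hneg r t hr hrK
      exact hle hy
    -- m y m⁻¹ ∈ B
    have hyB : m * y * m⁻¹ ∈ D.borelSubgroup F := by
      have e : m * y * m⁻¹ = (m * z * m⁻¹)⁻¹ * (m * (z * y * h) * m⁻¹) * (m * h * m⁻¹)⁻¹ := by
        group
      rw [e]
      exact (D.borelSubgroup F).mul_mem ((D.borelSubgroup F).mul_mem
        ((D.borelSubgroup F).inv_mem (hUB (hmU z hz))) hconj)
        ((D.borelSubgroup F).inv_mem (hHB (hmH h hh)))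
    have hy1 : m * y * m⁻¹ ∈ D.borelSubgroup F ⊓ D.negUnipotent F :=
      Subgroup.mem_inf.mpr ⟨hyB, hyV⟩
    rw [(Cfsg.Agent.S1037.result (F := F) D hD).1, Subgroup.mem_bot] at hy1
    have hy0 : y = 1 := by
      have : y = m⁻¹ * (m * y * m⁻¹) * m := by group
      rw [this, hy1]
      group
    rw [hy0, mul_one]
    exact (Subgroup.mul_mem_sup hz hh)
  · intro hmem
    have hle : D.unipotentRadical F K ⊔ D.diagonalSubgroup F ≤
        (D.borelSubgroup F).comap (MulAut.conj m).toMonoidHom := by
      apply sup_le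
      · intro x hx
        exact hUB (hmU x hx)
      · intro x hx
        exact hHB (hmH x hx)
    exact hle hmem

include hD in
theorem card_pos_eq_index_mul [Fintype F] (K : Set ℕ) :
    Nat.card (D.posUnipotent F) =
      ((D.unipotentRadical F K ⊔ D.diagonalSubgroup F).subgroupOf (D.borelSubgroup F)).index *
        Nat.card (D.unipotentRadical F K) := by
  classical
  have hfin : Finite (GL D.Idx F) := inferInstance
  have hle : D.unipotentRadical F K ⊔ D.diagonalSubgroup F ≤ D.borelSubgroup F :=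
    sup_le (le_trans (radical_le_pos D K) le_sup_left) le_sup_right
  have h1 : ((D.unipotentRadical F K ⊔ D.diagonalSubgroup F).subgroupOf (D.borelSubgroup F)).index *
      Nat.card ↥(D.unipotentRadical F K ⊔ D.diagonalSubgroup F) = Nat.card (D.borelSubgroup F) := by
    rw [← Nat.card_congr (Subgroup.subgroupOfEquivOfLe hle).toEquiv]
    exact Subgroup.index_mul_card _
  -- cardinalities of the two semidirect products
  have key : ∀ (A H : Subgroup (GL D.Idx F)), H ≤ Subgroup.normalizer (A : Set (GL D.Idx F)) →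
      A ⊓ H = ⊥ → Nat.card ↥(A ⊔ H) = Nat.card A * Nat.card H := by
    intro A H hn hbot
    have hset := Subgroup.coe_mul_of_right_le_normalizer_left A H hn
    have hinj : Function.Injective (fun p : A × H => ((p.1 : GL D.Idx F) * (p.2 : GL D.Idx F))) := by
      rintro ⟨a, h⟩ ⟨a', h'⟩ heq
      simp only at heq
      have h2 : (a' : GL D.Idx F)⁻¹ * a = h' * (h : GL D.Idx F)⁻¹ := by
        have : (a : GL D.Idx F) = a' * h' * (h : GL D.Idx F)⁻¹ := by rw [← heq]; group
        rw [this]; group
      have h3 : (a' : GL D.Idx F)⁻¹ * a ∈ A ⊓ H := by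
        refine Subgroup.mem_inf.mpr ⟨A.mul_mem (A.inv_mem a'.2) a.2, ?_⟩
        rw [h2]
        exact H.mul_mem h'.2 (H.inv_mem h.2)
      rw [hbot, Subgroup.mem_bot] at h3
      have ha : (a : GL D.Idx F) = a' := by
        have := inv_mul_eq_one.mp h3
        exact this.symm
      have hh : (h : GL D.Idx F) = h' := by
        rw [ha] at heq
        exact mul_left_cancel heq
      exact Prod.ext (Subtype.ext ha) (Subtype.ext hh)
    have hrange : Set.range (fun p : A × H => ((p.1 : GL D.Idx F) * (p.2 : GL D.Idx F))) =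
        ((A ⊔ H : Subgroup (GL D.Idx F)) : Set (GL D.Idx F)) := by
      rw [hset]
      ext x
      constructor
      · rintro ⟨⟨a, h⟩, rfl⟩
        exact ⟨a, a.2, h, h.2, rfl⟩
      · rintro ⟨a, ha, h, hh, rfl⟩
        exact ⟨(⟨a, ha⟩, ⟨h, hh⟩), rfl⟩
    have hc : Nat.card (A × H) = Nat.card ↥(A ⊔ H) := by
      rw [← Nat.card_range_of_injective hinj, hrange]
      rfl
    rw [← hc, Nat.card_prod]
  have h2 := key (D.unipotentRadical F K) (D.diagonalSubgroup F)
    (diag_le_normalizer_radical D hD K) (radical_inf_diag D hD K)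
  have h3 : Nat.card (D.borelSubgroup F) =
      Nat.card (D.posUnipotent F) * Nat.card (D.diagonalSubgroup F) :=
    key (D.posUnipotent F) (D.diagonalSubgroup F) (Cfsg.Agent.S1036.result (F := F) D hD).1
      (Cfsg.Agent.S1036.result (F := F) D hD).2
  rw [h2, h3] at h1
  have hpos : 0 < Nat.card (D.diagonalSubgroup F) := Nat.card_pos
  have h4 : (((D.unipotentRadical F K ⊔ D.diagonalSubgroup F).subgroupOf
      (D.borelSubgroup F)).index *
      Nat.card (D.unipotentRadical F K)) * Nat.card (D.diagonalSubgroup F) =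
      Nat.card (D.posUnipotent F) * Nat.card (D.diagonalSubgroup F) := by
    rw [← h1]; ring
  exact (Nat.eq_of_mul_eq_mul_right hpos h4).symm

end

end Cfsg.Agent.Helper35.ChevInt
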