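import Cfsg.Agent.Helper36.E8Odd.CardZc
import Cfsg.Agent.Helper18.E8Odd.P3b

/-!
Helper35, piece (F6) of helper36's farm #14862 (S4281, the involutions of `E₈(q)`, `q` odd): the order of the centralizer
of `tor (sv 6)` in closed form, from helper36's (CZ) `card_Zc_core` and helper18's certificate `D8.refSub`
(PART III(b), `Cfsg.Agent.Helper18.E8Odd.P3b`).
-/

set_option autoImplicit false
set_option maxRecDepth 100000

namespace Cfsg.Agent.Helper35.E8Inv2

open Cfsg Cfsg.Lie Cfsg.Agent.Helper18 Cfsg.Agent.Helper18.E8Odd Cfsg.Agent.Helper19.Cox Cfsg.Agent.Helper19.Poinc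
  Cfsg.Agent.Helper19.Twist Cfsg.Agent.Helper36.E8Odd Cfsg.Agent.Helper36.FieldFix

/-- the arithmetic of (F6) -/
theorem arith6 (q S : ℕ)
    (h : S * (q - 1) ^ 8 = ([2, 4, 6, 8, 10, 12, 14, 8].map fun d => q ^ d - 1).prod) :
    q ^ 56 * (q - 1) ^ 8 * S = q ^ 56 * (q ^ 8 - 1) * ∏ i ∈ Finset.Icc 1 7, (q ^ (2 * i) - 1) := by
  have e : ∏ i ∈ Finset.Icc 1 7, (q ^ (2 * i) - 1) =
      (q ^ 2 - 1) * (q ^ 4 - 1) * (q ^ 6 - 1) * (q ^ 8 - 1) * (q ^ 10 - 1) * (q ^ 12 - 1) * (q ^ 14 - 1) := by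
    have : Finset.Icc 1 7 = ({1, 2, 3, 4, 5, 6, 7} : Finset ℕ) := by decide
    rw [this]
    simp [Finset.prod_insert, mul_assoc]
  rw [e, mul_assoc (q ^ 56), mul_comm ((q - 1) ^ 8) S, h]
  simp only [List.map_cons, List.map_nil, List.prod_cons, List.prod_nil, mul_one]
  ring

section
variable {F : Type*} [Field F] [Fintype F]

/-- (F6) from the conclusion of (CZ) for `b = 6`, `D = D8.refSub`. -/
theorem card_Zc6_of
    (h : Nat.card ↥(chevE8.group F ⊓ Zc (tor (sv (F := F) 6))) =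
      Fintype.card F ^ (chevE8.posRoots.filter fun r => !par 6 r).length * (Fintype.card F - 1) ^ 8 *
        ∑ g : D8.refSub.cox.Group, Fintype.card F ^ D8.refSub.ell g) :
    Nat.card ↥(chevE8.group F ⊓ Zc (tor (sv (F := F) 6))) =
      Fintype.card F ^ 56 * (Fintype.card F ^ 8 - 1) * ∏ i ∈ Finset.Icc 1 7, (Fintype.card F ^ (2 * i) - 1) := by
  rw [h, npos_6]
  exact arith6 _ _ (Cfsg.Agent.Helper53.E8Inv.sum_ell D8.refSub _ Fintype.card_pos)

/-- (F6), core version: the pieces (ZC), (LC) enter as hypotheses (as in `card_Zc_core`); helper18's PART III(b) is used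
as landed. -/
theorem card_Zc6_core (hZC : HypZC F 6) (hLC : HypLC F 6) :
    Nat.card ↥(chevE8.group F ⊓ Zc (tor (sv (F := F) 6))) =
      Fintype.card F ^ 56 * (Fintype.card F ^ 8 - 1) * ∏ i ∈ Finset.Icc 1 7, (Fintype.card F ^ (2 * i) - 1) :=
  card_Zc6_of (card_Zc_core 6 hZC hLC D8.refSub psi_D8 (RefSub.wd_lt _) (RefSub.psi_wd _) (RefSub.wd_inj _)
    (RefSub.stab_cover _) (Cfsg.Agent.Helper29.E8Inv.ell_eq _))

end

end Cfsg.Agent.Helper35.E8Inv2
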