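import Mathlib
import Cfsg.Agent.Helper43.EF.Defs
import Cfsg.Agent.Helper43.SpOrthA

/-!
# (IDX) piece of S5976 (architect helper43): the primes dividing the index of a subgroup of
`Sp_2d(q)` whose order is divisible by `|GU_d(q)|`
-/

set_option autoImplicit false
set_option linter.unusedSectionVars false
set_option linter.unusedVariables false

namespace Cfsg.Agent.Helper35.EF

open Matrix Cfsg

variable {F : Type*} [Field F] {d : ℕ}

/-- the order of `GU_d(q)` (verbatim copy of `guOrd` of helper43's skeleton) -/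
def guOrd35 (q d : ℕ) : ℕ :=
  q ^ (d * (d - 1) / 2) * ∏ i ∈ Finset.range d, (if Even i then q ^ (i + 1) + 1 else q ^ (i + 1) - 1)

/-- `|Sp_2d(q)| = |GU_d(q)| * q^(...) * ∏ (q^j + (-1)^j)` -/
theorem sp_order_factor (q d : ℕ) :
    q ^ (d ^ 2) * ∏ i ∈ Finset.range d, (q ^ (2 * (i + 1)) - 1) =
      guOrd35 q d * (q ^ (d ^ 2 - d * (d - 1) / 2) *
        ∏ i ∈ Finset.range d, (if Even i then q ^ (i + 1) - 1 else q ^ (i + 1) + 1)) := by
  have hle : d * (d - 1) / 2 ≤ d ^ 2 := by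
    calc d * (d - 1) / 2 ≤ d * (d - 1) := Nat.div_le_self _ _
      _ ≤ d * d := Nat.mul_le_mul_left _ (Nat.sub_le _ _)
      _ = d ^ 2 := (sq d).symm
  have hpow : q ^ (d ^ 2) = q ^ (d * (d - 1) / 2) * q ^ (d ^ 2 - d * (d - 1) / 2) := by
    rw [← pow_add, Nat.add_sub_cancel' hle]
  have hprod : ∏ i ∈ Finset.range d, (q ^ (2 * (i + 1)) - 1) =
      (∏ i ∈ Finset.range d, (if Even i then q ^ (i + 1) + 1 else q ^ (i + 1) - 1)) *
      ∏ i ∈ Finset.range d, (if Even i then q ^ (i + 1) - 1 else q ^ (i + 1) + 1) := by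
    rw [← Finset.prod_mul_distrib]
    refine Finset.prod_congr rfl fun i _ => ?_
    have h1 : q ^ (2 * (i + 1)) - 1 = (q ^ (i + 1) + 1) * (q ^ (i + 1) - 1) := by
      have := Nat.sq_sub_sq (q ^ (i + 1)) 1
      rw [one_pow, ← pow_mul, mul_comm (i + 1) 2] at this
      exact this
    rw [h1]
    split_ifs
    · rfl
    · exact mul_comm _ _
  unfold guOrd35
  rw [hpow, hprod]
  ring

/-- (IDX) the primes dividing the index -/
theorem dvd_of_dvd_relIndex [Fintype F] {p : ℕ} [Fact p.Prime] [CharP F p] {q : ℕ}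
    (hq : Fintype.card F = q) (hd : 1 ≤ d) (N : Subgroup (GL (Fin d ⊕ Fin d) F))
    (hdvd : guOrd35 q d ∣ Nat.card ↥(N ⊓ Cfsg.spGL d F))
    (r : ℕ) [Fact r.Prime] (hr : r ∣ N.relIndex (Cfsg.spGL d F)) :
    r = p ∨ ∃ j, 1 ≤ j ∧ j ≤ d ∧ ((Even j ∧ r ∣ q ^ j + 1) ∨ (Odd j ∧ r ∣ q ^ j - 1)) := by
  subst hq
  have hrp : r.Prime := Fact.out
  have hcard := Cfsg.Agent.Helper43.SpOrth.card_spGL (F := F) d
  rw [sp_order_factor] at hcard
  have hidx : N.relIndex (Cfsg.spGL d F) * Nat.card ↥(N ⊓ Cfsg.spGL d F) =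
      Nat.card ↥(Cfsg.spGL d F) := by
    have := Subgroup.relIndex_mul_relIndex ⊥ (N ⊓ Cfsg.spGL d F) (Cfsg.spGL d F) bot_le inf_le_right
    rw [Subgroup.relIndex_bot_left, Subgroup.relIndex_bot_left, Subgroup.inf_relIndex_right] at this
    rw [mul_comm]
    exact this
  obtain ⟨m, hm⟩ := hdvd
  have hpos : 0 < Nat.card ↥(Cfsg.spGL d F) := Nat.card_pos
  have hg0 : guOrd35 (Fintype.card F) d ≠ 0 := by
    intro h0
    rw [hcard, h0, zero_mul] at hpos
    exact lt_irrefl _ hpos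
  have hX : N.relIndex (Cfsg.spGL d F) * m =
      Fintype.card F ^ (d ^ 2 - d * (d - 1) / 2) *
        ∏ i ∈ Finset.range d,
          (if Even i then Fintype.card F ^ (i + 1) - 1 else Fintype.card F ^ (i + 1) + 1) := by
    apply Nat.eq_of_mul_eq_mul_left (Nat.pos_of_ne_zero hg0)
    rw [← hcard, ← hidx, hm]
    ring
  have hrX : r ∣ Fintype.card F ^ (d ^ 2 - d * (d - 1) / 2) *
        ∏ i ∈ Finset.range d,
          (if Even i then Fintype.card F ^ (i + 1) - 1 else Fintype.card F ^ (i + 1) + 1) :=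
    hX ▸ Dvd.dvd.mul_right hr m
  rcases (Nat.Prime.dvd_mul hrp).1 hrX with h | h
  · left
    have h1 := hrp.dvd_of_dvd_pow h
    obtain ⟨n, hp, hn⟩ := FiniteField.card F p
    rw [hn] at h1
    have h2 := hrp.dvd_of_dvd_pow h1
    exact (Nat.prime_dvd_prime_iff_eq hrp hp).1 h2
  · right
    obtain ⟨i, hi, hdi⟩ := (Prime.dvd_finsetProd_iff hrp.prime _).1 h
    rw [Finset.mem_range] at hi
    refine ⟨i + 1, by omega, by omega, ?_⟩
    split_ifs at hdi with hev
    · right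
      exact ⟨hev.add_one, hdi⟩
    · left
      rw [Nat.not_even_iff_odd] at hev
      exact ⟨hev.add_one, hdi⟩

end Cfsg.Agent.Helper35.EF
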