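import Mathlib

/-!
# (ORD) piece of S5976 (architect helper43): the multiplicative order of `q` mod `r`
-/

set_option autoImplicit false

namespace Cfsg.Agent.Helper35.EF

/-- (ORD) the multiplicative order of `q` mod `r` -/
theorem ord_cases {q r : ℕ} (hr : r.Prime) (hr2 : r ≠ 2) (hq : 2 ≤ q) {j d : ℕ} (hj1 : 1 ≤ j)
    (hjd : j ≤ d) (h : (Even j ∧ r ∣ q ^ j + 1) ∨ (Odd j ∧ r ∣ q ^ j - 1)) :
    (Odd (orderOf (q : ZMod r)) ∧ orderOf (q : ZMod r) ≤ d) ∨
      (4 ∣ orderOf (q : ZMod r) ∧ orderOf (q : ZMod r) ≤ 2 * d) := by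
  have : Fact r.Prime := ⟨hr⟩
  have hqpos : 1 ≤ q ^ j := Nat.one_le_pow _ _ (by omega)
  rcases h with ⟨hje, hdiv⟩ | ⟨hjo, hdiv⟩
  · right
    have h1 : ((q : ZMod r)) ^ j = -1 := by
      have : ((q ^ j + 1 : ℕ) : ZMod r) = 0 := (ZMod.natCast_eq_zero_iff _ _).2 hdiv
      push_cast at this
      exact eq_neg_of_add_eq_zero_left this
    have hne : (-1 : ZMod r) ≠ 1 := by
      intro h
      have h2 : ((2 : ℕ) : ZMod r) = 0 := by
        have : (1 : ZMod r) + 1 = 0 := by
          nth_rewrite 1 [← h]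
          ring
        push_cast
        rw [← this]
        ring
      have := (ZMod.natCast_eq_zero_iff 2 r).1 h2
      exact hr2 ((Nat.prime_dvd_prime_iff_eq hr Nat.prime_two).1 this)
    have h2j : (q : ZMod r) ^ (2 * j) = 1 := by
      rw [mul_comm, pow_mul, h1]
      norm_num
    have hdvd : orderOf (q : ZMod r) ∣ 2 * j := orderOf_dvd_of_pow_eq_one h2j
    have hndvd : ¬ orderOf (q : ZMod r) ∣ j := by
      intro hd
      have := orderOf_dvd_iff_pow_eq_one.1 hd
      rw [h1] at this
      exact hne this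
    generalize orderOf (q : ZMod r) = i at *
    refine ⟨?_, ?_⟩
    · by_contra h4
      obtain ⟨m, rfl⟩ := hje
      rcases Nat.even_or_odd i with hie | hio
      · obtain ⟨i', rfl⟩ := hie
        have hi'odd : Odd i' := by
          by_contra hne'
          rw [Nat.not_odd_iff_even] at hne'
          obtain ⟨t, rfl⟩ := hne'
          exact h4 ⟨t, by ring⟩
        have h1' : i' ∣ m + m := by
          have : 2 * i' ∣ 2 * (m + m) := by
            convert hdvd using 1
            ring
          exact (Nat.mul_dvd_mul_iff_left (by norm_num)).1 this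
        have hcop : Nat.Coprime i' 2 := Nat.coprime_two_right.2 hi'odd
        have h2' : i' ∣ m := by
          apply hcop.dvd_of_dvd_mul_left (m := 2)
          convert h1' using 1
          ring
        apply hndvd
        obtain ⟨t, rfl⟩ := h2'
        exact ⟨t, by ring⟩
      · have hcop : Nat.Coprime i 2 := Nat.coprime_two_right.2 hio
        exact hndvd (hcop.dvd_of_dvd_mul_left hdvd)
    · have := Nat.le_of_dvd (by omega) hdvd
      omega
  · left
    have h1 : ((q : ZMod r)) ^ j = 1 := by
      have : ((q ^ j - 1 : ℕ) : ZMod r) = 0 := (ZMod.natCast_eq_zero_iff _ _).2 hdiv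
      rw [Nat.cast_sub hqpos] at this
      push_cast at this
      exact sub_eq_zero.1 this
    have hdvd : orderOf (q : ZMod r) ∣ j := orderOf_dvd_of_pow_eq_one h1
    exact ⟨hjo.of_dvd_nat hdvd, (Nat.le_of_dvd (by omega) hdvd).trans hjd⟩

end Cfsg.Agent.Helper35.EF
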