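import Cfsg.Agent.S3947

/-!
Consequence of the generalized zipper lemma: if a finite group `Γ` is the normal closure of an
element `a`, then for every `k` the `k`-th iterates of `b ↦ b a b⁻¹` generate `Γ`.
-/

set_option autoImplicit false
open scoped Pointwise

namespace Cfsg.Agent.Helper35.Flavell

open Cfsg.Agent.Helper91

universe u

/-- `b ↦ b a b⁻¹`. -/
def Tmap {Γ : Type u} [Group Γ] (a : Γ) : Γ → Γ := fun b => b * a * b⁻¹

theorem Tmap_self {Γ : Type u} [Group Γ] (a : Γ) : Tmap a a = a := by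
  unfold Tmap; group

theorem Tmap_subtype {Γ : Type u} [Group Γ] (H : Subgroup Γ) (a : H) (k : ℕ) (b : H) :
    (((Tmap a)^[k] b : H) : Γ) = (Tmap (a : Γ))^[k] (b : Γ) := by
  induction k generalizing b with
  | zero => rfl
  | succ k ih =>
    rw [Function.iterate_succ_apply, Function.iterate_succ_apply, ih]
    rfl

theorem T_gen_aux : ∀ (n : ℕ) (Γ : Type u) [Group Γ] [Finite Γ], Nat.card Γ = n → ∀ a : Γ,
    Subgroup.normalClosure ((Subgroup.zpowers a : Subgroup Γ) : Set Γ) = ⊤ → ∀ k : ℕ,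
    Subgroup.closure (Set.range ((Tmap a)^[k])) = ⊤ := by
  intro n
  induction n using Nat.strong_induction_on with
  | _ n ih =>
  intro Γ _ _ hn a ha k
  by_contra hK
  have haK : a ∈ Subgroup.closure (Set.range ((Tmap a)^[k])) :=
    Subgroup.subset_closure ⟨a, Function.iterate_fixed (Tmap_self a) k⟩
  have hAK : Subgroup.zpowers a ≤ Subgroup.closure (Set.range ((Tmap a)^[k])) :=
    (Subgroup.zpowers_le).2 haK
  have hgen : ∀ N : Subgroup Γ, N.Normal → Subgroup.zpowers a ≤ N → N = ⊤ := by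
    intro N hN hAN
    have : Subgroup.normalClosure ((Subgroup.zpowers a : Subgroup Γ) : Set Γ) ≤ N :=
      Subgroup.normalClosure_le_normal hAN
    rwa [ha, top_le_iff] at this
  have hHK : ∀ H ∈ HH (Subgroup.zpowers a),
      H ≤ Subgroup.closure (Set.range ((Tmap a)^[k])) := by
    rintro H ⟨hAH, hHtop, hgenH⟩
    have haH : a ∈ H := hAH (Subgroup.mem_zpowers a)
    have hcard : Nat.card H < n := hn ▸ card_subgroup_lt (lt_top_iff_ne_top.2 hHtop)
    have hsub : (Subgroup.zpowers a).subgroupOf H = Subgroup.zpowers (⟨a, haH⟩ : H) := by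
      ext x
      rw [Subgroup.mem_subgroupOf, Subgroup.mem_zpowers_iff, Subgroup.mem_zpowers_iff]
      constructor
      · rintro ⟨m, hm⟩
        exact ⟨m, Subtype.ext (by rw [Subgroup.coe_zpow]; exact hm)⟩
      · rintro ⟨m, hm⟩
        refine ⟨m, ?_⟩
        have := congrArg (Subtype.val) hm
        rwa [Subgroup.coe_zpow] at this
    have hnc : Subgroup.normalClosure ((Subgroup.zpowers (⟨a, haH⟩ : H) : Subgroup H) : Set H) = ⊤ := by
      rw [← hsub]
      exact (Cfsg.Agent.S3947.gen_iff hAH).2 hgenH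
    have h1 := ih _ hcard H rfl ⟨a, haH⟩ hnc k
    have h2 : H = (Subgroup.closure (Set.range ((Tmap (⟨a, haH⟩ : H))^[k]))).map H.subtype := by
      rw [h1, ← MonoidHom.range_eq_map, Subgroup.range_subtype]
    rw [h2, MonoidHom.map_closure]
    apply Subgroup.closure_mono
    rintro _ ⟨_, ⟨b, rfl⟩, rfl⟩
    exact ⟨(b : Γ), (Tmap_subtype H ⟨a, haH⟩ k b).symm⟩
  have hYK : Y (Subgroup.zpowers a) ≤ Subgroup.closure (Set.range ((Tmap a)^[k])) := sSup_le hHK
  have hYtop : Y (Subgroup.zpowers a) ≠ ⊤ := fun e => hK (top_le_iff.1 (e ▸ hYK))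
  by_cases hAtop : Subgroup.zpowers a = ⊤
  · exact hK (top_le_iff.1 (hAtop ▸ hAK))
  rcases main (Subgroup.zpowers a) hgen hAtop with h | ⟨M, ⟨hMco, hAM⟩, hMuniq⟩
  · exact hYtop h
  have hKM : Subgroup.closure (Set.range ((Tmap a)^[k])) ≤ M := by
    rcases eq_top_or_exists_le_coatom (Subgroup.closure (Set.range ((Tmap a)^[k]))) with
      e | ⟨M', hM', hKM'⟩
    · exact absurd e hK
    · have := hMuniq M' ⟨hM', hAK.trans hKM'⟩
      exact this ▸ hKM'
  have hMn : Subgroup.normalizer (M : Set Γ) = M := by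
    by_contra hne
    have htop : Subgroup.normalizer (M : Set Γ) = ⊤ :=
      hMco.2 _ (lt_of_le_of_ne Subgroup.le_normalizer (Ne.symm hne))
    have hn' : M.Normal := Subgroup.normalizer_eq_top_iff.1 htop
    exact hMco.1 (hgen M hn' hAM)
  obtain ⟨β, -, hβ⟩ := SetLike.exists_of_lt (lt_top_iff_ne_top.2 hMco.1)
  have hend : (Tmap a)^[k] β ∈ M := hKM (Subgroup.subset_closure ⟨β, rfl⟩)
  have hall : ∀ j : ℕ, (Tmap a)^[j] β ∉ M := by
    intro j
    induction j with
    | zero => simpa using hβ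
    | succ j ihj =>
      rw [Function.iterate_succ_apply']
      intro hmem
      have h1 : a ∈ MulAut.conj ((Tmap a)^[j] β)⁻¹ • M := by
        rw [Subgroup.mem_pointwise_smul_iff_inv_smul_mem, ← map_inv, inv_inv, MulAut.smul_def,
          MulAut.conj_apply]
        exact hmem
      have h2 : MulAut.conj ((Tmap a)^[j] β)⁻¹ • M = M :=
        hMuniq _ ⟨isCoatom_smul hMco _, (Subgroup.zpowers_le).2 h1⟩
      have h3 : ((Tmap a)^[j] β)⁻¹ ∈ Subgroup.normalizer (M : Set Γ) :=
        mem_normalizer_of_conj_smul_eq h2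
      rw [hMn] at h3
      exact ihj ((Subgroup.inv_mem_iff M).1 h3)
  exact hall k hend

theorem T_gen {Γ : Type u} [Group Γ] [Finite Γ] (a : Γ)
    (ha : Subgroup.normalClosure ((Subgroup.zpowers a : Subgroup Γ) : Set Γ) = ⊤) (k : ℕ) :
    Subgroup.closure (Set.range ((Tmap a)^[k])) = ⊤ :=
  T_gen_aux _ Γ rfl a ha k

end Cfsg.Agent.Helper35.Flavell
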