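import Cfsg.Agent.Helper91.ClassicalZipper

/-!
Abstract core of the generalized zipper lemma: a conjugation-closed family `C` of subgroups, each
with a "special" maximal subgroup `sp B`, such that `B` is subnormal in every other maximal
subgroup containing it, and two members lying together in two maximal subgroups have different
special subgroups and lie in both of them.  Conclusion: `sp B` is the only maximal subgroup over `B`.
-/

set_option autoImplicit false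
open scoped Pointwise

namespace Cfsg.Agent.Helper35.Flavell

open Cfsg.Agent.Helper91

universe u
variable {G : Type u} [Group G]

/-- Normal closure of `A` in `X`, as a subgroup of `G`. -/
def ncl (A X : Subgroup G) : Subgroup G := sSup {B | ∃ u ∈ X, B = MulAut.conj u • A}

theorem le_ncl (A X : Subgroup G) : A ≤ ncl A X := by
  refine le_sSup ⟨1, X.one_mem, ?_⟩
  rw [map_one, one_smul]

theorem smul_le_ncl {A X : Subgroup G} {u : G} (hu : u ∈ X) : MulAut.conj u • A ≤ ncl A X :=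
  le_sSup ⟨u, hu, rfl⟩

theorem ncl_le {A X N : Subgroup G} (hAN : A ≤ N) (hXN : X ≤ Subgroup.normalizer (N : Set G)) :
    ncl A X ≤ N := by
  refine sSup_le ?_
  rintro B ⟨u, hu, rfl⟩
  have h1 : MulAut.conj u • A ≤ MulAut.conj u • N :=
    Subgroup.pointwise_smul_le_pointwise_smul_iff.2 hAN
  rwa [conj_smul_eq_of_mem_normalizer (hXN hu)] at h1

theorem le_normalizer_ncl (A X : Subgroup G) :
    X ≤ Subgroup.normalizer ((ncl A X : Subgroup G) : Set G) := by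
  rw [Subgroup.le_normalizer_iff]
  intro v hv k hk
  have hvD : MulAut.conj v • ncl A X ≤ ncl A X := by
    rw [Subgroup.pointwise_smul_subset_iff]
    unfold ncl
    rw [sSup_le_iff]
    rintro B ⟨u, hu, rfl⟩
    rw [← Subgroup.pointwise_smul_subset_iff, conj_smul_smul]
    exact le_sSup ⟨v * u, X.mul_mem hv hu, rfl⟩
  exact hvD (Subgroup.smul_mem_pointwise_smul _ _ _ hk)

/-- The last non-normalizing term of the normal closure series. -/
theorem exists_chain [Finite G] (A : Subgroup G) : ∀ (n : ℕ) (X : Subgroup G), Nat.card X = n →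
    RelSN A X → ¬ X ≤ Subgroup.normalizer (A : Set G) →
    ∃ T : Subgroup G, T ≤ X ∧ RelSN A T ∧ ¬ T ≤ Subgroup.normalizer (A : Set G) ∧
      ncl A T ≤ Subgroup.normalizer (A : Set G) ∧ (T = X ∨ ∃ L : Subgroup G, L ≤ X ∧ T = ncl A L) := by
  intro n
  induction n using Nat.strong_induction_on with
  | _ n ih =>
    intro X hn hsn hnot
    by_cases h : ncl A X ≤ Subgroup.normalizer (A : Set G)
    · exact ⟨X, le_rfl, hsn, hnot, h, Or.inl rfl⟩
    · have hAX : A ≠ X := by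
        rintro rfl; exact hnot Subgroup.le_normalizer
      obtain ⟨K₁, hAK₁, hK₁X, hXn, -⟩ := hsn.exists_normal hAX
      have hle : ncl A X ≤ K₁ := ncl_le hAK₁ hXn
      have hlt : ncl A X < X := lt_of_le_of_lt hle hK₁X
      have hsn' : RelSN A (ncl A X) := hsn.mono (le_ncl A X) hlt.le
      obtain ⟨T, hT1, hT2, hT3, hT4, hT5⟩ :=
        ih _ (by rw [← hn]; exact card_lt_of_lt hlt) (ncl A X) rfl hsn' h
      refine ⟨T, hT1.trans hlt.le, hT2, hT3, hT4, Or.inr ?_⟩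
      rcases hT5 with rfl | ⟨L, hL, rfl⟩
      · exact ⟨X, le_rfl, rfl⟩
      · exact ⟨L, hL.trans hlt.le, rfl⟩

theorem coatom_eq_of_le {K M : Subgroup G} (hK : IsCoatom K) (hM : M ≠ ⊤) (h : K ≤ M) : K = M := by
  by_contra hne
  exact hM (hK.2 M (lt_of_le_of_ne h hne))

/-- The abstract configuration. -/
structure Ctx (G : Type u) [Group G] where
  C : Set (Subgroup G)
  sp : Subgroup G → Subgroup G
  conj_mem : ∀ B ∈ C, ∀ g : G, MulAut.conj g • B ∈ C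
  sp_smul : ∀ B ∈ C, ∀ g : G, sp (MulAut.conj g • B) = MulAut.conj g • sp B
  sp_coatom : ∀ B ∈ C, IsCoatom (sp B)
  norm_le : ∀ B ∈ C, Subgroup.normalizer (B : Set G) ≤ sp B
  sn : ∀ B ∈ C, ∀ K : Subgroup G, IsCoatom K → B ≤ K → K ≠ sp B → RelSN B K
  uu : ∀ B₁ ∈ C, ∀ B₂ ∈ C, B₁ ≠ B₂ → ∀ K₁ K₂ : Subgroup G, IsCoatom K₁ → IsCoatom K₂ → K₁ ≠ K₂ →
    B₁ ≤ K₁ → B₂ ≤ K₁ → B₁ ≤ K₂ → B₂ ≤ K₂ → sp B₁ ≠ sp B₂ ∧ B₁ ≤ sp B₂ ∧ B₂ ≤ sp B₁
  gen : ∀ B ∈ C, ∀ N : Subgroup G, N.Normal → B ≤ N → N = ⊤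

namespace Ctx

variable (c : Ctx G)

theorem le_sp {B : Subgroup G} (hB : B ∈ c.C) : B ≤ c.sp B :=
  Subgroup.le_normalizer.trans (c.norm_le B hB)

theorem sp_ne_top {B : Subgroup G} (hB : B ∈ c.C) : c.sp B ≠ ⊤ := (c.sp_coatom B hB).1

/-- Two-point stabilizers normalize. -/
theorem inf_sp_le_normalizer {B K : Subgroup G} (hB : B ∈ c.C) (hK : IsCoatom K) (hBK : B ≤ K)
    (hne : K ≠ c.sp B) : K ⊓ c.sp B ≤ Subgroup.normalizer (B : Set G) := by
  intro m hm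
  obtain ⟨hmK, hmS⟩ := Subgroup.mem_inf.1 hm
  apply mem_normalizer_of_conj_smul_eq
  by_contra hne'
  have hB' : MulAut.conj m • B ∈ c.C := c.conj_mem B hB m
  have hsp : c.sp (MulAut.conj m • B) = c.sp B := by
    rw [c.sp_smul B hB m, Subgroup.conj_smul_eq_self_of_mem hmS]
  have h1 := c.uu B hB _ hB' (Ne.symm hne') K (c.sp B) hK (c.sp_coatom B hB) hne hBK
    (conj_smul_le_of_mem hmK hBK) (c.le_sp hB) (conj_smul_le_of_mem hmS (c.le_sp hB))
  exact h1.1 hsp.symm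

/-- Partners. -/
def Partner (B₁ B₂ : Subgroup G) : Prop :=
  B₁ ∈ c.C ∧ B₂ ∈ c.C ∧ c.sp B₁ ≠ c.sp B₂ ∧ B₁ ≤ c.sp B₂ ∧ B₂ ≤ c.sp B₁

variable {c}

theorem Partner.symm {B₁ B₂ : Subgroup G} (h : c.Partner B₁ B₂) : c.Partner B₂ B₁ :=
  ⟨h.2.1, h.1, h.2.2.1.symm, h.2.2.2.2, h.2.2.2.1⟩

theorem Partner.ne {B₁ B₂ : Subgroup G} (h : c.Partner B₁ B₂) : B₁ ≠ B₂ := by
  rintro rfl; exact h.2.2.1 rfl

theorem partner_of_two {B₁ B₂ : Subgroup G} (h1 : B₁ ∈ c.C) (h2 : B₂ ∈ c.C) (hne : B₁ ≠ B₂)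
    {K₁ K₂ : Subgroup G} (hK₁ : IsCoatom K₁) (hK₂ : IsCoatom K₂) (hK : K₁ ≠ K₂)
    (h11 : B₁ ≤ K₁) (h21 : B₂ ≤ K₁) (h12 : B₁ ≤ K₂) (h22 : B₂ ≤ K₂) : c.Partner B₁ B₂ := by
  obtain ⟨a, b, d⟩ := c.uu B₁ h1 B₂ h2 hne K₁ K₂ hK₁ hK₂ hK h11 h21 h12 h22
  exact ⟨h1, h2, a, b, d⟩

theorem Partner.le_normalizer {B₁ B₂ : Subgroup G} (h : c.Partner B₁ B₂) :
    B₂ ≤ Subgroup.normalizer (B₁ : Set G) :=
  le_trans (le_inf (c.le_sp h.2.1) h.2.2.2.2)
    (c.inf_sp_le_normalizer h.1 (c.sp_coatom _ h.2.1) h.2.2.2.1 h.2.2.1.symm)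

variable (c)

/-- The line through two partners. -/
def line (B₁ B₂ : Subgroup G) : Set (Subgroup G) := {B | B ∈ c.C ∧ B ≤ c.sp B₁ ⊓ c.sp B₂}

variable {c}

theorem mem_line_left {B₁ B₂ : Subgroup G} (h : c.Partner B₁ B₂) : B₁ ∈ c.line B₁ B₂ :=
  ⟨h.1, le_inf (c.le_sp h.1) h.2.2.2.1⟩

theorem mem_line_right {B₁ B₂ : Subgroup G} (h : c.Partner B₁ B₂) : B₂ ∈ c.line B₁ B₂ :=
  ⟨h.2.1, le_inf h.2.2.2.2 (c.le_sp h.2.1)⟩

theorem partner_of_mem_line {B₁ B₂ B B' : Subgroup G} (h : c.Partner B₁ B₂)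
    (hB : B ∈ c.line B₁ B₂) (hB' : B' ∈ c.line B₁ B₂) (hne : B ≠ B') : c.Partner B B' :=
  partner_of_two hB.1 hB'.1 hne (c.sp_coatom _ h.1) (c.sp_coatom _ h.2.1) h.2.2.1
    (hB.2.trans inf_le_left) (hB'.2.trans inf_le_left) (hB.2.trans inf_le_right)
    (hB'.2.trans inf_le_right)

theorem le_normalizer_of_mem_line {B₁ B₂ B B' : Subgroup G} (h : c.Partner B₁ B₂)
    (hB : B ∈ c.line B₁ B₂) (hB' : B' ∈ c.line B₁ B₂) :
    B' ≤ Subgroup.normalizer (B : Set G) := by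
  by_cases hne : B = B'
  · subst hne; exact Subgroup.le_normalizer
  · exact (partner_of_mem_line h hB hB' hne).le_normalizer

theorem sSup_line_le_sp {B₁ B₂ B : Subgroup G} (h : c.Partner B₁ B₂) (hB : B ∈ c.line B₁ B₂) :
    sSup (c.line B₁ B₂) ≤ c.sp B :=
  sSup_le fun _ hB' => (le_normalizer_of_mem_line h hB hB').trans (c.norm_le B hB.1)

theorem line_eq {B₁ B₂ B B' : Subgroup G} (h : c.Partner B₁ B₂)
    (hB : B ∈ c.line B₁ B₂) (hB' : B' ∈ c.line B₁ B₂) (hne : B ≠ B') :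
    c.line B B' = c.line B₁ B₂ := by
  have hP : c.Partner B B' := partner_of_mem_line h hB hB' hne
  have h1 : B₁ ∈ c.line B B' :=
    ⟨h.1, le_inf ((le_sSup (mem_line_left h)).trans (sSup_line_le_sp h hB))
      ((le_sSup (mem_line_left h)).trans (sSup_line_le_sp h hB'))⟩
  have h2 : B₂ ∈ c.line B B' :=
    ⟨h.2.1, le_inf ((le_sSup (mem_line_right h)).trans (sSup_line_le_sp h hB))
      ((le_sSup (mem_line_right h)).trans (sSup_line_le_sp h hB'))⟩
  ext X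
  constructor
  · intro hX
    exact ⟨hX.1, le_inf ((le_sSup hX).trans (sSup_line_le_sp hP h1))
      ((le_sSup hX).trans (sSup_line_le_sp hP h2))⟩
  · intro hX
    exact ⟨hX.1, le_inf ((le_sSup hX).trans (sSup_line_le_sp h hB))
      ((le_sSup hX).trans (sSup_line_le_sp h hB'))⟩

/-- Overgroups of the special term of the chain. -/
theorem overgroup_le [Finite G] {B₁ B₂ T : Subgroup G} (h : c.Partner B₁ B₂) (hT : T ≤ c.sp B₂)
    (hTn : ¬ T ≤ Subgroup.normalizer (B₁ : Set G)) (hB₁T : B₁ ≤ T)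
    (hform : T = c.sp B₂ ∨ ∃ L : Subgroup G, L ≤ c.sp B₂ ∧ T = ncl B₁ L) :
    ∀ V : Subgroup G, T ≤ V → V ≠ ⊤ → V ≤ c.sp B₂ := by
  have hco := c.sp_coatom _ h.2.1
  rcases hform with rfl | ⟨L, hL, rfl⟩
  · intro V hV hVt
    exact (coatom_eq_of_le hco hVt hV).ge
  · have hTne : ncl B₁ L ≠ ⊤ := fun e => hco.1 (top_le_iff.1 (e ▸ hT))
    have hsnK : ∀ K' : Subgroup G, IsCoatom K' → ncl B₁ L ≤ K' → RelSN (ncl B₁ L) K' := by
      intro K' hK' hTK'
      unfold ncl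
      apply RelSN.sSup
      rintro U ⟨v, hv, rfl⟩
      have hvC := c.conj_mem B₁ h.1 v
      apply c.sn _ hvC K' hK' ((smul_le_ncl hv).trans hTK')
      intro hK'eq
      rw [c.sp_smul B₁ h.1 v] at hK'eq
      have hvN : v ∈ Subgroup.normalizer ((ncl B₁ L : Subgroup G) : Set G) :=
        le_normalizer_ncl B₁ L hv
      have h3 : ncl B₁ L ≤ c.sp B₁ := by
        have h4 : MulAut.conj v⁻¹ • ncl B₁ L ≤ MulAut.conj v⁻¹ • (MulAut.conj v • c.sp B₁) :=
          Subgroup.pointwise_smul_le_pointwise_smul_iff.2 (hK'eq ▸ hTK')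
        rwa [conj_smul_smul, inv_mul_cancel, map_one, one_smul,
          conj_smul_eq_of_mem_normalizer (Subgroup.inv_mem _ hvN)] at h4
      exact hTn (le_trans (le_inf hT h3)
        (c.inf_sp_le_normalizer h.1 hco h.2.2.2.1 h.2.2.1.symm))
    have hnot : ¬ RelSN (ncl B₁ L) ⊤ := by
      intro hsn
      obtain ⟨K₁, hTK₁, hK₁lt, hK₁n, -⟩ := hsn.exists_normal hTne
      have hn : K₁.Normal := Subgroup.normalizer_eq_top_iff.1 (top_le_iff.1 hK₁n)
      exact hK₁lt.ne (c.gen B₁ h.1 K₁ hn (hB₁T.trans hTK₁))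
    have hsub : ∀ V : Subgroup G, ncl B₁ L ≤ V → V < ⊤ → RelSN (ncl B₁ L) V := by
      intro V hTV hVlt
      rcases eq_top_or_exists_le_coatom V with hVtop | ⟨K', hK', hVK'⟩
      · exact absurd hVtop hVlt.ne
      · exact (hsnK K' hK' (hTV.trans hVK')).mono hTV hVK'
    obtain ⟨M, -, hMlt, hMmax⟩ := classical_zipper ⊤ (ncl B₁ L) le_top hnot hsub
    have hspM : c.sp B₂ ≤ M := hMmax _ hT (lt_top_iff_ne_top.2 hco.1)
    have hMeq : c.sp B₂ = M := coatom_eq_of_le hco hMlt.ne hspM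
    intro V hV hVt
    rw [hMeq]
    exact hMmax V hV (lt_top_iff_ne_top.2 hVt)

/-- The key subgroup. -/
theorem exists_T [Finite G] {B₁ B₂ : Subgroup G} (h : c.Partner B₁ B₂) :
    ∃ T : Subgroup G, T ≤ c.sp B₂ ∧ ¬ T ≤ Subgroup.normalizer (B₁ : Set G) ∧
      T ≤ Subgroup.normalizer ((sSup (c.line B₁ B₂) : Subgroup G) : Set G) ∧
      ∀ V : Subgroup G, T ≤ V → V ≠ ⊤ → V ≤ c.sp B₂ := by
  have hco₁ := c.sp_coatom _ h.1
  have hco₂ := c.sp_coatom _ h.2.1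
  have hsn : RelSN B₁ (c.sp B₂) := c.sn B₁ h.1 _ hco₂ h.2.2.2.1 h.2.2.1.symm
  have hnot : ¬ c.sp B₂ ≤ Subgroup.normalizer (B₁ : Set G) := fun hle =>
    h.2.2.1 (coatom_eq_of_le hco₂ hco₁.1 (hle.trans (c.norm_le B₁ h.1))).symm
  obtain ⟨T, hTM₂, hsnT, hTn, hncl, hform⟩ := exists_chain B₁ _ (c.sp B₂) rfl hsn hnot
  have hB₁T : B₁ ≤ T := hsnT.le
  refine ⟨T, hTM₂, hTn, ?_, overgroup_le h hTM₂ hTn hB₁T hform⟩
  -- facts on elements of `T`
  have hu1 : ∀ u ∈ T, MulAut.conj u • B₁ ∈ c.line B₁ B₂ := fun u hu =>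
    ⟨c.conj_mem B₁ h.1 u, le_inf ((smul_le_ncl hu).trans (hncl.trans (c.norm_le B₁ h.1)))
      (conj_smul_le_of_mem (hTM₂ hu) h.2.2.2.1)⟩
  have hu2 : ∀ u ∈ T, MulAut.conj u • B₁ ≠ B₂ := by
    intro u hu heq
    have h1 := c.sp_smul B₁ h.1 u
    rw [heq] at h1
    have h2 : MulAut.conj u⁻¹ • c.sp B₂ = c.sp B₁ := by
      rw [h1, conj_smul_smul, inv_mul_cancel, map_one, one_smul]
    rw [Subgroup.conj_smul_eq_self_of_mem (Subgroup.inv_mem _ (hTM₂ hu))] at h2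
    exact h.2.2.1 h2.symm
  have hu4 : ∀ u ∈ T, ∀ B ∈ c.line B₁ B₂, MulAut.conj u • B ∈ c.line B₁ B₂ := by
    intro u hu B hB
    by_cases hfix : MulAut.conj u • B₁ = B₁
    · have huM₁ : u ∈ c.sp B₁ := c.norm_le B₁ h.1 (mem_normalizer_of_conj_smul_eq hfix)
      exact ⟨c.conj_mem B hB.1 u, le_inf (conj_smul_le_of_mem huM₁ (hB.2.trans inf_le_left))
        (conj_smul_le_of_mem (hTM₂ hu) (hB.2.trans inf_le_right))⟩
    · rw [← line_eq h (hu1 u hu) (mem_line_right h) (hu2 u hu)]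
      refine ⟨c.conj_mem B hB.1 u, le_inf ?_ (conj_smul_le_of_mem (hTM₂ hu) (hB.2.trans inf_le_right))⟩
      rw [c.sp_smul B₁ h.1 u]
      exact Subgroup.pointwise_smul_le_pointwise_smul_iff.2 (hB.2.trans inf_le_left)
  rw [Subgroup.le_normalizer_iff]
  intro v hv k hk
  have hvD : MulAut.conj v • sSup (c.line B₁ B₂) ≤ sSup (c.line B₁ B₂) := by
    rw [Subgroup.pointwise_smul_subset_iff, sSup_le_iff]
    intro B hB
    rw [← Subgroup.pointwise_smul_subset_iff]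
    exact le_sSup (hu4 v hv B hB)
  exact hvD (Subgroup.smul_mem_pointwise_smul _ _ _ hk)

/-- Main abstract theorem: the special subgroup is the only maximal subgroup over a member. -/
theorem eq_sp [Finite G] {A K : Subgroup G} (hA : A ∈ c.C) (hK : IsCoatom K) (hAK : A ≤ K) :
    K = c.sp A := by
  by_contra hne
  have hcoA := c.sp_coatom A hA
  have hsn := c.sn A hA K hK hAK hne
  have hnot : ¬ K ≤ Subgroup.normalizer (A : Set G) := fun hle =>
    hne (coatom_eq_of_le hK hcoA.1 (hle.trans (c.norm_le A hA)))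
  obtain ⟨T, hTK, -, hTn, hncl, -⟩ := exists_chain A _ K rfl hsn hnot
  obtain ⟨u, huT, hun⟩ := SetLike.not_le_iff_exists.1 hTn
  have hne2 : A ≠ MulAut.conj u • A := fun e => hun (mem_normalizer_of_conj_smul_eq e.symm)
  have hP : c.Partner A (MulAut.conj u • A) :=
    partner_of_two hA (c.conj_mem A hA u) hne2 hK hcoA hne hAK
      (conj_smul_le_of_mem (hTK huT) hAK) (c.le_sp hA)
      ((smul_le_ncl huT).trans (hncl.trans (c.norm_le A hA)))
  obtain ⟨T₁, h11, h12, h13, h14⟩ := exists_T hP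
  obtain ⟨T₂, -, -, h23, h24⟩ := exists_T hP.symm
  have hline : c.line (MulAut.conj u • A) A = c.line A (MulAut.conj u • A) := by
    unfold line; rw [inf_comm]
  rw [hline] at h23
  have hPne : Subgroup.normalizer ((sSup (c.line A (MulAut.conj u • A)) : Subgroup G) : Set G) ≠ ⊤ := by
    intro htop
    have hn : (sSup (c.line A (MulAut.conj u • A))).Normal := Subgroup.normalizer_eq_top_iff.1 htop
    have e := c.gen A hA _ hn (le_sSup (mem_line_left hP))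
    exact hcoA.1 (top_le_iff.1 (e ▸ sSup_line_le_sp hP (mem_line_left hP)))
  have e2 : Subgroup.normalizer ((sSup (c.line A (MulAut.conj u • A)) : Subgroup G) : Set G) ≤ c.sp A :=
    h24 _ h23 hPne
  exact h12 (le_trans (le_inf h11 (h13.trans e2))
    (c.inf_sp_le_normalizer hA (c.sp_coatom _ hP.2.1) hP.2.2.2.1 hP.2.2.1.symm))

end Ctx

end Cfsg.Agent.Helper35.Flavell
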