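import Cfsg.Agent.Helper35.FlavellCtx

/-!
Generalized zipper lemma (Flavell): if `A < G` has normal closure `G` and the join `Y` of the proper
subgroups `H ≥ A` with `H = ⟨A^H⟩` is proper, then `A` lies in a unique maximal subgroup.
-/

set_option autoImplicit false
open scoped Pointwise

namespace Cfsg.Agent.Helper35.Flavell

open Cfsg.Agent.Helper91

universe u
variable {G : Type u} [Group G]

/-- `H` is generated by its conjugates of `A`: no proper subgroup of `H` normalized by `H`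
contains `A`. -/
def Gen (A H : Subgroup G) : Prop :=
  ∀ N : Subgroup G, A ≤ N → N ≤ H → H ≤ Subgroup.normalizer (N : Set G) → N = H

def HH (A : Subgroup G) : Set (Subgroup G) := {H | A ≤ H ∧ H ≠ ⊤ ∧ Gen A H}

def Y (A : Subgroup G) : Subgroup G := sSup (HH A)

theorem gen_self (A : Subgroup G) : Gen A A := fun _ h1 h2 _ => le_antisymm h2 h1

theorem Gen.eq_of_relSN {A H U : Subgroup G} (h : Gen A H) (hAU : A ≤ U) (hU : RelSN U H) :
    U = H := by
  by_contra hne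
  obtain ⟨K, hUK, hKH, hHn, -⟩ := hU.exists_normal hne
  exact hKH.ne (h K (hAU.trans hUK) hKH.le hHn)

theorem le_normalizer_inf {N H X : Subgroup G} (h1 : X ≤ Subgroup.normalizer (N : Set G))
    (h2 : X ≤ Subgroup.normalizer (H : Set G)) :
    X ≤ Subgroup.normalizer ((N ⊓ H : Subgroup G) : Set G) := by
  rw [Subgroup.le_normalizer_iff] at *
  intro x hx k hk
  exact Subgroup.mem_inf.2 ⟨h1 x hx k (Subgroup.mem_inf.1 hk).1, h2 x hx k (Subgroup.mem_inf.1 hk).2⟩

theorem gen_sSup {A : Subgroup G} {S : Set (Subgroup G)} (hS : ∀ H ∈ S, A ≤ H ∧ Gen A H) :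
    Gen A (sSup S) := by
  intro N hAN hNS hn
  refine le_antisymm hNS (sSup_le fun H hH => ?_)
  have h1 : N ⊓ H = H := (hS H hH).2 (N ⊓ H) (le_inf hAN (hS H hH).1) inf_le_right
    (le_normalizer_inf ((le_sSup hH).trans hn) Subgroup.le_normalizer)
  exact inf_eq_right.1 h1

theorem Gen.trans {B U H : Subgroup G} (hBU : B ≤ U) (h1 : Gen B U) (hUH : U ≤ H)
    (h2 : Gen U H) : Gen B H := by
  intro N hBN hNH hn
  have e : N ⊓ U = U := h1 (N ⊓ U) (le_inf hBN hBU) inf_le_right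
    (le_normalizer_inf (hUH.trans hn) Subgroup.le_normalizer)
  exact h2 N (inf_eq_right.1 e) hNH hn

theorem exists_snClosure [Finite G] {A L : Subgroup G} (hAL : A ≤ L) :
    ∃ U : Subgroup G, A ≤ U ∧ RelSN U L ∧ Gen A U := by
  let 𝒮 : Set (Subgroup G) := {U | A ≤ U ∧ RelSN U L}
  have hL : L ∈ 𝒮 := ⟨hAL, RelSN.refl L⟩
  obtain ⟨U, -, hUmin⟩ := (Set.toFinite 𝒮).exists_le_minimal hL
  refine ⟨U, hUmin.prop.1, hUmin.prop.2, ?_⟩
  intro N hAN hNU hn
  have hN : N ∈ 𝒮 := ⟨hAN, (RelSN.of_normal hNU hn).trans hUmin.prop.2⟩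
  exact le_antisymm hNU (hUmin.le_of_le hN hNU)

theorem self_mem_HH {A : Subgroup G} (hA : A ≠ ⊤) : A ∈ HH A := ⟨le_rfl, hA, gen_self A⟩

theorem le_Y {A : Subgroup G} (hA : A ≠ ⊤) : A ≤ Y A := le_sSup (self_mem_HH hA)

theorem gen_Y (A : Subgroup G) : Gen A (Y A) := gen_sSup fun _ hH => ⟨hH.1, hH.2.2⟩

theorem Y_relSN [Finite G] {A L : Subgroup G} (hA : A ≠ ⊤) (hYL : Y A ≤ L) (hL : L ≠ ⊤) :
    RelSN (Y A) L := by
  obtain ⟨U, hAU, hUL, hgen⟩ := exists_snClosure ((le_Y hA).trans hYL)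
  have hUY : U ≤ Y A := le_sSup ⟨hAU, fun e => hL (top_le_iff.1 (e ▸ hUL.le)), hgen⟩
  have h1 : RelSN (U ⊓ Y A) (L ⊓ Y A) := hUL.inf_right (Y A)
  rw [inf_eq_right.2 hYL] at h1
  have h2 : U ⊓ Y A = Y A := (gen_Y A).eq_of_relSN (le_inf hAU (le_Y hA)) h1
  have h3 : Y A ≤ U := inf_eq_right.1 h2
  rw [le_antisymm h3 hUY]
  exact hUL

theorem exists_special [Finite G] {A : Subgroup G}
    (hgen : ∀ N : Subgroup G, N.Normal → A ≤ N → N = ⊤) (hA : A ≠ ⊤) (hY : Y A ≠ ⊤) :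
    ∃ M : Subgroup G, IsCoatom M ∧ Y A ≤ M ∧ ∀ V : Subgroup G, Y A ≤ V → V ≠ ⊤ → V ≤ M := by
  have hnot : ¬ RelSN (Y A) ⊤ := by
    intro hsn
    obtain ⟨K, hYK, hKlt, hKn, -⟩ := hsn.exists_normal hY
    have hn : K.Normal := Subgroup.normalizer_eq_top_iff.1 (top_le_iff.1 hKn)
    exact hKlt.ne (hgen K hn ((le_Y hA).trans hYK))
  obtain ⟨M, hYM, hMlt, hMmax⟩ := classical_zipper ⊤ (Y A) le_top hnot
    (fun V hV hVlt => Y_relSN hA hV hVlt.ne)
  refine ⟨M, ⟨hMlt.ne, fun b hb => ?_⟩, hYM,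
    fun V hV hVt => hMmax V hV (lt_top_iff_ne_top.2 hVt)⟩
  by_contra hbt
  exact absurd (hMmax b (hYM.trans hb.le) (lt_top_iff_ne_top.2 hbt)) (not_le_of_gt hb)

/-! ### Conjugation equivariance -/

theorem smul_ne_top {H : Subgroup G} (h : H ≠ ⊤) (g : G) : MulAut.conj g • H ≠ ⊤ := by
  intro e
  apply h
  rw [Subgroup.eq_top_iff']
  intro x
  rw [← Subgroup.smul_mem_pointwise_smul_iff (a := MulAut.conj g), e]
  trivial

theorem Gen.smul {A H : Subgroup G} (h : Gen A H) (g : G) :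
    Gen (MulAut.conj g • A) (MulAut.conj g • H) := by
  intro N hAN hNH hn
  have e : (MulAut.conj g)⁻¹ • N = H := by
    refine h _ (Subgroup.pointwise_smul_subset_iff.1 hAN) (Subgroup.subset_pointwise_smul_iff.1 hNH) ?_
    rw [Subgroup.le_normalizer_iff]
    intro x hx k hk
    rw [Subgroup.mem_inv_pointwise_smul_iff] at hk ⊢
    have hx' : MulAut.conj g • x ∈ Subgroup.normalizer (N : Set G) :=
      hn (Subgroup.smul_mem_pointwise_smul _ _ _ hx)
    have := (Subgroup.le_normalizer_iff.1 (le_refl (Subgroup.normalizer (N : Set G))))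
      _ hx' _ hk
    rwa [smul_mul', smul_mul', smul_inv']
  rw [← e, smul_inv_smul]

theorem HH_smul {A H : Subgroup G} (h : H ∈ HH A) (g : G) :
    MulAut.conj g • H ∈ HH (MulAut.conj g • A) :=
  ⟨Subgroup.pointwise_smul_le_pointwise_smul_iff.2 h.1, smul_ne_top h.2.1 g, h.2.2.smul g⟩

theorem Y_smul_le (A : Subgroup G) (g : G) : MulAut.conj g • Y A ≤ Y (MulAut.conj g • A) := by
  show MulAut.conj g • sSup (HH A) ≤ sSup (HH (MulAut.conj g • A))
  rw [Subgroup.pointwise_smul_subset_iff, sSup_le_iff]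
  intro H hH
  rw [← Subgroup.pointwise_smul_subset_iff]
  exact le_sSup (HH_smul hH g)

theorem Y_smul (A : Subgroup G) (g : G) : Y (MulAut.conj g • A) = MulAut.conj g • Y A := by
  apply le_antisymm
  · have h := Y_smul_le (MulAut.conj g • A) g⁻¹
    rw [conj_smul_smul, inv_mul_cancel, map_one, one_smul] at h
    rw [Subgroup.subset_pointwise_smul_iff, ← map_inv]
    exact h
  · exact Y_smul_le A g

theorem isCoatom_smul {M : Subgroup G} (h : IsCoatom M) (g : G) : IsCoatom (MulAut.conj g • M) := by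
  refine ⟨smul_ne_top h.1 g, fun b hb => ?_⟩
  have h1 : M < (MulAut.conj g)⁻¹ • b := by
    refine lt_of_le_of_ne (Subgroup.pointwise_smul_subset_iff.1 hb.le) ?_
    intro e
    apply hb.ne
    rw [e, smul_inv_smul]
  have h2 := h.2 _ h1
  by_contra hbt
  have := smul_ne_top hbt g⁻¹
  rw [map_inv] at this
  exact this h2

theorem card_smul_eq (g : G) (B : Subgroup G) :
    Nat.card (MulAut.conj g • B : Subgroup G) = Nat.card B :=
  (Nat.card_congr (Subgroup.equivSMul (MulAut.conj g) B).toEquiv).symm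

/-! ### The main induction -/

theorem main_aux [Finite G] : ∀ (n : ℕ) (A : Subgroup G), Nat.card G - Nat.card A = n →
    (∀ N : Subgroup G, N.Normal → A ≤ N → N = ⊤) → A ≠ ⊤ →
    Y A = ⊤ ∨ ∃! M : Subgroup G, IsCoatom M ∧ A ≤ M := by
  intro n
  induction n using Nat.strong_induction_on with
  | _ n ih =>
  intro A hn hgenA hAtop
  by_contra hcon
  push Not at hcon
  obtain ⟨hYA, hnu⟩ := hcon
  have IH : ∀ B : Subgroup G, Nat.card A < Nat.card B →
      (∀ N : Subgroup G, N.Normal → B ≤ N → N = ⊤) → B ≠ ⊤ →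
      Y B = ⊤ ∨ ∃! M : Subgroup G, IsCoatom M ∧ B ≤ M := by
    intro B hcard hgenB hBtop
    refine ih (Nat.card G - Nat.card B) ?_ B rfl hgenB hBtop
    have := Subgroup.card_le_card_group B
    omega
  let Good : Subgroup G → Prop := fun B =>
    Nat.card B = Nat.card A ∧ (∀ N : Subgroup G, N.Normal → B ≤ N → N = ⊤) ∧ B ≠ ⊤ ∧ Y B ≠ ⊤
  have hGoodA : Good A := ⟨rfl, hgenA, hAtop, hYA⟩
  have hGood_smul : ∀ B, Good B → ∀ g : G, Good (MulAut.conj g • B) := by
    intro B hB g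
    refine ⟨(card_smul_eq g B).trans hB.1, ?_, smul_ne_top hB.2.2.1 g, ?_⟩
    · intro N hN hBN
      refine hB.2.1 N hN ?_
      intro b hb
      have h1 : MulAut.conj g • b ∈ N := hBN (Subgroup.smul_mem_pointwise_smul _ _ _ hb)
      have h2 := hN.conj_mem _ h1 g⁻¹
      rw [MulAut.smul_def, MulAut.conj_apply] at h2
      have e : g⁻¹ * (g * b * g⁻¹) * g⁻¹⁻¹ = b := by group
      rwa [e] at h2
    · rw [Y_smul]
      exact smul_ne_top hB.2.2.2 g
  have hsp_ex : ∀ B, Good B → ∃ M : Subgroup G, IsCoatom M ∧ Y B ≤ M ∧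
      ∀ V : Subgroup G, Y B ≤ V → V ≠ ⊤ → V ≤ M :=
    fun B hB => exists_special hB.2.1 hB.2.2.1 hB.2.2.2
  classical
  let sp : Subgroup G → Subgroup G := fun B =>
    if h : Good B then Classical.choose (hsp_ex B h) else ⊥
  have hsp : ∀ B, Good B → IsCoatom (sp B) ∧ Y B ≤ sp B ∧
      ∀ V : Subgroup G, Y B ≤ V → V ≠ ⊤ → V ≤ sp B := by
    intro B h
    simp only [sp, dif_pos h]
    exact Classical.choose_spec (hsp_ex B h)
  -- (P1)
  have hsn : ∀ B, Good B → ∀ K : Subgroup G, IsCoatom K → B ≤ K → K ≠ sp B → RelSN B K := by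
    intro B hB K hK hBK hne
    obtain ⟨U, hBU, hUK, hgenU⟩ := exists_snClosure hBK
    by_cases hUB : U = B
    · exact hUB ▸ hUK
    · exfalso
      have hlt : B < U := lt_of_le_of_ne hBU (Ne.symm hUB)
      have hcard : Nat.card A < Nat.card U := by
        rw [← hB.1]; exact card_lt_of_lt hlt
      have hUtop : U ≠ ⊤ := fun e => hK.1 (top_le_iff.1 (e ▸ hUK.le))
      have hUgen : ∀ N : Subgroup G, N.Normal → U ≤ N → N = ⊤ :=
        fun N hN hUN => hB.2.1 N hN (hBU.trans hUN)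
      have hUY : U ≤ Y B := le_sSup ⟨hBU, hUtop, hgenU⟩
      have hYU : Y U ≤ Y B := sSup_le fun H hH =>
        le_sSup ⟨hBU.trans hH.1, hH.2.1, Gen.trans hBU hgenU hH.1 hH.2.2⟩
      rcases IH U hcard hUgen hUtop with h1 | ⟨M, -, hMuniq⟩
      · exact hB.2.2.2 (top_le_iff.1 (h1 ▸ hYU))
      · have e1 : K = M := hMuniq K ⟨hK, hUK.le⟩
        have e2 : sp B = M := hMuniq (sp B) ⟨(hsp B hB).1, hUY.trans (hsp B hB).2.1⟩
        exact hne (e1.trans e2.symm)
  -- (UU)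
  have huu : ∀ B₁, Good B₁ → ∀ B₂, Good B₂ → B₁ ≠ B₂ → ∀ K₁ K₂ : Subgroup G, IsCoatom K₁ →
      IsCoatom K₂ → K₁ ≠ K₂ → B₁ ≤ K₁ → B₂ ≤ K₁ → B₁ ≤ K₂ → B₂ ≤ K₂ →
      sp B₁ ≠ sp B₂ ∧ B₁ ≤ sp B₂ ∧ B₂ ≤ sp B₁ := by
    intro B₁ hB₁ B₂ hB₂ hne K₁ K₂ hK₁ hK₂ hK h11 h21 h12 h22
    have hJK₁ : B₁ ⊔ B₂ ≤ K₁ := sup_le h11 h21
    have hJK₂ : B₁ ⊔ B₂ ≤ K₂ := sup_le h12 h22
    have hlt : B₁ < B₁ ⊔ B₂ := by
      refine lt_of_le_of_ne le_sup_left (fun e => hne ?_)
      have hle : B₂ ≤ B₁ := e ▸ le_sup_right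
      exact (Subgroup.eq_of_le_of_card_ge hle (by rw [hB₁.1, hB₂.1])).symm
    have hcard : Nat.card A < Nat.card (B₁ ⊔ B₂ : Subgroup G) := by
      rw [← hB₁.1]; exact card_lt_of_lt hlt
    have hJtop : B₁ ⊔ B₂ ≠ ⊤ := fun e => hK₁.1 (top_le_iff.1 (e ▸ hJK₁))
    have hJgen : ∀ N : Subgroup G, N.Normal → B₁ ⊔ B₂ ≤ N → N = ⊤ :=
      fun N hN hJN => hB₁.2.1 N hN (le_sup_left.trans hJN)
    rcases IH _ hcard hJgen hJtop with h1 | ⟨M, -, hMuniq⟩
    swap
    · exact absurd ((hMuniq K₁ ⟨hK₁, hJK₁⟩).trans (hMuniq K₂ ⟨hK₂, hJK₂⟩).symm) hK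
    have key : ∀ H ∈ HH (B₁ ⊔ B₂), H = B₁ ⊔ B₂ ∨ H ≤ sp B₁ ∨ H ≤ sp B₂ := by
      intro H hH
      rcases eq_top_or_exists_le_coatom H with e | ⟨K', hK', hHK'⟩
      · exact absurd e hH.2.1
      by_cases e1 : K' = sp B₁
      · exact Or.inr (Or.inl (e1 ▸ hHK'))
      by_cases e2 : K' = sp B₂
      · exact Or.inr (Or.inr (e2 ▸ hHK'))
      left
      have s1 : RelSN B₁ K' := hsn B₁ hB₁ K' hK' (le_sup_left.trans (hH.1.trans hHK')) e1
      have s2 : RelSN B₂ K' := hsn B₂ hB₂ K' hK' (le_sup_right.trans (hH.1.trans hHK')) e2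
      have sJH : RelSN (B₁ ⊔ B₂) H := (s1.sup s2).mono hH.1 hHK'
      exact (hH.2.2.eq_of_relSN le_rfl sJH).symm
    have hbound : ∀ X : Subgroup G, X ≠ ⊤ → (∀ H ∈ HH (B₁ ⊔ B₂), H ≤ X) → False := by
      intro X hX hall
      have : Y (B₁ ⊔ B₂) ≤ X := sSup_le hall
      rw [h1] at this
      exact hX (top_le_iff.1 this)
    by_contra hcon
    by_cases c1 : B₁ ⊔ B₂ ≤ sp B₁
    · by_cases c2 : B₁ ⊔ B₂ ≤ sp B₂
      · have heq : sp B₁ = sp B₂ := by
          by_contra hne'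
          exact hcon ⟨hne', le_sup_left.trans c2, le_sup_right.trans c1⟩
        refine hbound (sp B₁) (hsp B₁ hB₁).1.1 fun H hH => ?_
        rcases key H hH with e | e | e
        · exact e ▸ c1
        · exact e
        · exact heq ▸ e
      · refine hbound (sp B₁) (hsp B₁ hB₁).1.1 fun H hH => ?_
        rcases key H hH with e | e | e
        · exact e ▸ c1
        · exact e
        · exact absurd (hH.1.trans e) c2
    · by_cases c2 : B₁ ⊔ B₂ ≤ sp B₂
      · refine hbound (sp B₂) (hsp B₂ hB₂).1.1 fun H hH => ?_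
        rcases key H hH with e | e | e
        · exact e ▸ c2
        · exact absurd (hH.1.trans e) c1
        · exact e
      · refine hbound (B₁ ⊔ B₂) hJtop fun H hH => ?_
        rcases key H hH with e | e | e
        · exact e.le
        · exact absurd (hH.1.trans e) c1
        · exact absurd (hH.1.trans e) c2
  -- the context
  let c : Ctx G :=
    { C := {B | Good B}
      sp := sp
      conj_mem := fun B hB g => hGood_smul B hB g
      sp_smul := by
        intro B hB g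
        have hB' := hGood_smul B hB g
        have h1 : IsCoatom (MulAut.conj g • sp B) := isCoatom_smul (hsp B hB).1 g
        have h2 : Y (MulAut.conj g • B) ≤ MulAut.conj g • sp B := by
          rw [Y_smul]
          exact Subgroup.pointwise_smul_le_pointwise_smul_iff.2 (hsp B hB).2.1
        have h3 := (hsp _ hB').2.2 _ h2 h1.1
        exact (coatom_eq_of_le h1 (hsp _ hB').1.1 h3).symm
      sp_coatom := fun B hB => (hsp B hB).1
      norm_le := by
        intro B hB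
        have hNY : Subgroup.normalizer (B : Set G) ≤ Subgroup.normalizer ((Y B : Subgroup G) : Set G) := by
          intro g hg
          apply mem_normalizer_of_conj_smul_eq
          rw [← Y_smul, conj_smul_eq_of_mem_normalizer hg]
        have hne : Subgroup.normalizer ((Y B : Subgroup G) : Set G) ≠ ⊤ := by
          intro e
          have hn : (Y B).Normal := Subgroup.normalizer_eq_top_iff.1 e
          exact hB.2.2.2 (hB.2.1 _ hn (le_Y hB.2.2.1))
        exact hNY.trans ((hsp B hB).2.2 _ Subgroup.le_normalizer hne)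
      sn := hsn
      uu := huu
      gen := fun B hB => hB.2.1 }
  have hA : A ∈ c.C := hGoodA
  exact hnu ⟨sp A, ⟨(hsp A hGoodA).1, (le_Y hAtop).trans (hsp A hGoodA).2.1⟩,
    fun K hK => c.eq_sp hA hK.1 hK.2⟩

theorem main [Finite G] (A : Subgroup G) (hgen : ∀ N : Subgroup G, N.Normal → A ≤ N → N = ⊤)
    (hA : A ≠ ⊤) : Y A = ⊤ ∨ ∃! M : Subgroup G, IsCoatom M ∧ A ≤ M :=
  main_aux _ A rfl hgen hA

end Cfsg.Agent.Helper35.Flavell
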