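import Mathlib
import Cfsg.Agent.Helper43.G2Abs

/-!
# Piece (G2-D2) of helper43's S4632 plan: a Sylow 2-subgroup with `P / P'` elementary abelian in a
group with an element of order four is not commutative.
-/

set_option autoImplicit false

namespace Cfsg.Agent.Helper35.G2S

open Cfsg.Agent.Helper43.G2S Cfsg.Agent.Helper42

variable {S : Type*} [Group S] [Finite S]

/-- (G2-D2) -/
theorem sylow_noncomm (ζ : S) (hζ1 : ζ ≠ 1) (hζ2 : ζ * ζ = 1) (h4 : ∃ y : S, y * y = ζ)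
    (hEA : ∀ Q : Sylow 2 S, EA 2 (Q : Subgroup S)) (Q : Sylow 2 S) :
    ∃ a ∈ Q, ∃ b ∈ Q, a * b ≠ b * a := by
  by_contra hcon
  push Not at hcon
  obtain ⟨y, hy⟩ := h4
  have hy4 : y ^ 2 ^ 2 = 1 := by
    have : y ^ 2 ^ 2 = (y * y) * (y * y) := by
      norm_num [pow_succ, mul_assoc]
    rw [this, hy, hζ2]
  have hyp : IsPGroup 2 (Subgroup.zpowers y) := by
    obtain ⟨k, -, hk⟩ := (Nat.dvd_prime_pow Nat.prime_two).mp (orderOf_dvd_of_pow_eq_one hy4)
    refine IsPGroup.of_card (n := k) ?_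
    rw [Nat.card_zpowers, hk]
  obtain ⟨Q', hQ'⟩ := hyp.exists_le_sylow
  obtain ⟨g, hg⟩ := MulAction.exists_smul_eq S Q' Q
  have hyQ' : y ∈ (Q' : Subgroup S) := hQ' (Subgroup.mem_zpowers y)
  have hw : g * y * g⁻¹ ∈ (Q : Subgroup S) := by
    rw [← hg, Sylow.coe_subgroup_smul]
    have := Subgroup.smul_mem_pointwise_smul y (MulAut.conj g) (Q' : Subgroup S) hyQ'
    simpa [MulAut.smul_def] using this
  have hbot : commutator ↥(Q : Subgroup S) = ⊥ := by
    rw [eq_bot_iff, commutator_def, Subgroup.commutator_le]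
    intro a _ b _
    rw [Subgroup.mem_bot, commutatorElement_eq_one_iff_commute]
    exact Subtype.ext (hcon a a.2 b b.2)
  have h1 := hEA Q ⟨g * y * g⁻¹, hw⟩
  rw [hbot, Subgroup.mem_bot] at h1
  have h2 : (g * y * g⁻¹) ^ 2 = 1 := by
    have := congrArg Subtype.val h1
    simpa using this
  have h3 : (g * y * g⁻¹) ^ 2 = g * ζ * g⁻¹ := by
    rw [← hy, pow_two]; group
  rw [h3] at h2
  apply hζ1
  have : ζ = g⁻¹ * (g * ζ * g⁻¹) * g := by group
  rw [this, h2]; group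

end Cfsg.Agent.Helper35.G2S
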