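import Mathlib
import Cfsg.Agent.Helper43.G2Abs

/-!
# Piece (G2-D4) of helper43's S4632 plan: the candidate Sylow subgroup `P = m(Q₁ × Q₂).⟨t⟩` has
`P / P'` of exponent two when `Q₁`, `Q₂` have.
-/

set_option autoImplicit false
set_option linter.unusedSectionVars false

namespace Cfsg.Agent.Helper35.G2S

open Cfsg.Agent.Helper43.G2S Cfsg.Agent.Helper42
open scoped commutatorElement

variable {G S : Type*} [Group G] [Group S] [Finite G] [Finite S]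

/-- squares of the elements `m (s₁, s₂)` lie in the commutator subgroup of `P` -/
theorem cand_sq_mem (m : S × S →* G) (t z0 : G)
    (hEA : ∀ Q : Sylow 2 S, EA 2 (Q : Subgroup S))
    (P : Subgroup G) (Q₁ Q₂ : Sylow 2 S) (h : IsCand m t z0 P Q₁ Q₂)
    (s₁ s₂ : S) (hs₁ : s₁ ∈ Q₁) (hs₂ : s₂ ∈ Q₂) :
    (⟨m (s₁, s₂), h.m_mem s₁ hs₁ s₂ hs₂⟩ : ↥P) ^ 2 ∈ commutator ↥P := by
  let f₁ : ↥(Q₁ : Subgroup S) →* ↥P :=
    { toFun := fun s => ⟨m (s.1, 1), h.m_mem s.1 s.2 1 (Subgroup.one_mem _)⟩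
      map_one' := Subtype.ext (by
        show m (1, 1) = 1
        exact map_one m)
      map_mul' := fun a b => Subtype.ext (by
        show m ((a * b : ↥(Q₁ : Subgroup S)).1, 1) = m (a.1, 1) * m (b.1, 1)
        rw [← map_mul, Prod.mk_mul_mk, mul_one, Subgroup.coe_mul]) }
  let f₂ : ↥(Q₂ : Subgroup S) →* ↥P :=
    { toFun := fun s => ⟨m (1, s.1), h.m_mem 1 (Subgroup.one_mem _) s.1 s.2⟩
      map_one' := Subtype.ext (by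
        show m (1, 1) = 1
        exact map_one m)
      map_mul' := fun a b => Subtype.ext (by
        show m (1, (a * b : ↥(Q₂ : Subgroup S)).1) = m (1, a.1) * m (1, b.1)
        rw [← map_mul, Prod.mk_mul_mk, mul_one, Subgroup.coe_mul]) }
  have h1 : f₁ ((⟨s₁, hs₁⟩ : ↥(Q₁ : Subgroup S)) ^ 2) ∈ commutator ↥P :=
    map_commutator_le f₁ ⟨_, hEA Q₁ ⟨s₁, hs₁⟩, rfl⟩
  have h2 : f₂ ((⟨s₂, hs₂⟩ : ↥(Q₂ : Subgroup S)) ^ 2) ∈ commutator ↥P :=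
    map_commutator_le f₂ ⟨_, hEA Q₂ ⟨s₂, hs₂⟩, rfl⟩
  have h3 := Subgroup.mul_mem _ h1 h2
  have e : f₁ ((⟨s₁, hs₁⟩ : ↥(Q₁ : Subgroup S)) ^ 2) * f₂ ((⟨s₂, hs₂⟩ : ↥(Q₂ : Subgroup S)) ^ 2)
      = (⟨m (s₁, s₂), h.m_mem s₁ hs₁ s₂ hs₂⟩ : ↥P) ^ 2 := by
    apply Subtype.ext
    show m (((⟨s₁, hs₁⟩ : ↥(Q₁ : Subgroup S)) ^ 2 : ↥(Q₁ : Subgroup S)).1, 1) *
        m (1, ((⟨s₂, hs₂⟩ : ↥(Q₂ : Subgroup S)) ^ 2 : ↥(Q₂ : Subgroup S)).1) = m (s₁, s₂) ^ 2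
    rw [← map_mul, ← map_pow, Prod.mk_mul_mk, mul_one, one_mul, Subgroup.coe_pow,
      Subgroup.coe_pow, Prod.pow_mk]
  rw [← e]
  exact h3

/-- (G2-D4) -/
theorem cand_EA (m : S × S →* G) (t z0 : G) (ht2 : t * t = 1)
    (hEA : ∀ Q : Sylow 2 S, EA 2 (Q : Subgroup S))
    (P : Subgroup G) (Q₁ Q₂ : Sylow 2 S) (h : IsCand m t z0 P Q₁ Q₂) : EA 2 P := by
  intro x
  obtain ⟨s₁, hs₁, s₂, hs₂, hx | hx⟩ := h.cases x.1 x.2
  · have hx' : x = ⟨m (s₁, s₂), h.m_mem s₁ hs₁ s₂ hs₂⟩ := Subtype.ext hx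
    rw [hx']
    exact cand_sq_mem m t z0 hEA P Q₁ Q₂ h s₁ s₂ hs₁ hs₂
  · set tP : ↥P := ⟨t, h.t_mem⟩ with htP
    set rP : ↥P := ⟨m (s₁, s₂), h.m_mem s₁ hs₁ s₂ hs₂⟩ with hrP
    have hx' : x = tP * rP := Subtype.ext hx
    have htinv : tP⁻¹ = tP := by
      rw [inv_eq_iff_mul_eq_one]
      exact Subtype.ext ht2
    have e : (tP * rP) ^ 2 = ⁅tP, rP⁆ * rP ^ 2 := by
      rw [commutatorElement_def, htinv, pow_two, pow_two]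
      group
    rw [hx', e]
    refine Subgroup.mul_mem _ ?_ (cand_sq_mem m t z0 hEA P Q₁ Q₂ h s₁ s₂ hs₁ hs₂)
    rw [commutator_def]
    exact Subgroup.commutator_mem_commutator (Subgroup.mem_top _) (Subgroup.mem_top _)

end Cfsg.Agent.Helper35.G2S
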