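/-
helper35: counting lemmas towards P. Hall's theorem on the number of Hall subgroups
of a finite solvable group (S4214).
-/
import Mathlib
import Cfsg.Agent.Lib.Hall
import Cfsg.Agent.S0536

set_option autoImplicit false
open Pointwise

namespace Cfsg.Agent.Helper35

universe u v

open MulAction

/-- Fixed points of `H ⧸ K` on the `K`-fixed points are the `H`-fixed points. -/
theorem card_fixedPoints_quotient {H : Type*} [Group H] {A : Type*} [MulAction H A]
    (K : Subgroup H) [K.Normal] :
    Nat.card (fixedPoints (H ⧸ K) (fixedPoints K A)) = Nat.card (fixedPoints H A) := by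
  refine Nat.card_congr ⟨fun x => ⟨x.1.1, fun h => ?_⟩, fun x => ⟨⟨x.1, fun k => x.2 k.1⟩, fun q => ?_⟩,
    fun x => rfl, fun x => rfl⟩
  · have := x.2 (h : H ⧸ K)
    exact congrArg Subtype.val this
  · induction q using QuotientGroup.induction_on with
    | H h => exact Subtype.ext (x.2 h)

/-- Coprime-type counting: a finite solvable group `H` acting by automorphisms on a finite group
`A` of coprime order: `|A| = |A^H| * ∏ l` where each factor divides `|A|` and is `≡ 1` modulo a
prime divisor of `|H|`. -/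
theorem card_eq_card_fixed_mul_prod : ∀ (k : ℕ) (H : Type u) [Group H] [Finite H] [Group.IsSolvable H]
    (A : Type v) [Group A] [Finite A] [MulDistribMulAction H A], Nat.card H = k →
    (Nat.card H).Coprime (Nat.card A) →
    ∃ l : List ℕ, Nat.card A = Nat.card (fixedPoints H A) * l.prod ∧
      ∀ x ∈ l, x ∣ Nat.card A ∧ ∃ q : ℕ, q.Prime ∧ q ∣ Nat.card H ∧ x ≡ 1 [MOD q] := by
  intro k
  induction k using Nat.strong_induction_on with
  | _ k ih =>
  intro H _ _ _ A _ _ _ hk hcop
  by_cases hsub : Subsingleton H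
  · refine ⟨[], ?_, by simp⟩
    have : fixedPoints H A = Set.univ := by
      ext a
      simp only [mem_fixedPoints, Set.mem_univ, iff_true]
      intro h
      rw [Subsingleton.elim h 1, one_smul]
    rw [this, Nat.card_coe_set_eq, Set.ncard_univ]
    simp
  · have hnt : Nontrivial H := not_subsingleton_iff_nontrivial.mp hsub
    obtain ⟨K, hKn, hKq⟩ := Cfsg.Agent.S0536.exists_normal_prime_index (G := H)
    set q := K.index with hq
    have : Fact q.Prime := ⟨hKq⟩
    have hKcard : Nat.card K * q = Nat.card H := K.card_mul_index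
    have hKlt : Nat.card K < k := by
      rw [← hk, ← hKcard]
      have := hKq.two_le
      have : 0 < Nat.card K := Nat.card_pos
      nlinarith
    have hKcop : (Nat.card K).Coprime (Nat.card A) :=
      Nat.Coprime.coprime_dvd_left ⟨q, hKcard.symm⟩ hcop
    obtain ⟨l₁, hl₁, hl₁'⟩ := ih _ hKlt K A rfl hKcop
    -- the quotient acts on the `K`-fixed points
    have hQ : IsPGroup q (H ⧸ K) := by
      apply IsPGroup.of_card (n := 1)
      rw [pow_one, ← Subgroup.index_eq_card]
    have hmod := hQ.card_modEq_card_fixedPoints (fixedPoints K A)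
    rw [card_fixedPoints_quotient] at hmod
    -- `A^H ≤ A^K`
    have hle : FixedPoints.subgroup H A ≤ FixedPoints.subgroup K A := by
      intro a ha k
      exact ha k.1
    have hdvd : Nat.card (fixedPoints H A) ∣ Nat.card (fixedPoints K A) :=
      Subgroup.card_dvd_of_le hle
    obtain ⟨t, ht⟩ := hdvd
    have hBdvd : Nat.card (fixedPoints K A) ∣ Nat.card A :=
      Subgroup.card_subgroup_dvd_card (FixedPoints.subgroup K A)
    have hCdvd : Nat.card (fixedPoints H A) ∣ Nat.card A :=
      Subgroup.card_subgroup_dvd_card (FixedPoints.subgroup H A)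
    have hqH : q ∣ Nat.card H := ⟨Nat.card K, by rw [← hKcard]; ring⟩
    have hqC : (Nat.card (fixedPoints H A)).Coprime q := by
      have h1 : (Nat.card A).Coprime q :=
        (Nat.Coprime.coprime_dvd_left hqH hcop).symm
      exact Nat.Coprime.coprime_dvd_left hCdvd h1
    have htmod : t ≡ 1 [MOD q] := by
      rw [ht] at hmod
      have h2 : Nat.card (fixedPoints H A) * t ≡ Nat.card (fixedPoints H A) * 1 [MOD q] := by
        rw [mul_one]; exact hmod
      exact Nat.ModEq.cancel_left_of_coprime (by rw [Nat.gcd_comm]; exact hqC) h2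
    refine ⟨t :: l₁, ?_, ?_⟩
    · rw [List.prod_cons, hl₁, ht]; ring
    · intro x hx
      rcases List.mem_cons.mp hx with rfl | hx
      · refine ⟨?_, q, hKq, hqH, htmod⟩
        exact Dvd.dvd.trans ⟨Nat.card (fixedPoints H A), by rw [ht]; ring⟩ hBdvd
      · obtain ⟨h1, q', hq', hq'K, hxq'⟩ := hl₁' x hx
        exact ⟨h1, q', hq', Dvd.dvd.trans hq'K ⟨q, hKcard.symm⟩, hxq'⟩


/-- The conditions on a factor in P. Hall's theorem on the number of Hall subgroups. -/
def HallGood (G : Type*) [Group G] (m x : ℕ) : Prop :=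
  (∃ q e : ℕ, q.Prime ∧ x = q ^ e) ∧
  (∃ K L : Subgroup G, K.Normal ∧ L.Normal ∧ K < L ∧
    (∀ M : Subgroup G, M.Normal → K ≤ M → M ≤ L → M = K ∨ M = L) ∧ x ∣ K.relIndex L) ∧
  (∃ q : ℕ, q.Prime ∧ q ∣ m ∧ x ≡ 1 [MOD q])

/-- Factors good for a quotient are good for the group. -/
theorem HallGood.of_quotient {G : Type*} [Group G] (N : Subgroup G) [N.Normal] {m' m x : ℕ}
    (h : HallGood (G ⧸ N) m' x) (hm : m' ∣ m) : HallGood G m x := by
  obtain ⟨h1, ⟨K, L, hK, hL, hKL, hmax, hdvd⟩, q, hq, hqm, hx⟩ := h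
  have hsurj : Function.Surjective (QuotientGroup.mk' N) := QuotientGroup.mk'_surjective N
  refine ⟨h1, ⟨K.comap (QuotientGroup.mk' N), L.comap (QuotientGroup.mk' N), hK.comap _, hL.comap _,
    ?_, ?_, ?_⟩, q, hq, hqm.trans hm, hx⟩
  · exact (Subgroup.comap_lt_comap_of_surjective hsurj).mpr hKL
  · intro M hM hKM hML
    have hker : (QuotientGroup.mk' N).ker ≤ M := by
      refine le_trans ?_ hKM
      intro x hx
      rw [Subgroup.mem_comap, (MonoidHom.mem_ker).mp hx]
      exact K.one_mem
    have hMn : (M.map (QuotientGroup.mk' N)).Normal := hM.map _ hsurj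
    have h1 : K ≤ M.map (QuotientGroup.mk' N) := by
      rw [← Subgroup.map_comap_eq_self_of_surjective hsurj K]
      exact Subgroup.map_mono hKM
    have h2 : M.map (QuotientGroup.mk' N) ≤ L := Subgroup.map_le_iff_le_comap.mpr hML
    have hMeq : M = (M.map (QuotientGroup.mk' N)).comap (QuotientGroup.mk' N) :=
      (Subgroup.comap_map_eq_self hker).symm
    rcases hmax _ hMn h1 h2 with h | h
    · left; rw [hMeq, h]
    · right; rw [hMeq, h]
  · rw [Subgroup.relIndex_comap, Subgroup.map_comap_eq_self_of_surjective hsurj]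
    exact hdvd

/-- If a normal subgroup `N` lies in every subgroup of order `m = |N| * m'`, then subgroups of
order `m` of `G` correspond to subgroups of order `m'` of `G ⧸ N`. -/
theorem card_subgroups_eq_of_le {G : Type*} [Group G] [Finite G] (N : Subgroup G) [N.Normal]
    {m m' : ℕ} (hm : m = Nat.card N * m') (hN : ∀ H : Subgroup G, Nat.card H = m → N ≤ H) :
    Nat.card {H : Subgroup G // Nat.card H = m} =
      Nat.card {H : Subgroup (G ⧸ N) // Nat.card H = m'} := by
  have hsurj : Function.Surjective (QuotientGroup.mk' N) := QuotientGroup.mk'_surjective N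
  have hNpos : 0 < Nat.card N := Nat.card_pos
  refine Nat.card_congr ⟨fun H => ⟨H.1.map (QuotientGroup.mk' N), ?_⟩,
    fun H => ⟨H.1.comap (QuotientGroup.mk' N), ?_⟩, fun H => ?_, fun H => ?_⟩
  · have h1 := Cfsg.Agent.Lib.card_comap_mk' N (H.1.map (QuotientGroup.mk' N))
    have h2 : (H.1.map (QuotientGroup.mk' N)).comap (QuotientGroup.mk' N) = H.1 := by
      apply Subgroup.comap_map_eq_self
      rw [QuotientGroup.ker_mk']
      exact hN H.1 H.2
    rw [h2, H.2] at h1
    exact Nat.eq_of_mul_eq_mul_left hNpos (h1.symm.trans hm)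
  · rw [Cfsg.Agent.Lib.card_comap_mk', H.2, hm]
  · apply Subtype.ext
    apply Subgroup.comap_map_eq_self
    rw [QuotientGroup.ker_mk']
    exact hN H.1 H.2
  · apply Subtype.ext
    exact Subgroup.map_comap_eq_self_of_surjective hsurj H.1


section Case2

variable {G : Type*} [Group G]

/-- image of a conjugate subgroup in a quotient -/
theorem map_mk'_conj_smul (N : Subgroup G) [N.Normal] (g : G) (H : Subgroup G) :
    (MulAut.conj g • H).map (QuotientGroup.mk' N) =
      MulAut.conj (QuotientGroup.mk' N g) • H.map (QuotientGroup.mk' N) := by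
  ext x
  constructor
  · rintro ⟨y, hy, rfl⟩
    rw [SetLike.mem_coe, Subgroup.mem_pointwise_smul_iff_inv_smul_mem] at hy
    rw [Subgroup.mem_pointwise_smul_iff_inv_smul_mem]
    refine ⟨(MulAut.conj g)⁻¹ • y, hy, ?_⟩
    simp [MulAut.smul_def]
  · intro hx
    rw [Subgroup.mem_pointwise_smul_iff_inv_smul_mem] at hx
    obtain ⟨h, hh, hx⟩ := hx
    refine ⟨g * h * g⁻¹, ?_, ?_⟩
    · rw [SetLike.mem_coe, Subgroup.mem_pointwise_smul_iff_inv_smul_mem]
      simpa [MulAut.smul_def, MulAut.conj_inv_apply, mul_assoc] using hh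
    · rw [map_mul, map_mul, hx]
      simp [MulAut.smul_def, mul_assoc]

/-- conjugating by an element of `N` does not change the image in `G ⧸ N`. -/
theorem map_mk'_conj_smul_of_mem (N : Subgroup G) [N.Normal] {a : G} (ha : a ∈ N) (H : Subgroup G) :
    (MulAut.conj a • H).map (QuotientGroup.mk' N) = H.map (QuotientGroup.mk' N) := by
  rw [map_mk'_conj_smul]
  have : QuotientGroup.mk' N a = 1 := (QuotientGroup.eq_one_iff a).mpr ha
  rw [this, map_one, one_smul]

/-- The conjugation action of a subgroup on a normal subgroup. -/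
@[reducible] def conjActNormal (N : Subgroup G) [N.Normal] (H : Subgroup G) : MulDistribMulAction H N :=
  MulDistribMulAction.compHom N ((MulAut.conjNormal (H := N)).comp H.subtype)

/-- The conjugation action of a subgroup on the lattice of subgroups. -/
@[reducible] def conjActSubgroups (N : Subgroup G) : MulAction N (Subgroup G) :=
  MulAction.compHom (Subgroup G) ((MulAut.conj (G := G)).comp N.subtype)

variable [Finite G]

/-- Subgroups with the same image as `H₀` modulo the abelian normal subgroup `N` of coprime order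
are the `N`-conjugates of `H₀`. -/
theorem exists_conj_of_map_eq (N : Subgroup G) [N.Normal] [IsMulCommutative N] {m : ℕ}
    (hcop : m.Coprime (Nat.card N)) (H₀ H : Subgroup G) (hH₀ : Nat.card H₀ = m) (hH : Nat.card H = m)
    (hmap : H.map (QuotientGroup.mk' N) = H₀.map (QuotientGroup.mk' N)) :
    ∃ a ∈ N, MulAut.conj a • H₀ = H := by
  have hle : H ≤ H₀ ⊔ N := by
    have h1 : H ≤ (H.map (QuotientGroup.mk' N)).comap (QuotientGroup.mk' N) := Subgroup.le_comap_map _ _
    rw [hmap, Subgroup.comap_map_eq, QuotientGroup.ker_mk'] at h1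
    exact h1
  have hHN : H₀ ⊓ N = ⊥ := (Subgroup.disjoint_of_coprime_natCard (by rw [hH₀]; exact hcop)).eq_bot
  obtain ⟨a, ha, hle'⟩ := Cfsg.Agent.Lib.exists_conj_le_of_abelian_normal N H₀ H hle hHN
    (by rw [hH]; exact hcop)
  refine ⟨a, ha, ?_⟩
  have hcard : Nat.card (MulAut.conj a • H₀ : Subgroup G) = Nat.card H := by
    rw [Cfsg.Agent.Lib.card_conj_smul, hH₀, hH]
  exact (Subgroup.eq_of_le_of_card_ge hle' hcard.le).symm


/-- Orbit-stabiliser count of a fibre of `H ↦ HN/N`. -/
theorem card_fiber_mul_card_fixedPoints (N : Subgroup G) [N.Normal] [IsMulCommutative N] {m : ℕ}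
    (hcop : m.Coprime (Nat.card N)) (H₀ : Subgroup G) (hH₀ : Nat.card H₀ = m) :
    Nat.card {H : {H : Subgroup G // Nat.card H = m} //
        H.1.map (QuotientGroup.mk' N) = H₀.map (QuotientGroup.mk' N)} *
      Nat.card (@fixedPoints H₀ N _ (conjActNormal N H₀).toMulAction) = Nat.card N := by
  let _ : MulAction N (Subgroup G) := conjActSubgroups N
  let _ : MulDistribMulAction H₀ N := conjActNormal N H₀
  have hHN : H₀ ⊓ N = ⊥ :=
    (Subgroup.disjoint_of_coprime_natCard (by rw [hH₀]; exact hcop)).eq_bot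
  have hsmul : ∀ (a : N) (H : Subgroup G), a • H = MulAut.conj (a : G) • H := fun a H => rfl
  have hact : ∀ (h : H₀) (a : N), ((h • a : N) : G) = (h : G) * a * (h : G)⁻¹ := fun h a => rfl
  have h : Nat.card (stabilizer N H₀) * (orbit N H₀).ncard = Nat.card N := by
    rw [← index_stabilizer, Subgroup.card_mul_index]
  have h1 : (orbit N H₀).ncard = Nat.card {H : {H : Subgroup G // Nat.card H = m} //
        H.1.map (QuotientGroup.mk' N) = H₀.map (QuotientGroup.mk' N)} := by
    rw [← Nat.card_coe_set_eq]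
    refine Nat.card_congr ⟨fun H => ⟨⟨H.1, ?_⟩, ?_⟩, fun H => ⟨H.1.1, ?_⟩, fun H => rfl, fun H => rfl⟩
    · obtain ⟨a, ha⟩ := H.2
      rw [← ha]
      change Nat.card (MulAut.conj (a : G) • H₀ : Subgroup G) = m
      rw [Cfsg.Agent.Lib.card_conj_smul, hH₀]
    · obtain ⟨a, ha⟩ := H.2
      change H.1.map (QuotientGroup.mk' N) = _
      rw [← ha]
      exact map_mk'_conj_smul_of_mem N a.2 H₀
    · obtain ⟨a, ha, hHa⟩ := exists_conj_of_map_eq N hcop H₀ H.1.1 hH₀ H.1.2 H.2
      exact ⟨⟨a, ha⟩, hHa⟩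
  have h2 : Nat.card (stabilizer N H₀) = Nat.card (fixedPoints H₀ N) := by
    refine Nat.card_congr (Equiv.subtypeEquivRight fun a => ?_)
    rw [mem_stabilizer_iff, hsmul, mem_fixedPoints]
    constructor
    · intro ha h
      apply Subtype.ext
      rw [hact]
      have h3 : (a : G) * (h : G)⁻¹ * (a : G)⁻¹ ∈ H₀ := by
        have : (a : G) * (h : G)⁻¹ * (a : G)⁻¹ ∈ MulAut.conj (a : G) • H₀ := by
          rw [Subgroup.mem_pointwise_smul_iff_inv_smul_mem]
          simpa [MulAut.smul_def, MulAut.conj_inv_apply, mul_assoc] using H₀.inv_mem h.2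
        rwa [ha] at this
      have h4 : (h : G) * a * (h : G)⁻¹ * (a : G)⁻¹ ∈ H₀ ⊓ N := by
        refine ⟨?_, ?_⟩
        · have := H₀.mul_mem h.2 h3
          simpa [mul_assoc] using this
        · exact N.mul_mem (‹N.Normal›.conj_mem _ a.2 _) (N.inv_mem a.2)
      rw [hHN, Subgroup.mem_bot] at h4
      exact mul_inv_eq_one.mp h4
    · intro ha
      have hc : ∀ x ∈ H₀, (a : G)⁻¹ * x * a = x := by
        intro x hx
        have := congrArg Subtype.val (ha ⟨x, hx⟩)
        rw [hact] at this
        simp only at this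
        calc (a : G)⁻¹ * x * a = (a : G)⁻¹ * (x * a * x⁻¹) * x := by group
          _ = (a : G)⁻¹ * a * x := by rw [this]
          _ = x := by group
      ext y
      rw [Subgroup.mem_pointwise_smul_iff_inv_smul_mem, MulAut.smul_def, MulAut.conj_inv_apply]
      constructor
      · intro hy
        have hz := hc _ hy
        have e1 : (a : G) * ((a : G)⁻¹ * ((a : G)⁻¹ * y * a) * a) * (a : G)⁻¹ =
            (a : G)⁻¹ * y * a := by group
        have e2 : (a : G) * ((a : G)⁻¹ * y * a) * (a : G)⁻¹ = y := by group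
        have e3 : (a : G) * ((a : G)⁻¹ * ((a : G)⁻¹ * y * a) * a) * (a : G)⁻¹ = y := by
          rw [hz]; exact e2
        have hy' : y = (a : G)⁻¹ * y * a := (e1.symm.trans e3).symm
        rw [hy']; exact hy
      · intro hy
        rw [hc y hy]; exact hy
  rw [← h1, ← h2, mul_comm]
  exact h


/-- order of the image of a subgroup meeting `N` trivially -/
theorem card_map_mk'_of_coprime (N : Subgroup G) [N.Normal] (H : Subgroup G)
    (hcop : (Nat.card H).Coprime (Nat.card N)) :
    Nat.card (H.map (QuotientGroup.mk' N)) = Nat.card H := by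
  have h1 := Subgroup.relIndex_ker (QuotientGroup.mk' N) (K := H)
  rw [QuotientGroup.ker_mk'] at h1
  rw [← h1, ← Subgroup.inf_relIndex_right,
    (Subgroup.disjoint_of_coprime_natCard hcop.symm).eq_bot, Subgroup.relIndex_bot_left]

/-- conjugation transports fibres of `H ↦ HN/N` -/
theorem card_fiber_conj (N : Subgroup G) [N.Normal] (m : ℕ) (g : G) (K : Subgroup (G ⧸ N)) :
    Nat.card {H : {H : Subgroup G // Nat.card H = m} // H.1.map (QuotientGroup.mk' N) = K} =
    Nat.card {H : {H : Subgroup G // Nat.card H = m} //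
      H.1.map (QuotientGroup.mk' N) = MulAut.conj (QuotientGroup.mk' N g) • K} := by
  refine Nat.card_congr ⟨fun H => ⟨⟨MulAut.conj g • H.1.1, ?_⟩, ?_⟩,
    fun H => ⟨⟨MulAut.conj g⁻¹ • H.1.1, ?_⟩, ?_⟩, fun H => ?_, fun H => ?_⟩
  · rw [Cfsg.Agent.Lib.card_conj_smul]; exact H.1.2
  · change (MulAut.conj g • H.1.1).map (QuotientGroup.mk' N) = _
    rw [map_mk'_conj_smul, H.2]
  · rw [Cfsg.Agent.Lib.card_conj_smul]; exact H.1.2
  · change (MulAut.conj g⁻¹ • H.1.1).map (QuotientGroup.mk' N) = _
    rw [map_mk'_conj_smul, H.2, map_inv, map_inv, inv_smul_smul]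
  · apply Subtype.ext; apply Subtype.ext
    change MulAut.conj g⁻¹ • MulAut.conj g • H.1.1 = H.1.1
    rw [map_inv, inv_smul_smul]
  · apply Subtype.ext; apply Subtype.ext
    change MulAut.conj g • MulAut.conj g⁻¹ • H.1.1 = H.1.1
    rw [map_inv, smul_inv_smul]


end Case2

section Case2b

variable {G : Type u} [Group G] [Finite G]

/-- Counting subgroups of order `m` through the quotient by an abelian normal subgroup of order
dividing `n`. -/
theorem card_subgroups_eq_mul (N : Subgroup G) [N.Normal] [IsMulCommutative N] [Group.IsSolvable G]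
    {m n : ℕ} (hG : Nat.card G = m * n) (hmn : m.Coprime n) (hNn : Nat.card N ∣ n)
    (H₀ : Subgroup G) (hH₀ : Nat.card H₀ = m) :
    Nat.card {H : Subgroup G // Nat.card H = m} =
      Nat.card {H : Subgroup (G ⧸ N) // Nat.card H = m} *
      Nat.card {H : {H : Subgroup G // Nat.card H = m} //
        H.1.map (QuotientGroup.mk' N) = H₀.map (QuotientGroup.mk' N)} := by
  classical
  have hcopN : m.Coprime (Nat.card N) := Nat.Coprime.coprime_dvd_right hNn hmn
  obtain ⟨n', hn'⟩ := hNn
  have hQcard : Nat.card (G ⧸ N) = m * n' := by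
    have h1 : Nat.card G = Nat.card (G ⧸ N) * Nat.card N :=
      Subgroup.card_eq_card_quotient_mul_card_subgroup N
    have hNpos : 0 < Nat.card N := Nat.card_pos
    apply Nat.eq_of_mul_eq_mul_right hNpos
    rw [← h1, hG, hn']; ring
  have hmn' : m.Coprime n' := Nat.Coprime.coprime_dvd_right ⟨Nat.card N, by rw [hn']; ring⟩ hmn
  let Φ : {H : Subgroup G // Nat.card H = m} → {H : Subgroup (G ⧸ N) // Nat.card H = m} :=
    fun H => ⟨H.1.map (QuotientGroup.mk' N), by
      rw [card_map_mk'_of_coprime N H.1 (by rw [H.2]; exact hcopN), H.2]⟩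
  have hfib : ∀ y : {H : Subgroup (G ⧸ N) // Nat.card H = m},
      Nat.card {x // Φ x = y} = Nat.card {H : {H : Subgroup G // Nat.card H = m} //
        H.1.map (QuotientGroup.mk' N) = H₀.map (QuotientGroup.mk' N)} := by
    intro y
    have hc0 : Nat.card (H₀.map (QuotientGroup.mk' N)) = m := by
      rw [card_map_mk'_of_coprime N H₀ (by rw [hH₀]; exact hcopN), hH₀]
    obtain ⟨gb, hgb⟩ := Cfsg.Agent.Lib.hall_conj m n' hQcard hmn' (H₀.map (QuotientGroup.mk' N)) y.1
      hc0 y.2
    obtain ⟨g, rfl⟩ := QuotientGroup.mk'_surjective N gb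
    rw [card_fiber_conj N m g (H₀.map (QuotientGroup.mk' N)), hgb]
    exact Nat.card_congr (Equiv.subtypeEquivRight fun x => Subtype.ext_iff)
  have : Fintype {H : Subgroup (G ⧸ N) // Nat.card H = m} := Fintype.ofFinite _
  rw [← Nat.card_congr (Equiv.sigmaFiberEquiv Φ), Nat.card_sigma]
  simp only [hfib, Finset.sum_const, Finset.card_univ, smul_eq_mul, Nat.card_eq_fintype_card]


/-- **P. Hall**: the number of Hall subgroups of order `m` of a finite solvable group is a product
of good factors. -/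
theorem hall_count_main : ∀ (k : ℕ) (G : Type u) [Group G] [Finite G] [Group.IsSolvable G],
    Nat.card G = k → ∀ m n : ℕ, k = m * n → m.Coprime n →
    ∃ l : List ℕ, Nat.card {H : Subgroup G // Nat.card H = m} = l.prod ∧
      ∀ x ∈ l, HallGood G m x := by
  intro k
  induction k using Nat.strong_induction_on with
  | _ k ih =>
  intro G _ _ _ hk m n hmn hcop
  by_cases hsub : Subsingleton G
  · have hk1 : k = 1 := by rw [← hk]; exact Nat.card_unique
    have hm1 : m = 1 := by
      rw [hk1] at hmn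
      exact Nat.eq_one_of_mul_eq_one_right hmn.symm
    refine ⟨[], ?_, by simp⟩
    rw [List.prod_nil]
    have : Subsingleton {H : Subgroup G // Nat.card H = m} :=
      ⟨fun a b => Subtype.ext (Subsingleton.elim _ _)⟩
    have : Nonempty {H : Subgroup G // Nat.card H = m} :=
      ⟨⟨⊥, by rw [hm1]; exact Subgroup.card_bot⟩⟩
    exact Nat.card_unique
  · have hnt : Nontrivial G := not_subsingleton_iff_nontrivial.mp hsub
    obtain ⟨N, hNn, hNbot, hNmin⟩ := Cfsg.Agent.Lib.exists_minimal_normal (G := G)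
    obtain ⟨hNab, p, hp, hNp⟩ := Cfsg.Agent.S0043.result N hNbot hNmin
    have : Fact p.Prime := ⟨hp⟩
    have hNpg : IsPGroup p N := fun x => ⟨1, by rw [pow_one]; exact Subtype.ext (hNp x x.2)⟩
    obtain ⟨e, he⟩ := IsPGroup.iff_card.mp hNpg
    have hkpos : 0 < k := by rw [← hk]; exact Nat.card_pos
    have hm0 : m ≠ 0 := by rintro rfl; simp at hmn; omega
    have hn0 : n ≠ 0 := by rintro rfl; simp at hmn; omega
    have he0 : e ≠ 0 := by
      rintro rfl
      rw [pow_zero] at he
      exact hNbot (Subgroup.card_eq_one.mp he)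
    have hQ : Nat.card (G ⧸ N) * p ^ e = k := by
      rw [← he, ← hk]; exact (Subgroup.card_eq_card_quotient_mul_card_subgroup N).symm
    have hpe2 : 2 ≤ p ^ e := by
      calc 2 ≤ p := hp.two_le
        _ = p ^ 1 := (pow_one p).symm
        _ ≤ p ^ e := Nat.pow_le_pow_right hp.pos (Nat.one_le_iff_ne_zero.mpr he0)
    have hQpos : 0 < Nat.card (G ⧸ N) := Nat.card_pos
    have hQlt : Nat.card (G ⧸ N) < k := by
      rw [← hQ]; nlinarith
    have hGcard : Nat.card G = m * n := hk.trans hmn
    obtain ⟨H₀, hH₀⟩ := Cfsg.Agent.Lib.hall_exists m n hGcard hcop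
    by_cases hpm : p ∣ m
    · -- Case 1: `N` lies in every Hall subgroup
      have hpn : ¬ p ∣ n := fun h => hp.one_lt.ne' (Nat.eq_one_of_dvd_coprimes hcop hpm h)
      have hpem : p ^ e ∣ m := by
        have h1 : p ^ e ∣ m * n := ⟨Nat.card (G ⧸ N), by rw [← hmn, ← hQ]; ring⟩
        exact (Nat.Coprime.pow_left e ((Nat.Prime.coprime_iff_not_dvd hp).mpr hpn)).dvd_of_dvd_mul_right h1
      obtain ⟨m', hm'⟩ := hpem
      have hQcard : Nat.card (G ⧸ N) = m' * n := by
        apply Nat.eq_of_mul_eq_mul_right (pow_pos hp.pos e)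
        rw [hQ, hmn, hm']; ring
      have hcop' : m'.Coprime n := Nat.Coprime.coprime_dvd_left ⟨p ^ e, by rw [hm']; ring⟩ hcop
      obtain ⟨l, hl, hl'⟩ := ih _ hQlt (G ⧸ N) rfl m' n hQcard hcop'
      have hNle : ∀ H : Subgroup G, Nat.card H = m → N ≤ H := by
        intro H hH
        have hNcop : (Nat.card N).Coprime n := by
          rw [he]; exact Nat.Coprime.pow_left e ((Nat.Prime.coprime_iff_not_dvd hp).mpr hpn)
        obtain ⟨H', hH', hNH'⟩ := Cfsg.Agent.Lib.hall_le m n hGcard hcop N hNcop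
        obtain ⟨g, hg⟩ := Cfsg.Agent.Lib.hall_conj m n hGcard hcop H' H hH' hH
        rw [← hg]
        intro x hx
        rw [Subgroup.mem_pointwise_smul_iff_inv_smul_mem, MulAut.smul_def, MulAut.conj_inv_apply]
        exact hNH' (by simpa using hNn.conj_mem x hx g⁻¹)
      refine ⟨l, ?_, fun x hx => (hl' x hx).of_quotient N ⟨p ^ e, by rw [hm']; ring⟩⟩
      rw [card_subgroups_eq_of_le N (m := m) (m' := m') (by rw [he, hm']) hNle, hl]
    · -- Case 2: `N` is a `π'`-group
      have hpen : p ^ e ∣ n := by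
        have h1 : p ^ e ∣ n * m := ⟨Nat.card (G ⧸ N), by rw [mul_comm n m, ← hmn, ← hQ]; ring⟩
        exact (Nat.Coprime.pow_left e ((Nat.Prime.coprime_iff_not_dvd hp).mpr hpm)).dvd_of_dvd_mul_right h1
      obtain ⟨n', hn'⟩ := hpen
      have hQcard : Nat.card (G ⧸ N) = m * n' := by
        apply Nat.eq_of_mul_eq_mul_right (pow_pos hp.pos e)
        rw [hQ, hmn, hn']; ring
      have hcop' : m.Coprime n' := Nat.Coprime.coprime_dvd_right ⟨p ^ e, by rw [hn']; ring⟩ hcop
      obtain ⟨l, hl, hl'⟩ := ih _ hQlt (G ⧸ N) rfl m n' hQcard hcop'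
      have hNdvd : Nat.card N ∣ n := ⟨n', by rw [he, hn']⟩
      have hcopN : m.Coprime (Nat.card N) := Nat.Coprime.coprime_dvd_right hNdvd hcop
      have hcount := card_subgroups_eq_mul N hGcard hcop hNdvd H₀ hH₀
      have hfib := card_fiber_mul_card_fixedPoints N hcopN H₀ hH₀
      let _ : MulDistribMulAction H₀ N := conjActNormal N H₀
      have hH₀solv : Group.IsSolvable H₀ := inferInstance
      obtain ⟨l₂, hl₂, hl₂'⟩ := card_eq_card_fixed_mul_prod _ H₀ N rfl (by rw [hH₀]; exact hcopN)
      have hfpos : 0 < Nat.card (fixedPoints H₀ N) := by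
        have : Nonempty (fixedPoints H₀ N) := ⟨⟨1, fun h => smul_one h⟩⟩
        exact Nat.card_pos
      have hc : Nat.card {H : {H : Subgroup G // Nat.card H = m} //
          H.1.map (QuotientGroup.mk' N) = H₀.map (QuotientGroup.mk' N)} = l₂.prod := by
        apply Nat.eq_of_mul_eq_mul_right hfpos
        rw [hfib, hl₂]; ring
      refine ⟨l ++ l₂, ?_, ?_⟩
      · rw [hcount, hl, hc, List.prod_append]
      · intro x hx
        rcases List.mem_append.mp hx with hx | hx
        · exact (hl' x hx).of_quotient N dvd_rfl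
        · obtain ⟨hxN, q, hq, hqH, hxq⟩ := hl₂' x hx
          refine ⟨?_, ⟨⊥, N, inferInstance, hNn, bot_lt_iff_ne_bot.mpr hNbot, ?_, ?_⟩, q, hq, ?_, hxq⟩
          · rw [he] at hxN
            obtain ⟨j, -, hj⟩ := (Nat.dvd_prime_pow hp).mp hxN
            exact ⟨p, j, hp, hj⟩
          · intro M hM _ hMN
            exact hNmin M hM hMN
          · rw [Subgroup.relIndex_bot_left]; exact hxN
          · rw [← hH₀]; exact hqH

end Case2b

end Cfsg.Agent.Helper35
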