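import Cfsg.Agent.Helper35.SplAverage
import Cfsg.Agent.Helper1.FpfThompson

/-!
# Kegel's theorem: a finite group with a splitting automorphism of prime order is nilpotent (helper35)

Same induction as Thompson's theorem (helper1, `Helper1/FpfThompson.lean`): the invariant Sylow subgroup is
obtained by twisting the automorphism with an inner one, solvability comes from Thompson's normal
`p`-complement theorem and the final step from the averaging argument `Spl.centralizes`.
-/

set_option autoImplicit false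
set_option linter.unusedSectionVars false

namespace Cfsg.Agent.Helper35.Kegel

open Subgroup Cfsg.Agent.Helper1 Cfsg.Agent.Lib.ZJ

universe u

variable {G : Type u} [Group G]

/-- after twisting by an inner automorphism a given Sylow subgroup becomes invariant -/
theorem exists_twist_inv [Finite G] (φ : G ≃* G) {r : ℕ} [Fact r.Prime] (P : Sylow r G) :
    ∃ g : G, Inv (twist g φ) (P : Subgroup G) := by
  let Φ : MulAut G := φ
  obtain ⟨g, hg⟩ := MulAction.exists_smul_eq G (Φ • P) P
  refine ⟨g, ?_⟩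
  apply inv_of_forall
  intro x hx
  have h3 := congrArg (fun Q : Sylow r G => (Q : Subgroup G)) hg
  simp only [Sylow.smul_def, Sylow.pointwise_smul_def] at h3
  rw [← h3]
  rw [Subgroup.mem_smul_pointwise_iff_exists]
  refine ⟨φ x, ?_, ?_⟩
  · rw [Subgroup.mem_smul_pointwise_iff_exists]
    exact ⟨x, hx, rfl⟩
  · rfl

/-- Step 1: the group is solvable. -/
theorem spl_solvable_step [Finite G] {p : ℕ} {φ : G ≃* G} (hφ : Spl p φ)
    (hB : ∀ ψ : G ≃* G, Spl p ψ → ∀ H : Subgroup G, Inv ψ H → H ≠ ⊤ → Group.IsNilpotent ↥H)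
    (hA : ∀ ψ : G ≃* G, Spl p ψ → ∀ (W : Subgroup G) [W.Normal], Inv ψ W → W ≠ ⊥ →
      Group.IsNilpotent (G ⧸ W)) :
    Group.IsSolvable G := by
  by_cases h2 : ∃ r, r.Prime ∧ r ≠ 2 ∧ r ∣ Nat.card G
  · obtain ⟨r, hr, hr2, hrd⟩ := h2
    have : Fact r.Prime := ⟨hr⟩
    obtain ⟨P⟩ : Nonempty (Sylow r G) := inferInstance
    obtain ⟨g, hP⟩ := exists_twist_inv φ P
    set ψ := twist g φ with hψdef
    have hψ : Spl p ψ := hφ.twist g
    have hPinv : Inv ψ (P : Subgroup G) := hP
    have hPne : (P : Subgroup G) ≠ ⊥ := P.ne_bot_of_dvd_card hrd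
    have hJinv : Inv ψ (Cfsg.thompsonSubgroupOf r (P : Subgroup G)) := by
      rw [thompsonSubgroupOf_eq_Jg]
      unfold Helper1.Inv
      rw [← Jg_map (intrinsic_elem r) (ψ : G →* G) (P : Subgroup G)
        (fun a b hab => Subtype.ext (ψ.injective hab)), hP]
    have hZinv : Inv ψ (Zc (P : Subgroup G)) := by
      unfold Helper1.Inv
      rw [← Zc_map (ψ : G →* G) ψ.injective, hP]
    have hJne : Cfsg.thompsonSubgroupOf r (P : Subgroup G) ≠ ⊥ := by
      rw [thompsonSubgroupOf_eq_Jg]
      exact Jg_ne_bot (intrinsic_elem r) (goodElem_zpowers r) P.2 hPne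
    have hJle : Cfsg.thompsonSubgroupOf r (P : Subgroup G) ≤ P := by
      rw [thompsonSubgroupOf_eq_Jg]
      exact Jg_le _
    have hZne : Zc (P : Subgroup G) ≠ ⊥ := Zc_ne_bot P.2 hPne
    -- a normal invariant nontrivial `r`-subgroup gives solvability
    have hW : ∀ W : Subgroup G, W.Normal → Inv ψ W → W ≠ ⊥ → IsPGroup r W → Group.IsSolvable G := by
      intro W hWn hWi hWne hWp
      have := hWn
      have : Group.IsNilpotent (G ⧸ W) := hA ψ hψ W hWi hWne
      have : Group.IsNilpotent ↥W := hWp.isNilpotent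
      exact Group.isSolvable_of_ker_le_range W.subtype (QuotientGroup.mk' W)
        (by rw [QuotientGroup.ker_mk', Subgroup.range_subtype])
    by_cases hNJ : normalizer (Cfsg.thompsonSubgroupOf r (P : Subgroup G) : Set G) = ⊤
    · exact hW _ (Subgroup.normalizer_eq_top_iff.mp hNJ) hJinv hJne (P.2.to_le hJle)
    by_cases hCZ : centralizer (Zc (P : Subgroup G) : Set G) = ⊤
    · have hn : (Zc (P : Subgroup G)).Normal := by
        have hc : Zc (P : Subgroup G) ≤ center G := fun x hx =>
          (Subgroup.centralizer_eq_top_iff_subset.mp hCZ) hx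
        exact normal_of_le_center' hc
      exact hW _ hn hZinv hZne (P.2.to_le (Zc_le _))
    -- both proper
    have h1 := hB ψ hψ _ hJinv.normalizer hNJ
    have h2 := hB ψ hψ _ hZinv.centralizer hCZ
    have hnpc := thompson_npc_elem hr2 P (npc_of_nilpotent h1) (npc_of_nilpotent h2)
    obtain ⟨P', K, hKn, hK⟩ := hnpc
    have := hKn
    have hidx : K.index = Nat.card (P' : Subgroup G) := hK.symm.index_eq_card
    have hcop : (Nat.card K).Coprime K.index := by
      rw [hidx, ← hK.index_eq_card]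
      exact P'.card_coprime_index.symm
    have hKinv : Inv ψ K := inv_of_normal_hall ψ K hcop
    have hKne : K ≠ ⊤ := by
      intro htop
      rw [htop, Subgroup.index_top] at hidx
      exact (P'.ne_bot_of_dvd_card hrd) (Subgroup.card_eq_one.mp hidx.symm)
    have : Group.IsNilpotent ↥K := hB ψ hψ K hKinv hKne
    have : Group.IsNilpotent (G ⧸ K) := by
      have : IsPGroup r (G ⧸ K) := by
        obtain ⟨k, hk⟩ := IsPGroup.iff_card.mp P'.2
        apply IsPGroup.of_card (n := k)
        rw [← Subgroup.index_eq_card, hidx, hk]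
      exact this.isNilpotent
    exact Group.isSolvable_of_ker_le_range K.subtype (QuotientGroup.mk' K)
      (by rw [QuotientGroup.ker_mk', Subgroup.range_subtype])
  · -- `G` is a `2`-group
    push Not at h2
    have h2G : IsPGroup 2 G := by
      have h3 : Nat.card G = 2 ^ (Nat.card G).primeFactorsList.length := by
        apply Nat.eq_prime_pow_of_unique_prime_dvd Nat.card_pos.ne'
        intro d hd hdd
        by_contra hne
        exact h2 d hd hne hdd
      exact IsPGroup.of_card h3
    have : Fact (2 : ℕ).Prime := ⟨Nat.prime_two⟩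
    have : Group.IsNilpotent G := h2G.isNilpotent
    infer_instance

/-- Step 2: a solvable group is nilpotent. -/
theorem spl_nilpotent_step [Finite G] {p : ℕ} (hp : p.Prime) {φ : G ≃* G} (hφ : Spl p φ)
    (hA : ∀ ψ : G ≃* G, Spl p ψ → ∀ (W : Subgroup G) [W.Normal], Inv ψ W → W ≠ ⊥ →
      Group.IsNilpotent (G ⧸ W))
    [Group.IsSolvable G] [Nontrivial G] : Group.IsNilpotent G := by
  obtain ⟨q, hq, R, hRn, hRne, hRq⟩ := exists_normal_pSubgroup G
  have : Fact q.Prime := ⟨hq⟩
  have hOne : Cfsg.pCore q G ≠ ⊥ := by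
    intro hbot
    exact hRne (le_bot_iff.mp (hbot ▸ Cfsg.Agent.Lib.le_pCore hRn hRq))
  have hOchar : (Cfsg.pCore q G).Characteristic := Cfsg.Agent.Lib.pCore_characteristic q
  have hOn : (Cfsg.pCore q G).Normal := inferInstance
  have hOq : IsPGroup q (Cfsg.pCore q G) := Cfsg.Agent.Lib.isPGroup_pCore q
  set N := Zc (Cfsg.pCore q G) with hNdef
  have hNinv : ∀ ψ : G ≃* G, Inv ψ N := by
    intro ψ
    have hOinv : Inv ψ (Cfsg.pCore q G) := inv_of_characteristic ψ _
    unfold Helper1.Inv
    rw [hNdef, ← Zc_map (ψ : G →* G) ψ.injective, hOinv]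
  have hNn : N.Normal := by
    rw [← Subgroup.normalizer_eq_top_iff]
    apply top_le_iff.mp
    rw [← Subgroup.normalizer_eq_top_iff.mpr hOn]
    exact normalizer_le_normalizer_Zc _
  have hNne : N ≠ ⊥ := Zc_ne_bot hOq hOne
  have hNq : IsPGroup q N := hOq.to_le (Zc_le _)
  have hNc : ∀ a ∈ N, ∀ b ∈ N, a * b = b * a := by
    intro a ha b hb
    have h1 := (Subgroup.mem_inf.mp ha).2
    exact ((Subgroup.mem_centralizer_iff.mp h1) b (Subgroup.mem_inf.mp hb).1).symm
  have hquot : Group.IsNilpotent (G ⧸ N) := hA φ hφ N (hNinv φ) hNne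
  -- all Sylow subgroups are normal
  apply ((Group.isNilpotent_of_finite_tfae (G := G)).out 0 3).mpr
  intro r hr P₀
  have := hr
  suffices h : ∃ P : Sylow r G, (P : Subgroup G).Normal by
    obtain ⟨P, hPn⟩ := h
    obtain ⟨g, hg⟩ := MulAction.exists_smul_eq G P P₀
    rw [← hg, Sylow.smul_eq_of_normal]
    exact hPn
  refine ⟨P₀, ?_⟩
  set P := P₀ with hPdef
  have hPNn : ((P : Subgroup G) ⊔ N).Normal := by
    have : Group.IsNilpotent (G ⧸ N) := hquot
    have h1 : ((P.mapSurjective (QuotientGroup.mk'_surjective N) : Sylow r (G ⧸ N)) :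
        Subgroup (G ⧸ N)).Normal := inferInstance
    rw [Sylow.coe_mapSurjective] at h1
    have h2 := h1.comap (QuotientGroup.mk' N)
    rw [QuotientGroup.comap_map_mk'] at h2
    rwa [sup_comm]
  by_cases hrq : r = q
  · subst hrq
    have hle : N ≤ (P : Subgroup G) := (Zc_le _).trans (Cfsg.Agent.Lib.pCore_le_sylow P)
    rwa [sup_eq_left.mpr hle] at hPNn
  -- `P` centralizes `N`
  obtain ⟨g, hP⟩ := exists_twist_inv φ P
  have hψ : Spl p (twist g φ) := hφ.twist g
  have hcop : (Nat.card N).Coprime (Nat.card (P : Subgroup G)) := by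
    obtain ⟨a, ha⟩ := IsPGroup.iff_card.mp hNq
    obtain ⟨b, hb⟩ := IsPGroup.iff_card.mp P.2
    rw [ha, hb]
    apply Nat.Coprime.pow
    exact (Nat.coprime_primes hq hr.out).mpr (Ne.symm hrq)
  have hcent := hψ.centralizes hp N hNc (hNinv _) (P : Subgroup G) hP hcop
  -- hence `P ⊔ N` is nilpotent
  have hnil : Group.IsNilpotent ↥((P : Subgroup G) ⊔ N) := by
    apply Cfsg.Agent.S0132.isNilpotent_sup_of_commute P.2.isNilpotent hNq.isNilpotent
    intro m hm t ht
    have := hcent m hm t ht
    rw [mul_inv_eq_iff_eq_mul] at this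
    exact this
  have hle : (P : Subgroup G) ≤ (P : Subgroup G) ⊔ N := le_sup_left
  have h1 : ((P.subtype hle : Sylow r ↥((P : Subgroup G) ⊔ N)) :
      Subgroup ↥((P : Subgroup G) ⊔ N)).Normal := inferInstance
  have h2 := Sylow.characteristic_of_normal (P.subtype hle) h1
  have := hPNn
  have h3 : (((P.subtype hle : Sylow r ↥((P : Subgroup G) ⊔ N)) :
      Subgroup ↥((P : Subgroup G) ⊔ N)).map ((P : Subgroup G) ⊔ N).subtype).Normal :=
    inferInstance
  rw [Sylow.coe_subtype, Subgroup.subgroupOf_map_subtype, inf_eq_left.mpr hle] at h3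
  exact h3

theorem spl_nilpotent_aux {p : ℕ} (hp : p.Prime) :
    ∀ (n : ℕ) (G : Type u) [Group G] [Finite G] (φ : G ≃* G), Nat.card G = n → Spl p φ →
      Group.IsNilpotent G := by
  intro n
  induction n using Nat.strong_induction_on with
  | _ n ih =>
  intro G _ _ φ hn hφ
  have hB : ∀ ψ : G ≃* G, Spl p ψ → ∀ H : Subgroup G, Inv ψ H → H ≠ ⊤ →
      Group.IsNilpotent ↥H := by
    intro ψ hψ H hH hne
    have hlt : Nat.card ↥H < n := by
      rw [← hn]
      by_contra hc
      exact hne (Subgroup.eq_top_of_le_card H (not_lt.mp hc))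
    exact ih _ hlt ↥H (resEquiv ψ H hH) rfl (hψ.restrict H hH)
  have hA : ∀ ψ : G ≃* G, Spl p ψ → ∀ (W : Subgroup G) [W.Normal], Inv ψ W → W ≠ ⊥ →
      Group.IsNilpotent (G ⧸ W) := by
    intro ψ hψ W _ hW hne
    have hlt : Nat.card (G ⧸ W) < n := by
      rw [← hn, Subgroup.card_eq_card_quotient_mul_card_subgroup W]
      have h1 : 1 < Nat.card W := W.one_lt_card_iff_ne_bot.mpr hne
      have h0 : 0 < Nat.card (G ⧸ W) := Nat.card_pos
      nlinarith
    exact ih _ hlt (G ⧸ W) (quotEquiv ψ W hW) rfl (hψ.quotient W hW)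
  have := spl_solvable_step hφ hB hA
  by_cases htriv : Subsingleton G
  · infer_instance
  have : Nontrivial G := not_subsingleton_iff_nontrivial.mp htriv
  exact spl_nilpotent_step hp hφ hA

/-- **Kegel's theorem**: a finite group with a splitting automorphism of prime length is nilpotent. -/
theorem spl_nilpotent [Finite G] {p : ℕ} (hp : p.Prime) (φ : G ≃* G) (hφ : Spl p φ) :
    Group.IsNilpotent G :=
  spl_nilpotent_aux hp _ G φ rfl hφ

end Cfsg.Agent.Helper35.Kegel
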