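import Mathlib

set_option autoImplicit false

/-!
# Quotients of a stem extension with kernel `3 × 4 × 4` having an elementary abelian kernel of order 4

If `τ : E →* G` is a surjection with central kernel `K ≃ 3 × 4 × 4`, `σ : L →* G` is a surjection of a
perfect group with central kernel of order 4 and exponent 2, and `φ : E →* L` lifts `τ`, then `φ` is
surjective and `ker φ` is the set of squares of `K` (in particular it does not depend on `L, σ, φ`).
-/

namespace Cfsg.Agent.Helper35.L34U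

open scoped commutatorElement

/-- The twelve squares (written additively: doubles) of `3 × 4 × 4`. -/
def dbl : Finset (ZMod 3 × ZMod 4 × ZMod 4) :=
  Finset.univ.filter (fun m => ∃ n : ZMod 3 × ZMod 4 × ZMod 4, n + n = m)

theorem card_dbl : dbl.card = 12 := by
  decide +kernel

theorem surjective_of_lift {E G L : Type*} [Group E] [Group G] [Group L]
    (τ : E →* G) (hτ : Function.Surjective τ)
    (hL : commutator L = ⊤) (σ : L →* G) (hσcen : σ.ker ≤ Subgroup.center L)
    (φ : E →* L) (hφ : σ.comp φ = τ) : Function.Surjective φ := by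
  have key : ∀ l : L, ∃ r ∈ φ.range, ∃ z ∈ Subgroup.center L, l = r * z := by
    intro l
    obtain ⟨y, hy⟩ := hτ (σ l)
    refine ⟨φ y, ⟨y, rfl⟩, (φ y)⁻¹ * l, ?_, by group⟩
    apply hσcen
    rw [MonoidHom.mem_ker, map_mul, map_inv]
    have : σ (φ y) = τ y := by rw [← hφ]; rfl
    rw [this, hy, inv_mul_cancel]
  have hle : commutator L ≤ φ.range := by
    rw [commutator_def, Subgroup.commutator_le]
    intro a _ b _
    obtain ⟨r₁, hr₁, z₁, hz₁, rfl⟩ := key a
    obtain ⟨r₂, hr₂, z₂, hz₂, rfl⟩ := key b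
    have h1 : ∀ x : L, z₁ * x = x * z₁ := fun x => (Subgroup.mem_center_iff.1 hz₁ x).symm
    have h2 : ∀ x : L, z₂ * x = x * z₂ := fun x => (Subgroup.mem_center_iff.1 hz₂ x).symm
    have : ⁅r₁ * z₁, r₂ * z₂⁆ = ⁅r₁, r₂⁆ := by
      rw [commutatorElement_def, commutatorElement_def]
      have e1 : (r₁ * z₁)⁻¹ = r₁⁻¹ * z₁⁻¹ := by
        rw [mul_inv_rev]
        have := h1 r₁⁻¹
        calc z₁⁻¹ * r₁⁻¹ = z₁⁻¹ * (r₁⁻¹ * z₁) * z₁⁻¹ := by group
          _ = z₁⁻¹ * (z₁ * r₁⁻¹) * z₁⁻¹ := by rw [this]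
          _ = r₁⁻¹ * z₁⁻¹ := by group
      have e2 : (r₂ * z₂)⁻¹ = r₂⁻¹ * z₂⁻¹ := by
        rw [mul_inv_rev]
        have := h2 r₂⁻¹
        calc z₂⁻¹ * r₂⁻¹ = z₂⁻¹ * (r₂⁻¹ * z₂) * z₂⁻¹ := by group
          _ = z₂⁻¹ * (z₂ * r₂⁻¹) * z₂⁻¹ := by rw [this]
          _ = r₂⁻¹ * z₂⁻¹ := by group
      rw [e1, e2]
      calc r₁ * z₁ * (r₂ * z₂) * (r₁⁻¹ * z₁⁻¹) * (r₂⁻¹ * z₂⁻¹)
          = r₁ * (z₁ * (r₂ * z₂ * r₁⁻¹)) * z₁⁻¹ * (r₂⁻¹ * z₂⁻¹) := by group
        _ = r₁ * ((r₂ * z₂ * r₁⁻¹) * z₁) * z₁⁻¹ * (r₂⁻¹ * z₂⁻¹) := by rw [h1]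
        _ = r₁ * r₂ * (z₂ * (r₁⁻¹ * r₂⁻¹)) * z₂⁻¹ := by group
        _ = r₁ * r₂ * ((r₁⁻¹ * r₂⁻¹) * z₂) * z₂⁻¹ := by rw [h2]
        _ = r₁ * r₂ * r₁⁻¹ * r₂⁻¹ := by group
    rw [this, commutatorElement_def]
    exact mul_mem (mul_mem (mul_mem hr₁ hr₂) (inv_mem hr₁)) (inv_mem hr₂)
  rw [hL] at hle
  intro l
  exact hle (Subgroup.mem_top l)

/-- The main lemma: the kernel of a lift is the set of squares of `ker τ`. -/
theorem ker_lift_eq {E G L : Type*} [Group E] [Finite E] [Group G] [Group L]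
    (τ : E →* G) (hτ : Function.Surjective τ)
    (e : τ.ker ≃* Multiplicative (ZMod 3 × ZMod 4 × ZMod 4))
    (hL : commutator L = ⊤) (σ : L →* G) (hσ : Function.Surjective σ)
    (hσcen : σ.ker ≤ Subgroup.center L)
    (hcard : Nat.card σ.ker = 4) (hexp : ∀ x ∈ σ.ker, x * x = 1)
    (φ : E →* L) (hφ : σ.comp φ = τ) :
    Function.Surjective φ ∧ (φ.ker : Set E) = {x | ∃ k ∈ τ.ker, k * k = x} := by
  classical
  have hsurj := surjective_of_lift τ hτ hL σ hσcen φ hφ
  refine ⟨hsurj, ?_⟩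
  have : Finite G := Finite.of_surjective τ hτ
  have : Finite L := Finite.of_surjective φ hsurj
  -- cardinalities
  have hK48 : Nat.card τ.ker = 48 := by
    rw [Nat.card_congr e.toEquiv, Nat.card_eq_fintype_card]
    rfl
  have c1 : Nat.card E = Nat.card G * Nat.card τ.ker := by
    rw [Subgroup.card_eq_card_quotient_mul_card_subgroup τ.ker,
      Nat.card_congr (QuotientGroup.quotientKerEquivOfSurjective τ hτ).toEquiv]
  have c2 : Nat.card L = Nat.card G * Nat.card σ.ker := by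
    rw [Subgroup.card_eq_card_quotient_mul_card_subgroup σ.ker,
      Nat.card_congr (QuotientGroup.quotientKerEquivOfSurjective σ hσ).toEquiv]
  have c3 : Nat.card E = Nat.card L * Nat.card φ.ker := by
    rw [Subgroup.card_eq_card_quotient_mul_card_subgroup φ.ker,
      Nat.card_congr (QuotientGroup.quotientKerEquivOfSurjective φ hsurj).toEquiv]
  have hGpos : 0 < Nat.card G := Nat.card_pos
  have hk12 : Nat.card φ.ker = 12 := by
    rw [c2, hcard, c1, hK48] at c3
    have : Nat.card G * 48 = Nat.card G * (4 * Nat.card φ.ker) := by rw [c3]; ring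
    have := Nat.eq_of_mul_eq_mul_left hGpos this
    omega
  -- squares lie in the kernel
  have hsq : {x | ∃ k ∈ τ.ker, k * k = x} ⊆ (φ.ker : Set E) := by
    rintro x ⟨k, hk, rfl⟩
    have hk' : φ k ∈ σ.ker := by
      rw [MonoidHom.mem_ker]
      have : σ (φ k) = τ k := by rw [← hφ]; rfl
      rw [this]; exact hk
    show φ (k * k) = 1
    rw [map_mul]; exact hexp _ hk'
  -- twelve distinct squares
  let g : (ZMod 3 × ZMod 4 × ZMod 4) → E := fun m => ((e.symm (Multiplicative.ofAdd m) : τ.ker) : E)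
  have hg : Function.Injective g := by
    intro m n h
    have h1 : e.symm (Multiplicative.ofAdd m) = e.symm (Multiplicative.ofAdd n) := Subtype.ext h
    exact Multiplicative.ofAdd.injective (e.symm.injective h1)
  have himg : ((dbl.image g : Finset E) : Set E) ⊆ {x | ∃ k ∈ τ.ker, k * k = x} := by
    intro x hx
    rw [Finset.mem_coe, Finset.mem_image] at hx
    obtain ⟨m, hm, rfl⟩ := hx
    obtain ⟨n, rfl⟩ := (Finset.mem_filter.1 hm).2
    refine ⟨g n, (e.symm (Multiplicative.ofAdd n)).2, ?_⟩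
    show ((e.symm (Multiplicative.ofAdd n) : τ.ker) : E) * ((e.symm (Multiplicative.ofAdd n) : τ.ker) : E)
      = ((e.symm (Multiplicative.ofAdd (n + n)) : τ.ker) : E)
    rw [ofAdd_add, map_mul]; rfl
  have hcard_img : (dbl.image g).card = 12 := by
    rw [Finset.card_image_of_injective _ hg, card_dbl]
  have hfin : (φ.ker : Set E).Finite := Set.toFinite _
  have heq : ((dbl.image g : Finset E) : Set E) = (φ.ker : Set E) := by
    apply Set.eq_of_subset_of_ncard_le (himg.trans hsq) _ hfin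
    rw [Set.ncard_coe_finset, hcard_img]
    have : (φ.ker : Set E).ncard = Nat.card φ.ker := (Nat.card_coe_set_eq _).symm
    rw [this, hk12]
  apply Set.Subset.antisymm
  · rw [← heq]; exact himg
  · exact hsq

end Cfsg.Agent.Helper35.L34U
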