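import Cfsg.Agent.Helper96.L34.Main2
import Cfsg.Agent.Helper35.L34Unique

set_option autoImplicit false

/-!
# Perfect central extensions of a group of order 20160 covered by `E`, with centre `2 × 2`

Every perfect central extension `L` (centre elementary abelian of order 4) of a quotient `G = E / ⟨a, b⟩`
of order `20160` is `E / K²` where `K = ker τ ≃ 3 × 4 × 4`.
-/

namespace Cfsg.Agent.Helper35.L34U

open Cfsg.Agent.Helper96.L34 Cfsg.Agent.Helper28 Cfsg.Spor

theorem exists_surj_lift {G : Type*} [Group G] (τ : E →* G) (hτ : Function.Surjective τ)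
    (hG : Nat.card G = 20160) (ha : τ (eg .a) = 1) (hb : τ (eg .b) = 1)
    {L : Type*} [Group L] [Finite L] (hperf : commutator L = ⊤) (σ : L →* G)
    (hσ : Function.Surjective σ) (hker : σ.ker = Subgroup.center L)
    (hc : Nat.card (Subgroup.center L) = 4) (he : ∀ x ∈ Subgroup.center L, x * x = 1) :
    ∃ φ : E →* L, Function.Surjective φ ∧ (φ.ker : Set E) = {x | ∃ k ∈ τ.ker, k * k = x} := by
  have := card_E.1
  have hK := card_ker_le τ hτ hG
  have haK : eg .a ∈ τ.ker := ha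
  have hbK : eg .b ∈ τ.ker := hb
  obtain ⟨ha12, hb4⟩ := Cfsg.Agent.Helper66.L34.pow_eq_one_of_faithful psi τ.ker hK (eg .a) (eg .b)
    ea_center haK hbK psi_a12 psi_b4 psi_inj
  have hinj : ∀ i < 3, ∀ j < 4, ∀ k < 4,
      eg .a ^ (4 * i + 3 * j) * eg .b ^ k = 1 → i = 0 ∧ j = 0 ∧ k = 0 := by
    intro i hi j hj k hk h
    have h1 : psi (eg .a) ^ ((4 * i + 3 * j) % 12) * psi (eg .b) ^ k = 1 := by
      rw [← pow_eq_pow_mod _ psi_a12, ← map_pow, ← map_pow, ← map_mul, h, map_one]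
    obtain ⟨h2, h3⟩ := psi_inj _ (Nat.mod_lt _ (by norm_num)) k hk h1
    omega
  obtain ⟨-, ⟨eK⟩⟩ := Cfsg.Agent.Helper7.L34.kernel_iso τ.ker hK (eg .a) (eg .b) ea_center eb_center
    haK hbK ha12 hb4 hinj
  have hstem : Cfsg.IsStemExtension σ := ⟨hσ, hker.le, by rw [hperf]; exact le_top⟩
  obtain ⟨φ, hφ⟩ := exists_lift τ hτ hG ha hb σ hstem
  exact ⟨φ, ker_lift_eq τ hτ eK.symm hperf σ hσ hker.le
    (by rw [hker]; exact hc) (by rw [hker]; exact he) φ hφ⟩

end Cfsg.Agent.Helper35.L34U
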