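import Mathlib
import Cfsg.Prelude.Def_OddOrderLocal
import Cfsg.Prelude.Def_CaseTheorems
import Cfsg.Agent.Helper63.CycSelfCent

/-!
# Metacyclic 2-groups containing a dihedral or quaternion subgroup of order 8 with inverted `ρ`

Piece (C) of helper85's plan for S5235: a metacyclic 2-group `P` containing `ρ` of order 4 and `y`
inverting `ρ` with `y ^ 2 ∈ {1, ρ ^ 2}` is dihedral, generalized quaternion or quasi-dihedral.
The classification step is `Helper63.CSC.dqsd_of_cyclic_selfcentralizing`.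
-/

set_option autoImplicit false
set_option linter.style.haveILetI false

namespace Cfsg.Agent.Helper35.MetaTwoC

open Subgroup

/-- A finite cyclic group has at most one involution. -/
theorem eq_of_sq_eq_one_of_isCyclic {K : Type*} [Group K] [Finite K] [IsCyclic K] {a b : K}
    (ha : a ^ 2 = 1) (hb : b ^ 2 = 1) (ha1 : a ≠ 1) (hb1 : b ≠ 1) : a = b := by
  classical
  haveI := Fintype.ofFinite K
  by_contra hab
  have h1 := IsCyclic.card_pow_eq_one_le (α := K) (n := 2) (by norm_num)
  have h2 : 2 < (Finset.univ.filter (fun x : K => x ^ 2 = 1)).card := by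
    rw [Finset.two_lt_card_iff]
    exact ⟨1, a, b, by simp, by simp [ha], by simp [hb], fun h => ha1 h.symm,
      fun h => hb1 h.symm, hab⟩
  omega

theorem comm_of_isCyclic {K : Type*} [Group K] [IsCyclic K] (a b : K) : a * b = b * a := by
  letI := IsCyclic.commGroup (α := K)
  exact mul_comm a b

theorem metacyclic_two_maximal_class {P : Type*} [Group P] [Finite P] (hP : IsPGroup 2 P)
    (hm : Cfsg.IsMetacyclic P) (ρ y : P) (hρ : orderOf ρ = 4) (hinv : y * ρ * y⁻¹ = ρ⁻¹)
    (hy : y ^ 2 = 1 ∨ y ^ 2 = ρ ^ 2) :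
    (∃ m : ℕ, Nonempty (P ≃* DihedralGroup m)) ∨ (∃ m : ℕ, Nonempty (P ≃* QuaternionGroup m)) ∨
      Cfsg.IsQuasiDihedral P := by
  haveI : Fact (Nat.Prime 2) := ⟨Nat.prime_two⟩
  obtain ⟨N, hNn, hNc, hQc⟩ := hm
  haveI := hNn
  haveI := hNc
  haveI := hQc
  have hρ4 : ρ ^ 4 = 1 := by rw [← hρ]; exact pow_orderOf_eq_one ρ
  have hρ2 : ρ ^ 2 ≠ 1 := by
    intro h
    have := orderOf_dvd_of_pow_eq_one h
    rw [hρ] at this
    omega
  have hρinv : ρ⁻¹ ≠ ρ := by
    intro h
    apply hρ2
    rw [pow_two]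
    nth_rewrite 1 [← h]
    exact inv_mul_cancel ρ
  -- `N` is commutative
  have hNcomm : ∀ a ∈ N, ∀ b ∈ N, a * b = b * a := by
    intro a ha b hb
    have := comm_of_isCyclic (⟨a, ha⟩ : N) ⟨b, hb⟩
    exact congrArg Subtype.val this
  -- commutators lie in `N`
  have hcomm : ∀ a b : P, a * b * a⁻¹ * b⁻¹ ∈ N := by
    intro a b
    rw [← QuotientGroup.eq_one_iff]
    have h := comm_of_isCyclic (QuotientGroup.mk a : P ⧸ N) (QuotientGroup.mk b)
    simp only [QuotientGroup.mk_mul, QuotientGroup.mk_inv]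
    rw [h, mul_inv_cancel_right, mul_inv_cancel]
  have hζN : ρ ^ 2 ∈ N := by
    have h := hcomm y ρ
    rw [hinv] at h
    have : ρ⁻¹ * ρ⁻¹ = (ρ ^ 2)⁻¹ := by rw [pow_two, mul_inv_rev]
    rw [this] at h
    exact inv_mem_iff.mp h
  -- the unique involution of `N`
  have huniq : ∀ z ∈ N, z ^ 2 = 1 → z ≠ 1 → z = ρ ^ 2 := by
    intro z hz hz2 hz1
    have := eq_of_sq_eq_one_of_isCyclic (K := N) (a := ⟨z, hz⟩) (b := ⟨ρ ^ 2, hζN⟩)
      (Subtype.ext (by simpa using hz2))
      (Subtype.ext (by simp only [Subgroup.coe_pow, Subgroup.coe_one, ← pow_mul]; exact hρ4))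
      (fun h => hz1 (by simpa using congrArg Subtype.val h))
      (fun h => hρ2 (by simpa using congrArg Subtype.val h))
    exact congrArg Subtype.val this
  -- the unique involution of `P ⧸ N`
  have huniqQ : ∀ a b : P, a ^ 2 ∈ N → b ^ 2 ∈ N → a ∉ N → b ∉ N → a / b ∈ N := by
    intro a b ha hb ha1 hb1
    rw [← QuotientGroup.eq_iff_div_mem]
    apply eq_of_sq_eq_one_of_isCyclic
    · rw [← QuotientGroup.mk_pow]; exact (QuotientGroup.eq_one_iff _).mpr ha
    · rw [← QuotientGroup.mk_pow]; exact (QuotientGroup.eq_one_iff _).mpr hb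
    · intro h; exact ha1 ((QuotientGroup.eq_one_iff _).mp h)
    · intro h; exact hb1 ((QuotientGroup.eq_one_iff _).mp h)
  -- basic relations
  have R1 : y * ρ = ρ⁻¹ * y := by rw [← hinv]; group
  have R2 : y * ρ⁻¹ = ρ * y := by
    calc y * ρ⁻¹ = ρ * (ρ⁻¹ * y) * ρ⁻¹ := by group
      _ = ρ * (y * ρ) * ρ⁻¹ := by rw [R1]
      _ = ρ * y := by group
  have hy2N : y ^ 2 ∈ N := by
    rcases hy with h | h
    · rw [h]; exact one_mem _
    · rw [h]; exact hζN
  -- extraction of `u ∈ N` of order 4 inverted by `v ∉ N`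
  obtain ⟨u, v, huN, hu4, hvN, hvu, hv2⟩ : ∃ u v : P, u ∈ N ∧ orderOf u = 4 ∧ v ∉ N ∧
      v * u * v⁻¹ = u⁻¹ ∧ v ^ 2 ∈ N := by
    by_cases hρN : ρ ∈ N
    · refine ⟨ρ, y, hρN, hρ, ?_, hinv, hy2N⟩
      intro hyN
      apply hρinv
      rw [← hinv, hNcomm y hyN ρ hρN, mul_inv_cancel_right]
    · by_cases hyN : y ∈ N
      · have hy1 : y ≠ 1 := by
          rintro rfl
          apply hρinv
          simpa using hinv.symm
        have hyρ : y ^ 2 = ρ ^ 2 := by
          rcases hy with h | h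
          · exfalso
            have hyz := huniq y hyN h hy1
            apply hρinv
            rw [← hinv, hyz]
            group
          · exact h
        refine ⟨y, ρ, hyN, ?_, hρN, ?_, hζN⟩
        · have := orderOf_eq_prime_pow (x := y) (p := 2) (n := 1)
            (by rw [pow_one, hyρ]; exact hρ2)
            (by
              rw [show 2 ^ (1 + 1) = 2 * 2 by norm_num, pow_mul, hyρ, ← pow_mul]
              exact hρ4)
          simpa using this
        · calc ρ * y * ρ⁻¹ = y * ρ⁻¹ * ρ⁻¹ := by rw [← R2]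
            _ = y * (ρ ^ 2)⁻¹ := by rw [pow_two, mul_inv_rev, mul_assoc]
            _ = y * (y ^ 2)⁻¹ := by rw [hyρ]
            _ = y⁻¹ := by group
      · have hw : ρ / y ∈ N := huniqQ ρ y hζN hy2N hρN hyN
        have R3 : y⁻¹ * ρ = ρ⁻¹ * y⁻¹ := by
          have : ρ⁻¹ = y⁻¹ * ρ * y := by
            calc ρ⁻¹ = y⁻¹ * (y * ρ⁻¹) := by group
              _ = y⁻¹ * (ρ * y) := by rw [R2]
              _ = y⁻¹ * ρ * y := by group
          rw [this]; group
        have hw2 : (ρ / y) ^ 2 = (y ^ 2)⁻¹ := by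
          calc (ρ / y) ^ 2 = ρ * (y⁻¹ * ρ) * y⁻¹ := by rw [div_eq_mul_inv, pow_two]; group
            _ = ρ * (ρ⁻¹ * y⁻¹) * y⁻¹ := by rw [R3]
            _ = (y ^ 2)⁻¹ := by group
        have hyρ : y ^ 2 = ρ ^ 2 := by
          rcases hy with h | h
          · exfalso
            have h2 : (ρ / y) ^ 2 = 1 := by rw [hw2, h, inv_one]
            by_cases h1 : ρ / y = 1
            · have hρy : ρ = y := div_eq_one.mp h1
              apply hρinv
              rw [← hinv, ← hρy]
              group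
            · have hz := huniq (ρ / y) hw h2 h1
              have hρy : y = ρ⁻¹ := by
                have : y⁻¹ = ρ := by
                  have h3 : ρ * y⁻¹ = ρ * ρ := by rw [← div_eq_mul_inv, hz, pow_two]
                  exact mul_left_cancel h3
                rw [← this, inv_inv]
              apply hρinv
              rw [← hinv, hρy]
              group
          · exact h
        have hy4 : y ^ 4 = 1 := by
          rw [show 4 = 2 * 2 by norm_num, pow_mul, hyρ, ← pow_mul]; exact hρ4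
        refine ⟨ρ / y, y, hw, ?_, hyN, ?_, hy2N⟩
        · have := orderOf_eq_prime_pow (x := ρ / y) (p := 2) (n := 1)
            (by
              rw [pow_one, hw2, hyρ]
              intro h
              exact hρ2 (inv_eq_one.mp h))
            (by
              rw [show 2 ^ (1 + 1) = 2 * 2 by norm_num, pow_mul, hw2, inv_pow, ← pow_mul]
              rw [hy4, inv_one])
          simpa using this
        · have hy3 : y ^ 3 = y⁻¹ := by
            have : y ^ 3 * y = 1 := by rw [← pow_succ]; exact hy4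
            exact eq_inv_of_mul_eq_one_left this
          calc y * (ρ / y) * y⁻¹ = (y * ρ) * y⁻¹ * y⁻¹ := by rw [div_eq_mul_inv]; group
            _ = ρ⁻¹ * y * y⁻¹ * y⁻¹ := by rw [R1]
            _ = ρ⁻¹ * y⁻¹ := by group
            _ = ρ⁻¹ * y ^ 3 := by rw [hy3]
            _ = ρ⁻¹ * (y ^ 2 * y) := by rw [pow_succ]
            _ = ρ⁻¹ * (ρ ^ 2 * y) := by rw [hyρ]
            _ = ρ * y := by group
            _ = y * ρ⁻¹ := R2.symm
            _ = (ρ / y)⁻¹ := by rw [div_eq_mul_inv]; group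
  -- `u ^ 2` is the involution of `N`
  have hu4' : u ^ 4 = 1 := by rw [← hu4]; exact pow_orderOf_eq_one u
  have hu2 : u ^ 2 ≠ 1 := by
    intro h
    have := orderOf_dvd_of_pow_eq_one h
    rw [hu4] at this
    omega
  have huinv : u⁻¹ ≠ u := by
    intro h
    apply hu2
    rw [pow_two]
    nth_rewrite 1 [← h]
    exact inv_mul_cancel u
  have hu2ζ : u ^ 2 = ρ ^ 2 :=
    huniq (u ^ 2) (pow_mem huN 2) (by rw [← pow_mul]; exact hu4') hu2
  -- every conjugate of `u` is `u` or `u⁻¹`
  have hconj : ∀ w : P, w * u * w⁻¹ = u ∨ w * u * w⁻¹ = u⁻¹ := by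
    intro w
    have h1 : w * u * w⁻¹ ∈ N := hNn.conj_mem u huN w
    have h2 : (w * u * w⁻¹) ^ 2 = ρ ^ 2 := by
      apply huniq _ (pow_mem h1 2)
      · rw [← pow_mul, conj_pow, hu4']; group
      · rw [conj_pow]
        intro h
        apply hu2
        have : u ^ 2 = w⁻¹ * (w * u ^ 2 * w⁻¹) * w := by group
        rw [this, h]; group
    have h3 : (w * u * w⁻¹ * u⁻¹) ^ 2 = 1 := by
      have hc : Commute (w * u * w⁻¹) u⁻¹ := hNcomm _ h1 _ (inv_mem huN)
      rw [hc.mul_pow, h2, inv_pow, hu2ζ, mul_inv_cancel]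
    by_cases h4 : w * u * w⁻¹ * u⁻¹ = 1
    · left
      exact mul_inv_eq_one.mp h4
    · right
      have h5 := huniq _ (mul_mem h1 (inv_mem huN)) h3 h4
      rw [← hu2ζ] at h5
      have : w * u * w⁻¹ = u ^ 2 * u := by rw [← h5]; group
      rw [this, ← pow_succ]
      have : u ^ (2 + 1) * u = 1 := by rw [← pow_succ]; exact hu4'
      exact eq_inv_of_mul_eq_one_left this
  -- squares centralize `u`
  have hsq : ∀ w : P, w ^ 2 * u = u * w ^ 2 := by
    intro w
    have key : w ^ 2 * u * (w ^ 2)⁻¹ = u := by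
      have e : w ^ 2 * u * (w ^ 2)⁻¹ = w * (w * u * w⁻¹) * w⁻¹ := by rw [pow_two]; group
      rw [e]
      rcases hconj w with h | h
      · rw [h, h]
      · rw [h]
        have : w * u⁻¹ * w⁻¹ = (w * u * w⁻¹)⁻¹ := by group
        rw [this, h, inv_inv]
    calc w ^ 2 * u = w ^ 2 * u * (w ^ 2)⁻¹ * w ^ 2 := by group
      _ = u * w ^ 2 := by rw [key]
  -- anything commuting with `u` and differing from `v` by an element of `N` is impossible
  have hvcomm : ¬ v * u = u * v := by
    intro h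
    apply huinv
    rw [← hvu, h, mul_inv_cancel_right]
  -- index two
  have hidx : ∀ x : P, x ∈ N ∨ v⁻¹ * x ∈ N := by
    obtain ⟨g0, hg0⟩ := IsCyclic.exists_generator (α := P ⧸ N)
    obtain ⟨b, rfl⟩ := QuotientGroup.mk_surjective g0
    obtain ⟨j, hj⟩ := mem_zpowers_iff.mp (hg0 (QuotientGroup.mk v))
    have hjodd : ¬ Even j := by
      rintro ⟨i, rfl⟩
      have h1 : (QuotientGroup.mk ((b ^ i) ^ 2) : P ⧸ N) = QuotientGroup.mk v := by
        rw [← hj, QuotientGroup.mk_pow, QuotientGroup.mk_zpow, ← zpow_natCast, ← zpow_mul]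
        congr 1; push_cast; ring
      have h2 : ((b ^ i) ^ 2)⁻¹ * v ∈ N := QuotientGroup.eq.mp h1
      apply hvcomm
      have e : v = (b ^ i) ^ 2 * (((b ^ i) ^ 2)⁻¹ * v) := by group
      rw [e, mul_assoc, hNcomm _ h2 u huN, ← mul_assoc, hsq, mul_assoc]
    have hvQ : (QuotientGroup.mk v : P ⧸ N) ≠ 1 := fun h => hvN ((QuotientGroup.eq_one_iff _).mp h)
    have hv2Q : (QuotientGroup.mk v : P ⧸ N) ^ 2 = 1 := by
      rw [← QuotientGroup.mk_pow]; exact (QuotientGroup.eq_one_iff _).mpr hv2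
    have hcard : Nat.card (P ⧸ N) = orderOf (QuotientGroup.mk b : P ⧸ N) :=
      (orderOf_eq_card_of_forall_mem_zpowers hg0).symm
    obtain ⟨k, hk⟩ := (hP.to_quotient N).exists_card_eq
    have hdvd : ((2 ^ k : ℕ) : ℤ) ∣ 2 * j := by
      rw [← hk, hcard]
      apply orderOf_dvd_iff_zpow_eq_one.mpr
      rw [mul_comm, zpow_mul, hj, zpow_ofNat]
      exact hv2Q
    have hk1 : k ≤ 1 := by
      by_contra hk2
      push Not at hk2
      apply hjodd
      have h4 : ((2 ^ 2 : ℕ) : ℤ) ∣ 2 * j :=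
        dvd_trans (by exact_mod_cast pow_dvd_pow 2 hk2) hdvd
      have : (2 : ℤ) ∣ j := by
        have h4' : (2 : ℤ) * 2 ∣ 2 * j := by simpa using h4
        exact (mul_dvd_mul_iff_left (by norm_num)).mp h4'
      exact even_iff_two_dvd.mpr this
    have hcard2 : Nat.card (P ⧸ N) = 2 := by
      interval_cases k
      · exfalso
        rw [pow_zero] at hk
        haveI := (Nat.card_eq_one_iff_unique.mp hk).1
        exact hvQ (Subsingleton.elim _ _)
      · simpa using hk
    obtain ⟨q0, -, hq0⟩ := (Nat.card_eq_two_iff' (1 : P ⧸ N)).mp hcard2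
    intro x
    by_cases hx : (QuotientGroup.mk x : P ⧸ N) = 1
    · left; exact (QuotientGroup.eq_one_iff _).mp hx
    · right
      have h1 := hq0 _ hx
      have h2 := hq0 _ hvQ
      exact QuotientGroup.eq.mp (h2.trans h1.symm)
  -- a generator of `N`
  obtain ⟨g, hg⟩ := IsCyclic.exists_generator (α := N)
  have hNa : ∀ x : P, x ∈ N ↔ x ∈ zpowers (g : P) := by
    intro x
    constructor
    · intro hx
      obtain ⟨k, hk⟩ := mem_zpowers_iff.mp (hg ⟨x, hx⟩)
      refine mem_zpowers_iff.mpr ⟨k, ?_⟩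
      have := congrArg Subtype.val hk
      simpa using this
    · intro hx
      obtain ⟨k, rfl⟩ := mem_zpowers_iff.mp hx
      exact zpow_mem g.2 k
  obtain ⟨m, hm⟩ := (hP.to_subgroup N).exists_card_eq
  have ha : orderOf (g : P) = 2 ^ m := by
    rw [← hm, Subgroup.orderOf_coe]
    exact orderOf_eq_card_of_forall_mem_zpowers hg
  have huz : u ∈ zpowers (g : P) := (hNa u).mp huN
  -- `v` differs from any `x ∉ N` by an element of `N`; if `x` centralizes `u` so does `v`
  have hkey : ∀ x : P, x * u = u * x → x ∈ zpowers (g : P) := by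
    intro x hx
    rw [← hNa]
    by_contra hxN
    rcases hidx x with h | h
    · exact hxN h
    · apply hvcomm
      have e : v = x * (v⁻¹ * x)⁻¹ := by group
      rw [e, mul_assoc, hNcomm _ (inv_mem h) u huN, ← mul_assoc, hx, mul_assoc]
  have hm2 : 2 ≤ m := by
    have h4 : 4 ∣ 2 ^ m := by
      rw [← hm, ← hu4]
      have := Subgroup.orderOf_dvd_natCard N huN
      exact this
    by_contra hlt
    push Not at hlt
    interval_cases m <;> omega
  have h := Cfsg.Agent.Helper63.CSC.dqsd_of_cyclic_selfcentralizing hP ha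
    (fun w => (hNa _).mp (hNn.conj_mem _ g.2 w))
    (fun x hx => hkey x (by
      obtain ⟨k, hk⟩ := mem_zpowers_iff.mp huz
      rw [← hk]
      exact ((Commute.zpow_right (show Commute x (g : P) from hx) k)).eq))
    (fun htop => hvN ((hNa v).mpr (by rw [htop]; exact mem_top v)))
    (fun hm3 x hx => hkey x (by
      have hu' : u ∈ zpowers ((g : P) ^ 2 ^ (m - 2)) :=
        Cfsg.Agent.Helper63.CSC.mem_zpowers_pow_of_pow_eq_one (p := 2) ha hm2 huz
          (by rw [show (2 : ℕ) ^ 2 = 4 by norm_num]; exact hu4')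
      have hpow : (g : P) ^ 2 ^ (m - 2) = ((g : P) ^ 2) ^ 2 ^ (m - 3) := by
        rw [← pow_mul, ← pow_succ']
        congr 2; omega
      rw [hpow] at hu'
      obtain ⟨k, hk⟩ := mem_zpowers_iff.mp hu'
      rw [← hk]
      exact ((Commute.zpow_right (Commute.pow_right (show Commute x ((g : P) ^ 2) from hx) _) k)).eq))
  exact h.2

end Cfsg.Agent.Helper35.MetaTwoC
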