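import Cfsg.Agent.Helper78.Olsson.Defs

/-!
# (ARITH) piece of Olsson's theorem (S4539, architect helper78)

The arithmetic of a reduced Cartan matrix `C` with `C g = p^d` and `p ∣ det g`.
-/

set_option autoImplicit false

namespace Cfsg.Agent.Helper35.Olsson

open Cfsg.Agent.Helper78.Olsson

/-- a positive integer divisor of a prime power is a prime power. -/
theorem int_dvd_prime_pow {p : ℕ} (hp : p.Prime) {d : ℕ} {c : ℤ} (hc : 0 < c)
    (h : c ∣ ((p ^ d : ℕ) : ℤ)) : ∃ k, k ≤ d ∧ c = ((p ^ k : ℕ) : ℤ) := by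
  obtain ⟨cn, rfl⟩ : ∃ cn : ℕ, c = cn := ⟨c.toNat, (Int.toNat_of_nonneg hc.le).symm⟩
  rw [Int.natCast_dvd_natCast] at h
  obtain ⟨k, hk, rfl⟩ := (Nat.dvd_prime_pow hp).1 h
  exact ⟨k, hk, rfl⟩

/-- gcd of three integers with Bezout coefficients, in divided form. -/
theorem gcd3 (a b c : ℤ) (ha : 0 < a) :
    ∃ g0 a' b' c' u v w : ℤ, 0 < g0 ∧ a = g0 * a' ∧ b = g0 * b' ∧ c = g0 * c' ∧
      u * a' + v * b' + w * c' = 1 := by
  have h1a : ((Int.gcd a b : ℕ) : ℤ) ∣ a := Int.gcd_dvd_left ..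
  have h1b : ((Int.gcd a b : ℕ) : ℤ) ∣ b := Int.gcd_dvd_right ..
  have h0g : ((Int.gcd (Int.gcd a b : ℤ) c : ℕ) : ℤ) ∣ ((Int.gcd a b : ℕ) : ℤ) :=
    Int.gcd_dvd_left ..
  have h0c : ((Int.gcd (Int.gcd a b : ℤ) c : ℕ) : ℤ) ∣ c := Int.gcd_dvd_right ..
  have hg1 : ((Int.gcd a b : ℕ) : ℤ) ≠ 0 := by
    have : 0 < Int.gcd a b := Int.gcd_pos_of_ne_zero_left _ ha.ne'
    exact_mod_cast this.ne'
  have hg0 : 0 < ((Int.gcd (Int.gcd a b : ℤ) c : ℕ) : ℤ) := by
    have : 0 < Int.gcd (Int.gcd a b : ℤ) c := Int.gcd_pos_of_ne_zero_left _ hg1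
    exact_mod_cast this
  have bz1 := Int.gcd_eq_gcd_ab a b
  have bz0 := Int.gcd_eq_gcd_ab (Int.gcd a b : ℤ) c
  generalize ((Int.gcd (Int.gcd a b : ℤ) c : ℕ) : ℤ) = g0 at *
  generalize Int.gcdA (Int.gcd a b : ℤ) c = s at *
  generalize Int.gcdB (Int.gcd a b : ℤ) c = t at *
  generalize ((Int.gcd a b : ℕ) : ℤ) = g1 at *
  generalize Int.gcdA a b = x at *
  generalize Int.gcdB a b = y at *
  obtain ⟨a', ha'⟩ := h0g.trans h1a
  obtain ⟨b', hb'⟩ := h0g.trans h1b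
  obtain ⟨c', hc'⟩ := h0c
  refine ⟨g0, a', b', c', x * s, y * s, t, hg0, ha', hb', hc', ?_⟩
  have : g0 * (x * s * a' + y * s * b' + t * c') = g0 * 1 := by
    rw [mul_one]
    calc g0 * (x * s * a' + y * s * b' + t * c')
        = ((g0 * a') * x + (g0 * b') * y) * s + (g0 * c') * t := by ring
      _ = g0 := by rw [← ha', ← hb', ← hc', ← bz1, ← bz0]
  exact mul_left_cancel₀ hg0.ne' this

/-- scalar form of (ARITH). -/
theorem arith_scalar {p : ℕ} (hp : p.Prime) (d : ℕ) (a b c g00 g01 g10 g11 : ℤ)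
    (hb0 : 0 ≤ 2 * b) (hba : 2 * b ≤ a) (hac : a ≤ c) (ha : 0 < a)
    (e00 : a * g00 + b * g10 = ((p ^ d : ℕ) : ℤ))
    (e01 : a * g01 + b * g11 = 0)
    (e10 : b * g00 + c * g10 = 0)
    (e11 : b * g01 + c * g11 = ((p ^ d : ℕ) : ℤ))
    (hdet : (p : ℤ) ∣ g00 * g11 - g01 * g10) :
    a + c - b ≤ ((p ^ d : ℕ) : ℤ) ∨
      ∃ e : ℕ, e < d ∧ a = ((p ^ e : ℕ) : ℤ) ∧ b = 0 ∧ c = ((p ^ d : ℕ) : ℤ) ∧
        g00 = ((p ^ (d - e) : ℕ) : ℤ) ∧ g01 = 0 ∧ g10 = 0 ∧ g11 = 1 := by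
  have hNpos : (0 : ℤ) < ((p ^ d : ℕ) : ℤ) := by exact_mod_cast pow_pos hp.pos d
  have hb : 0 ≤ b := by linarith
  by_cases hdiv : a ∣ b ∧ a ∣ c
  · -- the diagonal case
    obtain ⟨hab, -⟩ := hdiv
    have hbz : b = 0 := by
      by_contra hne
      have hbpos : 0 < b := lt_of_le_of_ne hb (Ne.symm hne)
      have := Int.le_of_dvd hbpos hab
      linarith
    subst hbz
    simp only [zero_mul, add_zero, zero_add] at e00 e01 e10 e11
    have hc : 0 < c := lt_of_lt_of_le ha hac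
    have hg01 : g01 = 0 := by
      rcases mul_eq_zero.1 e01 with h | h
      · exact absurd h ha.ne'
      · exact h
    have hg10 : g10 = 0 := by
      rcases mul_eq_zero.1 e10 with h | h
      · exact absurd h hc.ne'
      · exact h
    obtain ⟨k, hk, hck⟩ := int_dvd_prime_pow hp hc ⟨g11, e11.symm⟩
    obtain ⟨e, he, hae⟩ := int_dvd_prime_pow hp ha ⟨g00, e00.symm⟩
    rcases hk.lt_or_eq with hlt | hkd
    · left
      have h1 : (2 : ℤ) * ((p ^ k : ℕ) : ℤ) ≤ ((p ^ d : ℕ) : ℤ) := by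
        have : 2 * p ^ k ≤ p ^ d := by
          calc 2 * p ^ k ≤ p * p ^ k := Nat.mul_le_mul_right _ hp.two_le
            _ = p ^ (k + 1) := by ring
            _ ≤ p ^ d := Nat.pow_le_pow_right hp.pos hlt
        exact_mod_cast this
      linarith
    · right
      rw [hkd] at hck
      have hg11 : g11 = 1 := by
        have : ((p ^ d : ℕ) : ℤ) * g11 = ((p ^ d : ℕ) : ℤ) * 1 := by
          rw [mul_one, ← hck, e11, hck]
        exact mul_left_cancel₀ hNpos.ne' this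
      have hg00 : g00 = ((p ^ (d - e) : ℕ) : ℤ) := by
        have hpe : (0 : ℤ) < ((p ^ e : ℕ) : ℤ) := by exact_mod_cast pow_pos hp.pos e
        have : ((p ^ e : ℕ) : ℤ) * g00 = ((p ^ e : ℕ) : ℤ) * ((p ^ (d - e) : ℕ) : ℤ) := by
          rw [← hae, e00]
          have : p ^ d = p ^ e * p ^ (d - e) := by
            rw [← pow_add, Nat.add_sub_cancel' he]
          rw [hae]
          exact_mod_cast this
        exact mul_left_cancel₀ hpe.ne' this
      refine ⟨e, ?_, hae, rfl, hck, hg00, hg01, hg10, hg11⟩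
      rcases he.lt_or_eq with hlt | hed
      · exact hlt
      · exfalso
        rw [hg00, hg11, hg01, hed, Nat.sub_self, pow_zero] at hdet
        simp only [Nat.cast_one, mul_one, zero_mul, sub_zero] at hdet
        have : p ∣ 1 := by exact_mod_cast hdet
        exact hp.one_lt.ne' (Nat.dvd_one.1 this)
  · -- the general case
    left
    obtain ⟨g0, a', b', c', u, v, w, hg0, rfl, rfl, rfl, hbez⟩ := gcd3 a b c ha
    have ha' : 0 < a' := (mul_pos_iff_of_pos_left hg0).1 ha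
    have hb' : 0 ≤ b' := by
      have : 0 ≤ g0 * b' := hb
      exact (mul_nonneg_iff_of_pos_left hg0).1 this
    have hba' : 2 * b' ≤ a' := by
      have : g0 * (2 * b') ≤ g0 * a' := by linarith
      exact le_of_mul_le_mul_left this hg0
    have hac' : a' ≤ c' := le_of_mul_le_mul_left hac hg0
    have ha2 : 2 ≤ a' := by
      by_contra hlt
      have : a' = 1 := by omega
      subst this
      apply hdiv
      rw [mul_one]
      exact ⟨Dvd.intro _ rfl, Dvd.intro _ rfl⟩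
    have hkey : a' + c' - b' ≤ a' * c' - b' ^ 2 := by
      rcases hb'.eq_or_lt with h0 | hpos
      · subst h0
        nlinarith [mul_nonneg (sub_nonneg.2 ha2) (sub_nonneg.2 (le_trans ha2 hac'))]
      · have hb1 : 1 ≤ b' := hpos
        nlinarith [mul_nonneg (sub_nonneg.2 hb1) hb', mul_nonneg (sub_nonneg.2 hba') hb',
          mul_nonneg (sub_nonneg.2 hba') (sub_nonneg.2 hba'),
          mul_nonneg (sub_nonneg.2 hac') (sub_nonneg.2 ha2), sq_nonneg (a' - 2 * b')]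
    have hδ : 0 < a' * c' - b' ^ 2 := by
      have : 0 < a' + c' - b' := by linarith
      linarith
    -- the three adjugate equations, divided by `g0`
    have E00 : g0 * (a' * c' - b' ^ 2) * g00 = c' * ((p ^ d : ℕ) : ℤ) := by
      have : g0 * (g0 * (a' * c' - b' ^ 2) * g00) = g0 * (c' * ((p ^ d : ℕ) : ℤ)) := by
        linear_combination (g0 * c') * e00 - (g0 * b') * e10
      exact mul_left_cancel₀ hg0.ne' this
    have E11 : g0 * (a' * c' - b' ^ 2) * g11 = a' * ((p ^ d : ℕ) : ℤ) := by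
      have : g0 * (g0 * (a' * c' - b' ^ 2) * g11) = g0 * (a' * ((p ^ d : ℕ) : ℤ)) := by
        linear_combination (g0 * a') * e11 - (g0 * b') * e01
      exact mul_left_cancel₀ hg0.ne' this
    have E01 : g0 * (a' * c' - b' ^ 2) * g01 = -(b' * ((p ^ d : ℕ) : ℤ)) := by
      have : g0 * (g0 * (a' * c' - b' ^ 2) * g01) = g0 * (-(b' * ((p ^ d : ℕ) : ℤ))) := by
        linear_combination (g0 * c') * e01 - (g0 * b') * e11
      exact mul_left_cancel₀ hg0.ne' this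
    have hD : g0 * (a' * c' - b' ^ 2) ∣ ((p ^ d : ℕ) : ℤ) := by
      refine ⟨u * g11 - v * g01 + w * g00, ?_⟩
      linear_combination (-((p ^ d : ℕ) : ℤ)) * hbez - u * E11 + v * E01 - w * E00
    have hDle : g0 * (a' * c' - b' ^ 2) ≤ ((p ^ d : ℕ) : ℤ) := Int.le_of_dvd hNpos hD
    have : g0 * (a' + c' - b') ≤ g0 * (a' * c' - b' ^ 2) :=
      mul_le_mul_of_nonneg_left hkey hg0.le
    linarith

/-- (ARITH) the arithmetic of a reduced Cartan matrix `C` with `C g = p^d` and `p ∣ det g`. -/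
theorem arith {p : ℕ} (hp : p.Prime) (d : ℕ) (C g : Matrix (Fin 2) (Fin 2) ℤ)
    (hCs : C 0 1 = C 1 0) (hred : IsReduced C) (hpos : 0 < C 0 0)
    (hCg : C * g = ((p ^ d : ℕ) : ℤ) • (1 : Matrix (Fin 2) (Fin 2) ℤ)) (hdet : (p : ℤ) ∣ g.det) :
    C 0 0 + C 1 1 - C 0 1 ≤ ((p ^ d : ℕ) : ℤ) ∨
      ∃ e : ℕ, e < d ∧ C 0 0 = ((p ^ e : ℕ) : ℤ) ∧ C 0 1 = 0 ∧ C 1 1 = ((p ^ d : ℕ) : ℤ) ∧
        g 0 0 = ((p ^ (d - e) : ℕ) : ℤ) ∧ g 0 1 = 0 ∧ g 1 0 = 0 ∧ g 1 1 = 1 := by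
  obtain ⟨h1, h2, h3⟩ := hred
  have e00 := congrFun (congrFun hCg 0) 0
  have e01 := congrFun (congrFun hCg 0) 1
  have e10 := congrFun (congrFun hCg 1) 0
  have e11 := congrFun (congrFun hCg 1) 1
  simp only [Matrix.mul_apply, Fin.sum_univ_two, Matrix.smul_apply, Matrix.one_apply,
    smul_eq_mul] at e00 e01 e10 e11
  rw [← hCs] at e10 e11
  rw [Matrix.det_fin_two] at hdet
  refine arith_scalar hp d (C 0 0) (C 0 1) (C 1 1) (g 0 0) (g 0 1) (g 1 0) (g 1 1) h1 h2 h3 hpos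
    ?_ ?_ ?_ ?_ hdet
  · simpa using e00
  · simpa using e01
  · simpa using e10
  · simpa using e11

end Cfsg.Agent.Helper35.Olsson
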