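import Mathlib
import Cfsg.Agent.Helper99.P4Defs

/-!
# Piece (D7) of S6000 (helper99): derangements of prime order `r ≥ 7`
-/

set_option autoImplicit false
open scoped MatrixGroups

namespace Cfsg.Agent.Helper35.P4

open Matrix Cfsg.Agent.Helper99.P4 Cfsg.Geo

variable {F : Type*} [Field F]

/-- conjugating a scalar matrix gives the same scalar matrix -/
theorem eq_scalar_of_conj_eq_scalar (x g : GL (Fin 4) F) (z : F)
    (h : ((g⁻¹ * x * g : GL (Fin 4) F) : Matrix (Fin 4) (Fin 4) F) = z • 1) :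
    (x : Matrix (Fin 4) (Fin 4) F) = z • 1 := by
  have hx : x = g * (g⁻¹ * x * g) * g⁻¹ := by group
  have h2 : (x : Matrix (Fin 4) (Fin 4) F) =
      (g : Matrix (Fin 4) (Fin 4) F) * ((g⁻¹ * x * g : GL (Fin 4) F) : Matrix (Fin 4) (Fin 4) F) *
        ((g⁻¹ : GL (Fin 4) F) : Matrix (Fin 4) (Fin 4) F) := by
    conv_lhs => rw [hx]
    simp only [Units.val_mul]
  rw [h2, h, Matrix.mul_smul, Matrix.mul_one, Matrix.smul_mul, ← Units.val_mul, mul_inv_cancel,
    Units.val_one]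

theorem exists_derangement_ge7 [Fintype F] {i : F} (hi : i ^ 2 = -1) (r : ℕ) (hr : r.Prime)
    (h7 : 7 ≤ r) (hdvd : r ∣ Nat.card (specialLinear (Fin 4) F))
    (hN : ∀ g ∈ N0 i hi, (∃ z : F, ((g ^ r : GL (Fin 4) F) : Matrix (Fin 4) (Fin 4) F) = z • 1) →
      ∃ z : F, (g : Matrix (Fin 4) (Fin 4) F) = z • 1) :
    ∃ x ∈ specialLinear (Fin 4) F,
      (∃ z : F, ((x ^ r : GL (Fin 4) F) : Matrix (Fin 4) (Fin 4) F) = z • 1) ∧
      (∀ z : F, (x : Matrix (Fin 4) (Fin 4) F) ≠ z • 1) ∧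
      ∀ g : GL (Fin 4) F, g⁻¹ * x * g ∉ N0 i hi := by
  classical
  have _ : Fact r.Prime := ⟨hr⟩
  have _ : Finite (GL (Fin 4) F) := inferInstance
  obtain ⟨y, hy⟩ := exists_prime_orderOf_dvd_card' r hdvd
  have hxr : ((y : GL (Fin 4) F)) ^ r = 1 := by
    have h1 : y ^ r = 1 := by rw [← hy]; exact pow_orderOf_eq_one y
    have h2 := congrArg (Subtype.val) h1
    simpa using h2
  have hns : ∀ z : F, ((y : GL (Fin 4) F) : Matrix (Fin 4) (Fin 4) F) ≠ z • 1 := by
    intro z hz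
    -- determinant: `z ^ 4 = 1`
    have hdet : ((y : GL (Fin 4) F) : Matrix (Fin 4) (Fin 4) F).det = 1 := by
      have hmem : (y : GL (Fin 4) F) ∈ specialLinear (Fin 4) F := y.2
      have h1 : Matrix.GeneralLinearGroup.det (y : GL (Fin 4) F) = 1 := hmem
      have h2 := congrArg (Units.val) h1
      simpa using h2
    have hz4 : z ^ 4 = 1 := by
      rw [hz, Matrix.det_smul, Matrix.det_one, mul_one] at hdet
      simpa using hdet
    -- `z ^ r = 1`
    have hzr : z ^ r = 1 := by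
      have h1 : (((y : GL (Fin 4) F) ^ r : GL (Fin 4) F) : Matrix (Fin 4) (Fin 4) F) = 1 := by
        rw [hxr]; rfl
      rw [Units.val_pow_eq_pow_val, hz, smul_pow, one_pow] at h1
      have h2 := congrFun (congrFun h1 0) 0
      simpa using h2
    have hcop : Nat.gcd 4 r = 1 := by
      have h2 : Nat.Coprime 2 r := by
        rw [Nat.coprime_primes Nat.prime_two hr]
        omega
      have h4 : Nat.Coprime (2 ^ 2) r := Nat.Coprime.pow_left 2 h2
      exact h4
    have hz1 : z = 1 := by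
      have h := pow_gcd_eq_one.2 ⟨hz4, hzr⟩
      rw [hcop, pow_one] at h
      exact h
    have hy1 : (y : GL (Fin 4) F) = 1 := by
      apply Units.ext
      rw [hz, hz1, one_smul]; rfl
    have hy1' : y = 1 := Subtype.ext hy1
    rw [hy1', orderOf_one] at hy
    have := hr.one_lt
    omega
  refine ⟨(y : GL (Fin 4) F), y.2, ⟨1, ?_⟩, hns, ?_⟩
  · rw [hxr, one_smul]; rfl
  · intro g hg
    have hpow : (g⁻¹ * (y : GL (Fin 4) F) * g) ^ r = 1 := by
      have h1 : g⁻¹ * (y : GL (Fin 4) F) * g = g⁻¹ * (y : GL (Fin 4) F) * g⁻¹⁻¹ := by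
        rw [inv_inv]
      rw [h1, conj_pow, hxr, mul_one, inv_inv, inv_mul_cancel]
    obtain ⟨z, hz⟩ := hN _ hg ⟨1, by rw [hpow, one_smul]; rfl⟩
    exact hns z (eq_scalar_of_conj_eq_scalar _ g z hz)

end Cfsg.Agent.Helper35.P4
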