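import Mathlib
import Cfsg.Agent.Helper99.P4Defs

/-!
# Piece (Dp) of S6000 (helper99): a transvection is a derangement of order `p`
-/

set_option autoImplicit false
set_option linter.unusedSimpArgs false
open scoped MatrixGroups

namespace Cfsg.Agent.Helper35.P4

open Matrix Cfsg.Agent.Helper99.P4 Cfsg.Geo

variable {F : Type*} [Field F]

/-- the first two standard basis vectors -/
def e0v : Fin 4 → F := Pi.single 0 1
def e1v : Fin 4 → F := Pi.single 1 1

theorem e1v_dot_e0v : (e1v : Fin 4 → F) ⬝ᵥ e0v = 0 := by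
  simp [e0v, e1v, dotProduct, Pi.single_apply]

theorem e0v_ne_zero : (e0v : Fin 4 → F) ≠ 0 := by
  intro h
  have := congrFun h 0
  simp [e0v] at this

theorem e1v_ne_zero : (e1v : Fin 4 → F) ≠ 0 := by
  intro h
  have := congrFun h 1
  simp [e1v] at this

/-- the nilpotent matrix `E₀₁` -/
def nE : Matrix (Fin 4) (Fin 4) F := Matrix.vecMulVec e0v e1v

theorem nE_mul_nE : (nE : Matrix (Fin 4) (Fin 4) F) * nE = 0 := by
  rw [nE, Matrix.vecMulVec_mul_vecMulVec, e1v_dot_e0v, zero_smul]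
  ext a b
  simp [Matrix.vecMulVec_apply]

theorem one_add_nE_mul : ((1 : Matrix (Fin 4) (Fin 4) F) + nE) * (1 - nE) = 1 := by
  rw [Matrix.add_mul, Matrix.mul_sub, Matrix.mul_sub, nE_mul_nE]
  simp

theorem one_sub_nE_mul : ((1 : Matrix (Fin 4) (Fin 4) F) - nE) * (1 + nE) = 1 := by
  rw [Matrix.sub_mul, Matrix.mul_add, Matrix.mul_add, nE_mul_nE]
  simp

/-- the transvection `1 + E₀₁` in `GL₄(F)` -/
def tE : GL (Fin 4) F := ⟨1 + nE, 1 - nE, one_add_nE_mul, one_sub_nE_mul⟩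

theorem tE_val : ((tE : GL (Fin 4) F) : Matrix (Fin 4) (Fin 4) F) = 1 + nE := rfl

theorem one_add_nE_eq : ((1 : Matrix (Fin 4) (Fin 4) F) + nE) = Matrix.transvection 0 1 1 := by
  ext a b
  fin_cases a <;> fin_cases b <;>
    simp [nE, e0v, e1v, Matrix.vecMulVec_apply, Matrix.transvection, Matrix.single_apply,
      Matrix.one_apply]

theorem tE_mem_SL : (tE : GL (Fin 4) F) ∈ specialLinear (Fin 4) F := by
  change Matrix.GeneralLinearGroup.det (tE : GL (Fin 4) F) = 1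
  apply Units.ext
  change ((tE : GL (Fin 4) F) : Matrix (Fin 4) (Fin 4) F).det = 1
  rw [tE_val, one_add_nE_eq, Matrix.det_transvection_of_ne]
  decide

theorem one_add_nE_pow (n : ℕ) :
    ((1 : Matrix (Fin 4) (Fin 4) F) + nE) ^ n = 1 + (n : F) • nE := by
  induction n with
  | zero => simp
  | succ n ih =>
    rw [pow_succ, ih, Matrix.add_mul, Matrix.mul_add, Matrix.mul_add]
    simp only [Matrix.smul_mul, nE_mul_nE, Matrix.one_mul, Matrix.mul_one, smul_zero, add_zero,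
      Nat.cast_succ, add_smul, one_smul]
    abel

theorem conj_tE (g : GL (Fin 4) F) :
    ((g⁻¹ * tE * g : GL (Fin 4) F) : Matrix (Fin 4) (Fin 4) F) =
      1 + Matrix.vecMulVec (((g⁻¹ : GL (Fin 4) F) : Matrix (Fin 4) (Fin 4) F) *ᵥ e0v)
        (e1v ᵥ* (g : Matrix (Fin 4) (Fin 4) F)) := by
  rw [Units.val_mul, Units.val_mul, tE_val, Matrix.mul_add, Matrix.add_mul, Matrix.mul_one,
    ← Units.val_mul, inv_mul_cancel, Units.val_one, nE, Matrix.mul_vecMulVec,
    Matrix.vecMulVec_mul]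

theorem exists_derangement_p {i : F} (hi : i ^ 2 = -1) (_h2 : (2 : F) ≠ 0) {p : ℕ} [Fact p.Prime]
    [CharP F p]
    (hTV : ∀ (u φ : Fin 4 → F), u ≠ 0 → φ ≠ 0 → φ ⬝ᵥ u = 0 → ∀ t : GL (Fin 4) F,
      (t : Matrix (Fin 4) (Fin 4) F) = 1 + Matrix.vecMulVec u φ → t ∉ N0 i hi) :
    ∃ x ∈ specialLinear (Fin 4) F,
      (∃ z : F, ((x ^ p : GL (Fin 4) F) : Matrix (Fin 4) (Fin 4) F) = z • 1) ∧
      (∀ z : F, (x : Matrix (Fin 4) (Fin 4) F) ≠ z • 1) ∧
      ∀ g : GL (Fin 4) F, g⁻¹ * x * g ∉ N0 i hi := by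
  refine ⟨tE, tE_mem_SL, ⟨1, ?_⟩, ?_, ?_⟩
  · rw [Units.val_pow_eq_pow_val, tE_val, one_add_nE_pow, CharP.cast_eq_zero, zero_smul, add_zero,
      one_smul]
  · intro z hz
    have h := congrFun (congrFun hz 0) 1
    rw [tE_val] at h
    simp [nE, e0v, e1v, Matrix.vecMulVec_apply] at h
  · intro g
    apply hTV _ _ ?_ ?_ ?_ _ (conj_tE g)
    · intro h
      have h1 : (g : Matrix (Fin 4) (Fin 4) F) *ᵥ
          (((g⁻¹ : GL (Fin 4) F) : Matrix (Fin 4) (Fin 4) F) *ᵥ e0v) = e0v := by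
        rw [Matrix.mulVec_mulVec, ← Units.val_mul, mul_inv_cancel, Units.val_one,
          Matrix.one_mulVec]
      rw [h, Matrix.mulVec_zero] at h1
      exact e0v_ne_zero h1.symm
    · intro h
      have h1 : (e1v ᵥ* (g : Matrix (Fin 4) (Fin 4) F)) ᵥ*
          ((g⁻¹ : GL (Fin 4) F) : Matrix (Fin 4) (Fin 4) F) = e1v := by
        rw [Matrix.vecMul_vecMul, ← Units.val_mul, mul_inv_cancel, Units.val_one,
          Matrix.vecMul_one]
      rw [h, Matrix.zero_vecMul] at h1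
      exact e1v_ne_zero h1.symm
    · rw [← Matrix.dotProduct_mulVec, Matrix.mulVec_mulVec, ← Units.val_mul, mul_inv_cancel,
        Units.val_one, Matrix.one_mulVec, e1v_dot_e0v]

end Cfsg.Agent.Helper35.P4
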