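import Mathlib
import Cfsg.Agent.Helper99.P4Defs

/-!
# Piece (N6) of S6000 (helper99): fixed points of an additive map of prime order on `V4`
-/

set_option autoImplicit false

namespace Cfsg.Agent.Helper35.P4

open Cfsg.Agent.Helper99.P4

theorem card_fix_modEq {α : Type*} [Fintype α] [DecidableEq α] (σ : α → α) (r : ℕ) (hr : r.Prime)
    (hpow : ∀ v, σ^[r] v = v) :
    Fintype.card α ≡ (Finset.univ.filter (fun v : α => σ v = v)).card [MOD r] := by
  have _ : Fact r.Prime := ⟨hr⟩
  have key : ∀ f : Function.End α, (∀ v, f v = σ v) → f ^ r ^ 1 = 1 := by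
    intro f hfσ
    rw [pow_one]
    have h : ∀ (n : ℕ) (v : α), (f ^ n) v = σ^[n] v := by
      intro n
      induction n with
      | zero => intro v; rfl
      | succ n ih =>
        intro v
        rw [pow_succ, Function.iterate_succ_apply, ← hfσ v]
        exact ih (f v)
    exact funext fun v => (h r v).trans (hpow v)
  have hf := key σ (fun _ => rfl)
  have h := Equiv.Perm.card_fixedPoints_modEq (p := r) (n := 1) hf
  have h3 : Fintype.card (Function.fixedPoints σ) =
      (Finset.univ.filter (fun v : α => σ v = v)).card := by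
    rw [Fintype.card_subtype]
    rfl
  rw [← h3]
  exact h

theorem fix_card (σ : V4 → V4) (hadd : ∀ u v, σ (u + v) = σ u + σ v) (r : ℕ) (hr : r.Prime)
    (hpow : ∀ v, σ^[r] v = v) :
    ((Finset.univ.filter (fun v : V4 => σ v = v)).card ∈ ({1, 2, 4, 8, 16} : Set ℕ)) ∧
      16 ≡ (Finset.univ.filter (fun v : V4 => σ v = v)).card [MOD r] := by
  have h0 : σ 0 = 0 := by
    have h := hadd 0 0
    rw [add_zero] at h
    exact left_eq_add.mp h
  have hneg : ∀ v : V4, -v = v := by decide
  let H : AddSubgroup V4 :=
    { carrier := {v | σ v = v}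
      zero_mem' := h0
      add_mem' := fun {a b} ha hb => by
        change σ (a + b) = a + b
        rw [hadd, ha, hb]
      neg_mem' := fun {a} ha => by
        change σ (-a) = -a
        rw [hneg]; exact ha }
  have hcard : (Finset.univ.filter (fun v : V4 => σ v = v)).card = Nat.card H := by
    have h1 : Nat.card H = Nat.card {v : V4 // σ v = v} := rfl
    rw [h1, Nat.card_eq_fintype_card, Fintype.card_subtype]
  have hV : Nat.card V4 = 16 := by
    rw [Nat.card_eq_fintype_card]; rfl
  have hdvd : Nat.card H ∣ 16 := by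
    rw [← hV]; exact AddSubgroup.card_addSubgroup_dvd_card H
  refine ⟨?_, ?_⟩
  · rw [hcard]
    have h16 : (16 : ℕ) = 2 ^ 4 := by norm_num
    rw [h16] at hdvd
    obtain ⟨m, hm, hmeq⟩ := (Nat.dvd_prime_pow Nat.prime_two).1 hdvd
    rw [hmeq]
    interval_cases m <;> simp
  · have h := card_fix_modEq σ r hr hpow
    have hV' : Fintype.card V4 = 16 := rfl
    rw [hV'] at h
    exact h

end Cfsg.Agent.Helper35.P4
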