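import Mathlib
import Cfsg.Agent.Helper99.P4Defs
import Cfsg.Agent.Helper35.P4N6

/-!
# Piece (N9) of S6000 (helper99): an isometry of order 7 of `V4` has not exactly two fixed points
-/

set_option autoImplicit false

namespace Cfsg.Agent.Helper35.P4

open Cfsg.Agent.Helper99.P4

theorem bil_self_eq_zero : ∀ w : V4, bil w w = 0 := by decide

theorem bil_zero_right_eq : ∀ w : V4, bil w 0 = 0 := by decide

theorem card_bil_eq_one : ∀ w : V4, w ≠ 0 →
    (Finset.univ.filter (fun v : V4 => bil w v = 1)).card = 8 := by decide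

theorem no_fix_two (σ : V4 → V4) (hadd : ∀ u v, σ (u + v) = σ u + σ v)
    (hbil : ∀ u v, bil (σ u) (σ v) = bil u v) (hpow : ∀ v, σ^[7] v = v) :
    (Finset.univ.filter (fun v : V4 => σ v = v)).card ≠ 2 := by
  intro hc
  have h0 : σ 0 = 0 := by
    have h := hadd 0 0
    rw [add_zero] at h
    exact left_eq_add.mp h
  -- the fixed set is `{0, w}`
  obtain ⟨w, hw0, hfix⟩ : ∃ w : V4, w ≠ 0 ∧ ∀ v, σ v = v ↔ (v = 0 ∨ v = w) := by
    obtain ⟨x, y, hxy, hs⟩ := Finset.card_eq_two.1 hc
    have hmem : ∀ v, σ v = v ↔ (v = x ∨ v = y) := by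
      intro v
      have : v ∈ Finset.univ.filter (fun v : V4 => σ v = v) ↔ v ∈ ({x, y} : Finset V4) := by
        rw [hs]
      simpa using this
    have h0m := (hmem 0).1 h0
    rcases h0m with h | h
    · refine ⟨y, ?_, ?_⟩
      · rw [h]; exact hxy.symm
      · intro v; rw [hmem v, h]
    · refine ⟨x, ?_, ?_⟩
      · rw [h]; exact hxy
      · intro v; rw [hmem v, h]; exact or_comm
  have hσw : σ w = w := (hfix w).2 (Or.inr rfl)
  -- the action on `S = {v | bil w v = 1}`
  have hstab : ∀ v : V4, bil w v = 1 → bil w (σ v) = 1 := by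
    intro v hv
    have h := hbil w v
    rw [hσw] at h
    rw [h]; exact hv
  let τ : {v : V4 // bil w v = 1} → {v : V4 // bil w v = 1} := fun v => ⟨σ v.1, hstab v.1 v.2⟩
  have hτ : ∀ (n : ℕ) (v : {v : V4 // bil w v = 1}), (τ^[n] v).1 = σ^[n] v.1 := by
    intro n
    induction n with
    | zero => intro v; rfl
    | succ n ih =>
      intro v
      rw [Function.iterate_succ_apply, Function.iterate_succ_apply, ih (τ v)]
  have hτ7 : ∀ v, τ^[7] v = v := by
    intro v
    apply Subtype.ext
    rw [hτ 7 v]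
    exact hpow v.1
  have hmod := card_fix_modEq τ 7 (by norm_num) hτ7
  have hS : Fintype.card {v : V4 // bil w v = 1} = 8 := by
    rw [Fintype.card_subtype]
    exact card_bil_eq_one w hw0
  have hempty : (Finset.univ.filter (fun v : {v : V4 // bil w v = 1} => τ v = v)) = ∅ := by
    rw [Finset.filter_eq_empty_iff]
    intro v _ hv
    have h1 : σ v.1 = v.1 := congrArg Subtype.val hv
    have h2 := v.2
    rcases (hfix v.1).1 h1 with h | h
    · rw [h, bil_zero_right_eq] at h2
      exact absurd h2 (by decide)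
    · rw [h, bil_self_eq_zero] at h2
      exact absurd h2 (by decide)
  rw [hS, hempty, Finset.card_empty] at hmod
  exact absurd hmod (by decide)

end Cfsg.Agent.Helper35.P4
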