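import Mathlib

/-!
Helper35, for S4277 (a finite simple group with a subgroup of prime index has a solvable group of outer
automorphisms): the pure group theory.

* `isSolvable_of_odd_commute`: a finite group in which any two elements of odd order commute is solvable;
* `exists_odd_lift`: elements of odd order of a quotient lift to elements of odd order;
* `comm_mem_of_prime_degree`: for a transitive permutation group `Γ` of prime degree, the quotient `N(Γ)/Γ` of its
  normalizer in the symmetric group is abelian.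
-/

set_option autoImplicit false

namespace Cfsg.Agent.Helper35.PrimeIndexOut

open scoped Pointwise

/-- A finite group in which any two elements of odd order commute is solvable. -/
theorem isSolvable_of_odd_commute {Q : Type*} [Group Q] [Finite Q]
    (h : ∀ x y : Q, Odd (orderOf x) → Odd (orderOf y) → x * y = y * x) : Group.IsSolvable Q := by
  classical
  let T : Set Q := {x | Odd (orderOf x)}
  have hconj : Group.conjugatesOfSet T = T := by
    apply Set.Subset.antisymm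
    · intro x hx
      rw [Group.mem_conjugatesOfSet_iff] at hx
      obtain ⟨a, ha, hax⟩ := hx
      obtain ⟨c, rfl⟩ := isConj_iff.mp hax
      show Odd (orderOf (c * a * c⁻¹))
      have : orderOf (c * a * c⁻¹) = orderOf a := by
        have := MulEquiv.orderOf_eq (MulAut.conj c) a
        simpa [MulAut.conj_apply] using this
      rw [this]
      exact ha
    · exact Group.subset_conjugatesOfSet
  let K : Subgroup Q := Subgroup.closure T
  have hKn : K.Normal := by
    have := Subgroup.normalClosure_normal (s := T)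
    rwa [Subgroup.normalClosure, hconj] at this
  have hTc : T ⊆ (Subgroup.centralizer T : Set Q) := by
    intro x hx
    rw [SetLike.mem_coe, Subgroup.mem_centralizer_iff]
    intro y hy
    exact h y x hy hx
  have : Group.IsSolvable K := by
    apply Group.isSolvable_of_comm
    rintro ⟨a, ha⟩ ⟨b, hb⟩
    apply Subtype.ext
    show a * b = b * a
    have hb' : b ∈ Subgroup.centralizer T := (Subgroup.closure_le _).mpr hTc hb
    have ha' : a ∈ Subgroup.centralizer (Subgroup.centralizer T : Set Q) :=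
      Subgroup.closure_le_centralizer_centralizer T ha
    exact (Subgroup.mem_centralizer_iff.mp ha' b hb').symm
  have hP : IsPGroup 2 (Q ⧸ K) := by
    intro g
    obtain ⟨a, rfl⟩ := QuotientGroup.mk_surjective g
    obtain ⟨k, m, hm, hkm⟩ := Nat.exists_eq_two_pow_mul_odd (orderOf_pos a).ne'
    refine ⟨k, ?_⟩
    rw [← QuotientGroup.mk_pow, QuotientGroup.eq_one_iff]
    apply Subgroup.subset_closure
    show Odd (orderOf (a ^ 2 ^ k))
    rw [orderOf_pow_of_dvd (by positivity) ⟨m, hkm⟩, hkm, Nat.mul_div_cancel_left _ (by positivity)]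
    exact hm
  have : Fact (Nat.Prime 2) := ⟨Nat.prime_two⟩
  have : Group.IsNilpotent (Q ⧸ K) := hP.isNilpotent
  have : Group.IsSolvable (Q ⧸ K) := inferInstance
  exact Group.isSolvable_of_ker_le_range K.subtype (QuotientGroup.mk' K) (by simp)

/-- Elements of odd order of a quotient of a finite group lift to elements of odd order. -/
theorem exists_odd_lift {A : Type*} [Group A] [Finite A] (N : Subgroup A) [N.Normal] (x : A ⧸ N)
    (hx : Odd (orderOf x)) : ∃ a : A, Odd (orderOf a) ∧ (a : A ⧸ N) = x := by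
  obtain ⟨a0, rfl⟩ := QuotientGroup.mk_surjective x
  obtain ⟨k, m, hm, hkm⟩ := Nat.exists_eq_two_pow_mul_odd (orderOf_pos a0).ne'
  have hcop : (2 ^ k).Coprime (orderOf (a0 : A ⧸ N)) :=
    Nat.Coprime.pow_left k (Nat.coprime_two_left.mpr hx)
  obtain ⟨j, hj⟩ := exists_pow_eq_self_of_coprime hcop
  refine ⟨(a0 ^ 2 ^ k) ^ j, ?_, ?_⟩
  · apply Odd.of_dvd_nat _ (orderOf_pow_dvd j)
    rw [orderOf_pow_of_dvd (by positivity) ⟨m, hkm⟩, hkm, Nat.mul_div_cancel_left _ (by positivity)]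
    exact hm
  · rw [QuotientGroup.mk_pow, QuotientGroup.mk_pow]
    exact hj


/-- Two subgroups of prime order `p` are conjugate if `p ^ 2` does not divide the order of the group (Sylow). -/
theorem exists_conj_mem_zpowers {G : Type*} [Group G] [Finite G] {p : ℕ} [Fact p.Prime]
    (h1 : (Nat.card G).factorization p = 1) (c d : G) (hc : orderOf c = p) (hd : orderOf d = p) :
    ∃ g : G, g * d * g⁻¹ ∈ Subgroup.zpowers c := by
  have hcc : Nat.card (Subgroup.zpowers c) = p ^ (Nat.card G).factorization p := by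
    rw [h1, pow_one, Nat.card_zpowers, hc]
  have hdc : Nat.card (Subgroup.zpowers d) = p ^ (Nat.card G).factorization p := by
    rw [h1, pow_one, Nat.card_zpowers, hd]
  obtain ⟨g, hg⟩ := MulAction.exists_smul_eq G (Sylow.ofCard _ hdc) (Sylow.ofCard _ hcc)
  refine ⟨g, ?_⟩
  have hd2 : d ∈ Subgroup.zpowers d := Subgroup.mem_zpowers d
  have h3 : MulAut.conj g • d ∈ MulAut.conj g • Subgroup.zpowers d :=
    Subgroup.smul_mem_pointwise_smul _ _ _ hd2
  have h4 : ((g • Sylow.ofCard _ hdc : Sylow p G) : Subgroup G) = MulAut.conj g • Subgroup.zpowers d := by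
    rw [Sylow.smul_def, Sylow.pointwise_smul_def, Sylow.coe_ofCard]
  rw [← h4, hg, Sylow.coe_ofCard] at h3
  simpa [MulAut.smul_def, MulAut.conj_apply] using h3

/-- Elements normalizing `⟨c⟩` have their commutator in the centralizer of `c`. -/
theorem comm_of_normalize_zpowers {G : Type*} [Group G] (c s t : G)
    (hs : s * c * s⁻¹ ∈ Subgroup.zpowers c) (ht : t * c * t⁻¹ ∈ Subgroup.zpowers c) :
    (s⁻¹ * t⁻¹ * s * t) * c = c * (s⁻¹ * t⁻¹ * s * t) := by
  obtain ⟨i, hi⟩ := Subgroup.mem_zpowers_iff.mp hs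
  obtain ⟨j, hj⟩ := Subgroup.mem_zpowers_iff.mp ht
  have e1 : s * t * c * t⁻¹ * s⁻¹ = c ^ (i * j) := by
    have : s * t * c * t⁻¹ * s⁻¹ = s * (t * c * t⁻¹) * s⁻¹ := by group
    rw [this, ← hj, ← conj_zpow, ← hi, ← zpow_mul]
  have e2 : t * s * c * s⁻¹ * t⁻¹ = c ^ (i * j) := by
    have : t * s * c * s⁻¹ * t⁻¹ = t * (s * c * s⁻¹) * t⁻¹ := by group
    rw [this, ← hi, ← conj_zpow, ← hj, ← zpow_mul, mul_comm]
  have E : s * t * c * t⁻¹ * s⁻¹ = t * s * c * s⁻¹ * t⁻¹ := e1.trans e2.symm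
  calc s⁻¹ * t⁻¹ * s * t * c = s⁻¹ * t⁻¹ * (s * t * c * t⁻¹ * s⁻¹) * (s * t) := by group
    _ = s⁻¹ * t⁻¹ * (t * s * c * s⁻¹ * t⁻¹) * (s * t) := by rw [E]
    _ = c * (s⁻¹ * t⁻¹ * s * t) := by group

/-- A permutation of order `p` on `p` points (`p` prime) is self-centralizing. -/
theorem mem_zpowers_of_commute_full_cycle {Ω : Type*} [Fintype Ω] [DecidableEq Ω] (hp : (Fintype.card Ω).Prime)
    (c : Equiv.Perm Ω) (hc : orderOf c = Fintype.card Ω) (z : Equiv.Perm Ω) (hz : z * c = c * z) :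
    z ∈ Subgroup.zpowers c := by
  have hcyc : c.IsCycle := Equiv.Perm.isCycle_of_prime_order' (hc ▸ hp) (by rw [hc]; have := hp.pos; omega)
  have hsupp : c.support = Finset.univ := by
    apply Finset.eq_univ_of_card
    rw [← hcyc.orderOf, hc]
  have hmv : ∀ x, c x ≠ x := fun x => Equiv.Perm.mem_support.mp (by rw [hsupp]; exact Finset.mem_univ x)
  obtain ⟨o⟩ : Nonempty Ω := Fintype.card_pos_iff.mp hp.pos
  obtain ⟨i, hi⟩ := hcyc.exists_zpow_eq (hmv o) (hmv (z o))
  rw [Subgroup.mem_zpowers_iff]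
  refine ⟨i, ?_⟩
  ext x
  obtain ⟨j, hj⟩ := hcyc.exists_zpow_eq (hmv o) (hmv x)
  have hcomm : z * c ^ j = c ^ j * z := (Commute.zpow_right (show Commute z c from hz) j).eq
  have h1 : z x = (c ^ j) (z o) := by
    rw [← hj]
    exact congrArg (fun f : Equiv.Perm Ω => f o) hcomm
  rw [h1, ← hi, ← hj, ← Equiv.Perm.mul_apply, ← Equiv.Perm.mul_apply, ← zpow_add, ← zpow_add, add_comm]


/-- `p ^ 2` does not divide the order of a permutation group of prime degree `p`. -/
theorem sq_not_dvd_card {Ω : Type*} [Fintype Ω] [DecidableEq Ω] (hp : (Fintype.card Ω).Prime)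
    (Γ : Subgroup (Equiv.Perm Ω)) : ¬ (Fintype.card Ω) ^ 2 ∣ Nat.card Γ := by
  intro h
  have h1 : Nat.card Γ ∣ (Fintype.card Ω).factorial := by
    have h0 : Nat.card (Equiv.Perm Ω) = (Fintype.card Ω).factorial := by
      rw [Nat.card_eq_fintype_card, Fintype.card_perm]
    have := Subgroup.card_subgroup_dvd_card Γ
    rwa [h0] at this
  have h2 := h.trans h1
  obtain ⟨q, hq⟩ := Nat.exists_eq_succ_of_ne_zero hp.ne_zero
  rw [hq] at h2 hp
  rw [Nat.factorial_succ, sq] at h2
  have h3 : q + 1 ∣ q.factorial := Nat.dvd_of_mul_dvd_mul_left (Nat.succ_pos q) h2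
  have := (Nat.Prime.dvd_factorial hp).mp h3
  omega

/-- For a transitive permutation group `Γ` of prime degree, the quotient `N(Γ)/Γ` of its normalizer in the symmetric group
is abelian (Frattini argument: `N(Γ) = Γ N(P)` for a Sylow `p`-subgroup `P` of `Γ`, and `N(P)/P` is abelian as `P` is
self-centralizing). -/
theorem comm_mem_of_prime_degree {Ω : Type*} [Fintype Ω] [DecidableEq Ω] (hp : (Fintype.card Ω).Prime)
    (Γ : Subgroup (Equiv.Perm Ω)) [MulAction.IsPretransitive Γ Ω] (σ τ : Equiv.Perm Ω)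
    (hσ : σ ∈ Subgroup.normalizer (Γ : Set (Equiv.Perm Ω)))
    (hτ : τ ∈ Subgroup.normalizer (Γ : Set (Equiv.Perm Ω))) :
    σ⁻¹ * τ⁻¹ * σ * τ ∈ Γ := by
  have : Fact (Fintype.card Ω).Prime := ⟨hp⟩
  obtain ⟨o⟩ : Nonempty Ω := Fintype.card_pos_iff.mp hp.pos
  have hdvd : Fintype.card Ω ∣ Nat.card Γ := by
    have h1 := MulAction.index_stabilizer_of_transitive Γ o
    rw [Nat.card_eq_fintype_card] at h1
    rw [← h1]
    exact Subgroup.index_dvd_card _
  obtain ⟨c, hc⟩ := exists_prime_orderOf_dvd_card' (Fintype.card Ω) hdvd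
  have hne : Nat.card Γ ≠ 0 := Nat.card_pos.ne'
  have h1 : (Nat.card Γ).factorization (Fintype.card Ω) = 1 := by
    apply le_antisymm
    · by_contra hcon
      push Not at hcon
      exact sq_not_dvd_card hp Γ ((Nat.Prime.pow_dvd_iff_le_factorization hp hne).mpr hcon)
    · exact (Nat.Prime.pow_dvd_iff_le_factorization hp hne).mp (by simpa using hdvd)
  have key : ∀ ρ ∈ Subgroup.normalizer (Γ : Set (Equiv.Perm Ω)), ∃ g : Γ,
      ((g : Equiv.Perm Ω) * ρ) * (c : Equiv.Perm Ω) * ((g : Equiv.Perm Ω) * ρ)⁻¹ ∈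
        Subgroup.zpowers (c : Equiv.Perm Ω) := by
    intro ρ hρ
    have hmem : ρ * (c : Equiv.Perm Ω) * ρ⁻¹ ∈ Γ := (Subgroup.mem_normalizer_iff.mp hρ c).mp c.2
    have hord : orderOf (⟨ρ * c * ρ⁻¹, hmem⟩ : Γ) = Fintype.card Ω := by
      rw [Subgroup.orderOf_mk]
      have := MulEquiv.orderOf_eq (MulAut.conj ρ) (c : Equiv.Perm Ω)
      rw [MulAut.conj_apply] at this
      rw [this, Subgroup.orderOf_coe, hc]
    obtain ⟨g, hg⟩ := exists_conj_mem_zpowers h1 c ⟨ρ * c * ρ⁻¹, hmem⟩ hc hord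
    refine ⟨g, ?_⟩
    obtain ⟨k, hk⟩ := Subgroup.mem_zpowers_iff.mp hg
    rw [Subgroup.mem_zpowers_iff]
    refine ⟨k, ?_⟩
    have := congrArg (Subtype.val) hk
    simp only [Subgroup.coe_zpow, Subgroup.coe_mul, Subgroup.coe_inv] at this
    rw [this]
    group
  obtain ⟨g, hg⟩ := key σ hσ
  obtain ⟨h, hh⟩ := key τ hτ
  have hz := comm_of_normalize_zpowers (c : Equiv.Perm Ω) (g * σ) (h * τ) hg hh
  have hzm : ((g : Equiv.Perm Ω) * σ)⁻¹ * ((h : Equiv.Perm Ω) * τ)⁻¹ * ((g : Equiv.Perm Ω) * σ) *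
      ((h : Equiv.Perm Ω) * τ) ∈ Subgroup.zpowers (c : Equiv.Perm Ω) :=
    mem_zpowers_of_commute_full_cycle hp c (by rw [Subgroup.orderOf_coe, hc]) _ hz
  have hzΓ : ((g : Equiv.Perm Ω) * σ)⁻¹ * ((h : Equiv.Perm Ω) * τ)⁻¹ * ((g : Equiv.Perm Ω) * σ) *
      ((h : Equiv.Perm Ω) * τ) ∈ Γ := (Subgroup.zpowers_le.mpr c.2) hzm
  -- pass to the quotient of the normalizer
  let M : Subgroup (Equiv.Perm Ω) := Subgroup.normalizer (Γ : Set (Equiv.Perm Ω))
  have hΓM : Γ ≤ M := Subgroup.le_normalizer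
  have : (Γ.subgroupOf M).Normal := Subgroup.normal_in_normalizer
  let π : M →* M ⧸ Γ.subgroupOf M := QuotientGroup.mk' _
  have hπ : ∀ u : M, π u = 1 ↔ (u : Equiv.Perm Ω) ∈ Γ := by
    intro u
    show (QuotientGroup.mk u : M ⧸ Γ.subgroupOf M) = 1 ↔ _
    rw [QuotientGroup.eq_one_iff, Subgroup.mem_subgroupOf]
  let σ' : M := ⟨σ, hσ⟩
  let τ' : M := ⟨τ, hτ⟩
  let g' : M := ⟨g, hΓM g.2⟩
  let h' : M := ⟨h, hΓM h.2⟩
  have e1 : π (g' * σ') = π σ' := by rw [map_mul, (hπ g').mpr g.2, one_mul]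
  have e2 : π (h' * τ') = π τ' := by rw [map_mul, (hπ h').mpr h.2, one_mul]
  have e3 : π ((g' * σ')⁻¹ * (h' * τ')⁻¹ * (g' * σ') * (h' * τ')) = 1 := (hπ _).mpr hzΓ
  have e4 : π (σ'⁻¹ * τ'⁻¹ * σ' * τ') = 1 := by
    rw [map_mul, map_mul, map_mul, map_inv, map_inv] at e3 ⊢
    rw [e1, e2] at e3
    exact e3
  exact (hπ _).mp e4

end Cfsg.Agent.Helper35.PrimeIndexOut
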