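import Mathlib
import Cfsg.Prelude.Def_KGroupFacts
import Cfsg.Agent.S0675
import Cfsg.Agent.S4276
import Cfsg.Agent.Helper35.PrimeIndexOut

/-!
Helper35, for S4277: a non-solvable transitive permutation group of prime degree has a solvable group of outer
automorphisms. By Burnside (S0675) it is doubly transitive, by S4276 every automorphism of odd order is induced by an element
of the normalizer `N(Γ)` in the symmetric group, and `N(Γ)/Γ` is abelian; so any two elements of odd order of `Out Γ` commute.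
-/

set_option autoImplicit false

namespace Cfsg.Agent.Helper35.PrimeIndexOut

open Cfsg

section
variable {Ω : Type*} (Γ : Subgroup (Equiv.Perm Ω))

/-- the automorphism `γ` of `Γ` is induced by conjugation with `σ` -/
def Ind (γ : MulAut Γ) (σ : Equiv.Perm Ω) : Prop :=
  ∀ g : Γ, ((γ g : Γ) : Equiv.Perm Ω) = σ * (g : Equiv.Perm Ω) * σ⁻¹

variable {Γ}

theorem Ind.inv {γ : MulAut Γ} {σ : Equiv.Perm Ω} (h : Ind Γ γ σ) : Ind Γ γ⁻¹ σ⁻¹ := by
  intro g
  have h1 := h (γ⁻¹ g)
  rw [MulAut.apply_inv_self] at h1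
  rw [h1]
  group

theorem Ind.mul {γ δ : MulAut Γ} {σ τ : Equiv.Perm Ω} (h1 : Ind Γ γ σ) (h2 : Ind Γ δ τ) :
    Ind Γ (γ * δ) (σ * τ) := by
  intro g
  rw [MulAut.mul_apply, h1, h2]
  group

theorem Ind.eq_conj {γ : MulAut Γ} {ρ : Equiv.Perm Ω} (h : Ind Γ γ ρ) (hρ : ρ ∈ Γ) :
    γ = MulAut.conj (⟨ρ, hρ⟩ : Γ) := by
  apply MulEquiv.ext
  intro g
  apply Subtype.ext
  rw [h g, MulAut.conj_apply]
  rfl

end

/-- solvability of the group of outer automorphisms is invariant under isomorphism -/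
theorem out_isSolvable_congr {G H : Type*} [Group G] [Group H] (e : G ≃* H)
    (h : Group.IsSolvable (Cfsg.Out H)) : Group.IsSolvable (Cfsg.Out G) := by
  have hle : Cfsg.Inn H ≤ (Cfsg.Inn G).comap (MulAut.congr e.symm).toMonoidHom := by
    rintro _ ⟨x, rfl⟩
    refine ⟨e.symm x, ?_⟩
    ext y
    simp [MulAut.congr, MulAut.conj_apply]
  let f : Cfsg.Out H →* Cfsg.Out G :=
    QuotientGroup.map (Cfsg.Inn H) (Cfsg.Inn G) (MulAut.congr e.symm).toMonoidHom hle
  have hf : Function.Surjective f := by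
    intro y
    obtain ⟨b, rfl⟩ := QuotientGroup.mk_surjective y
    obtain ⟨a, rfl⟩ := (MulAut.congr e.symm).surjective b
    exact ⟨(a : Cfsg.Out H), rfl⟩
  exact Group.isSolvable_of_surjective hf

/-- A non-solvable transitive permutation group of prime degree has a solvable group of outer automorphisms. -/
theorem out_isSolvable_of_prime_degree {Ω : Type*} [Fintype Ω] [DecidableEq Ω] (hp : (Fintype.card Ω).Prime)
    (Γ : Subgroup (Equiv.Perm Ω)) [MulAction.IsPretransitive Γ Ω] (hns : ¬ Group.IsSolvable Γ) :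
    Group.IsSolvable (Cfsg.Out Γ) := by
  have h2 : MulAction.IsMultiplyPretransitive Γ Ω 2 := (Cfsg.Agent.S0675.result hp Γ).resolve_left hns
  obtain ⟨o⟩ : Nonempty Ω := Fintype.card_pos_iff.mp hp.pos
  have key : ∀ γ : MulAut Γ, Odd (orderOf γ) →
      ∃ σ ∈ Subgroup.normalizer (Γ : Set (Equiv.Perm Ω)), Ind Γ γ σ := by
    intro γ hγ
    have hk : (Nat.card (MulAction.orbit ((MulAction.stabilizer Γ o).map γ.toMonoidHom) o)).Coprime
        (Fintype.card Ω) := by
      have hKcard : Nat.card ((MulAction.stabilizer Γ o).map γ.toMonoidHom) =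
          Nat.card (MulAction.stabilizer Γ o) := Subgroup.card_map_of_injective γ.injective
      have hmul : Nat.card (MulAction.stabilizer Γ o) * Fintype.card Ω = Nat.card Γ := by
        have h0 : Nat.card Ω = Fintype.card Ω := Nat.card_eq_fintype_card
        have := Subgroup.card_mul_index (MulAction.stabilizer Γ o)
        rwa [MulAction.index_stabilizer_of_transitive Γ o, h0] at this
      have hnd : ¬ Fintype.card Ω ∣ Nat.card ((MulAction.stabilizer Γ o).map γ.toMonoidHom) := by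
        intro hd
        apply sq_not_dvd_card hp Γ
        rw [← hmul, sq, ← hKcard]
        exact Nat.mul_dvd_mul_right hd _
      have hdvd : Nat.card (MulAction.orbit ((MulAction.stabilizer Γ o).map γ.toMonoidHom) o) ∣
          Nat.card ((MulAction.stabilizer Γ o).map γ.toMonoidHom) := by
        have := Subgroup.index_dvd_card
          (MulAction.stabilizer ((MulAction.stabilizer Γ o).map γ.toMonoidHom) o)
        rwa [MulAction.index_stabilizer, ← Nat.card_coe_set_eq] at this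
      exact Nat.Coprime.coprime_dvd_left hdvd ((Nat.Prime.coprime_iff_not_dvd hp).mpr hnd).symm
    obtain ⟨⟨σ, hσN, hσ⟩, -⟩ := Cfsg.Agent.S4276.result Γ h2 o γ hγ o hk
    exact ⟨σ, hσN, hσ⟩
  apply isSolvable_of_odd_commute
  intro x y hx hy
  obtain ⟨α, hα, rfl⟩ := exists_odd_lift (Cfsg.Inn Γ) x hx
  obtain ⟨β, hβ, rfl⟩ := exists_odd_lift (Cfsg.Inn Γ) y hy
  obtain ⟨σ, hσN, hσ⟩ := key α hα
  obtain ⟨τ, hτN, hτ⟩ := key β hβ
  have hρ := comm_mem_of_prime_degree hp Γ σ τ hσN hτN
  have hind : Ind Γ (α⁻¹ * β⁻¹ * α * β) (σ⁻¹ * τ⁻¹ * σ * τ) := ((hσ.inv.mul hτ.inv).mul hσ).mul hτ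
  have heq := hind.eq_conj hρ
  have h1 : ((α⁻¹ * β⁻¹ * α * β : MulAut Γ) : Cfsg.Out Γ) = 1 := by
    rw [QuotientGroup.eq_one_iff, heq]
    exact ⟨_, rfl⟩
  rw [QuotientGroup.mk_mul, QuotientGroup.mk_mul, QuotientGroup.mk_mul, QuotientGroup.mk_inv,
    QuotientGroup.mk_inv] at h1
  calc (α : Cfsg.Out Γ) * β = β * α * ((α : Cfsg.Out Γ)⁻¹ * (β : Cfsg.Out Γ)⁻¹ * α * β) := by group
    _ = β * α := by rw [h1, mul_one]

end Cfsg.Agent.Helper35.PrimeIndexOut
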