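import Mathlib
import Cfsg.Prelude.Def_OddOrderLocal
import Cfsg.Agent.Helper25.Puig
import Cfsg.Agent.Helper25.PuigCentralizer

/-!
# The Puig series of a subgroup, computed inside the ambient group (helper35)

For `R X : Subgroup G`, `relStep R X` is generated by the abelian subgroups of `R` normalized by `X`;
`relSeq R n` is the Puig series of `R` viewed inside `G`, `relLower R` and `relUpper R` its limits.
`map_puigSeq`, `map_puigLower`, `map_puigSubgroup` identify them with the images of the intrinsic
objects of the type `↥R`; `relSeq_map` transports along injective homomorphisms.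
-/

set_option autoImplicit false

namespace Cfsg.Agent.Helper35.PuigRel

open Cfsg

variable {G : Type*} [Group G] {G' : Type*} [Group G']

/-- The abelian subgroups of `R` normalized by `X`. -/
def relFam (R X : Subgroup G) : Set (Subgroup G) :=
  {A | A ≤ R ∧ IsMulCommutative A ∧ X ≤ Subgroup.normalizer (A : Set G)}

/-- `L_R(X)` inside `G`. -/
def relStep (R X : Subgroup G) : Subgroup G := sSup (relFam R X)

/-- The Puig series of `R` inside `G`. -/
def relSeq (R : Subgroup G) : ℕ → Subgroup G
  | 0 => ⊥
  | n + 1 => relStep R (relSeq R n)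

/-- `L_*(R)` inside `G`. -/
def relLower (R : Subgroup G) : Subgroup G := ⨆ n : ℕ, relSeq R (2 * n)

/-- `L(R)` inside `G`. -/
def relUpper (R : Subgroup G) : Subgroup G := ⨅ n : ℕ, relSeq R (2 * n + 1)

theorem relSeq_zero (R : Subgroup G) : relSeq R 0 = ⊥ := rfl

theorem relSeq_succ (R : Subgroup G) (n : ℕ) : relSeq R (n + 1) = relStep R (relSeq R n) := rfl

theorem le_relStep {R X A : Subgroup G} (hA : A ∈ relFam R X) : A ≤ relStep R X := le_sSup hA

theorem relStep_le (R X : Subgroup G) : relStep R X ≤ R := sSup_le fun _ hA => hA.1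

theorem relStep_anti (R : Subgroup G) {X Y : Subgroup G} (h : X ≤ Y) : relStep R Y ≤ relStep R X :=
  sSup_le_sSup fun _ hA => ⟨hA.1, hA.2.1, h.trans hA.2.2⟩

theorem relStep_mono_left {R R' : Subgroup G} (h : R ≤ R') (X : Subgroup G) :
    relStep R X ≤ relStep R' X :=
  sSup_le_sSup fun _ hA => ⟨hA.1.trans h, hA.2.1, hA.2.2⟩

theorem relStep_bot (R : Subgroup G) : relStep R ⊥ = R := by
  apply le_antisymm (relStep_le R ⊥)
  intro x hx
  have hz : Subgroup.zpowers x ∈ relFam R ⊥ :=
    ⟨by rw [Subgroup.zpowers_le]; exact hx, inferInstance, bot_le⟩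
  exact le_relStep hz (Subgroup.mem_zpowers x)

theorem relSeq_one (R : Subgroup G) : relSeq R 1 = R := by
  rw [relSeq_succ, relSeq_zero, relStep_bot]

theorem relSeq_le (R : Subgroup G) (n : ℕ) : relSeq R n ≤ R := by
  cases n with
  | zero => exact bot_le
  | succ k => exact relStep_le R _

theorem puigStep_eq_relStep (X : Subgroup G) : puigStep X = relStep ⊤ X := by
  unfold puigStep relStep relFam
  congr 1
  ext A
  simp

theorem puigSeq_eq_relSeq (n : ℕ) : puigSeq G n = relSeq ⊤ n := by
  induction n with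
  | zero => rfl
  | succ k ih =>
    rw [Cfsg.Agent.Helper25.puigSeq_succ, relSeq_succ, ih, puigStep_eq_relStep]

/-- Transport of a Puig step along an injective homomorphism. -/
theorem relStep_map (f : G →* G') (hf : Function.Injective f) (R X : Subgroup G) :
    (relStep R X).map f = relStep (R.map f) (X.map f) := by
  apply le_antisymm
  · rw [Subgroup.map_le_iff_le_comap]
    apply sSup_le
    intro A hA
    rw [← Subgroup.map_le_iff_le_comap]
    apply le_relStep
    refine ⟨Subgroup.map_mono hA.1, ?_, ?_⟩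
    · have := hA.2.1
      exact Subgroup.map_isMulCommutative A f
    · exact (Subgroup.map_mono hA.2.2).trans (Subgroup.le_normalizer_map f)
  · apply sSup_le
    intro B hB
    obtain ⟨hBR, hBc, hXB⟩ := hB
    have hBrange : B ≤ f.range := hBR.trans (Subgroup.map_le_range f R)
    have hmap : (B.comap f).map f = B := Subgroup.map_comap_eq_self hBrange
    rw [← hmap]
    apply Subgroup.map_mono
    apply le_relStep
    refine ⟨?_, ?_, ?_⟩
    · intro x hx
      have hx' : f x ∈ R.map f := hBR hx
      obtain ⟨r, hr, hrx⟩ := hx'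
      rwa [← hf hrx]
    · refine ⟨⟨fun a b => ?_⟩⟩
      apply Subtype.ext
      apply hf
      have ha : f a ∈ B := a.2
      have hb : f b ∈ B := b.2
      have h1 : (⟨f a, ha⟩ : B) * ⟨f b, hb⟩ = ⟨f b, hb⟩ * ⟨f a, ha⟩ := hBc.is_comm.comm _ _
      have h2 := congrArg Subtype.val h1
      simpa using h2
    · intro x hx
      have hx' : f x ∈ Subgroup.normalizer (B : Set G') := hXB (Subgroup.mem_map_of_mem f hx)
      rw [Subgroup.mem_normalizer_iff] at hx' ⊢
      intro a
      rw [Subgroup.mem_comap, Subgroup.mem_comap, hx' (f a)]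
      simp

theorem relSeq_map (f : G →* G') (hf : Function.Injective f) (R : Subgroup G) (n : ℕ) :
    (relSeq R n).map f = relSeq (R.map f) n := by
  induction n with
  | zero => simp [relSeq_zero]
  | succ k ih => rw [relSeq_succ, relSeq_succ, relStep_map f hf, ih]

theorem relLower_map (f : G →* G') (hf : Function.Injective f) (R : Subgroup G) :
    (relLower R).map f = relLower (R.map f) := by
  unfold relLower
  rw [Subgroup.map_iSup]
  exact iSup_congr fun n => relSeq_map f hf R _

theorem relUpper_map (f : G →* G') (hf : Function.Injective f) (R : Subgroup G) :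
    (relUpper R).map f = relUpper (R.map f) := by
  unfold relUpper
  rw [Subgroup.map_iInf f hf]
  exact iInf_congr fun n => relSeq_map f hf R _

theorem map_subtype_top (R : Subgroup G) : (⊤ : Subgroup ↥R).map R.subtype = R := by
  rw [← MonoidHom.range_eq_map, Subgroup.range_subtype]

/-- The intrinsic Puig series of `↥R`, mapped into `G`. -/
theorem map_puigSeq (R : Subgroup G) (n : ℕ) : (puigSeq ↥R n).map R.subtype = relSeq R n := by
  rw [puigSeq_eq_relSeq, relSeq_map _ R.subtype_injective, map_subtype_top]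

theorem puigLower_eq_relLower : puigLower G = relLower ⊤ := by
  unfold puigLower relLower
  exact iSup_congr fun n => puigSeq_eq_relSeq _

theorem puigSubgroup_eq_relUpper : puigSubgroup G = relUpper ⊤ := by
  unfold puigSubgroup relUpper
  exact iInf_congr fun n => puigSeq_eq_relSeq _

theorem map_puigLower (R : Subgroup G) : (puigLower ↥R).map R.subtype = relLower R := by
  rw [puigLower_eq_relLower, relLower_map _ R.subtype_injective, map_subtype_top]

theorem map_puigSubgroup (R : Subgroup G) : (puigSubgroup ↥R).map R.subtype = relUpper R := by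
  rw [puigSubgroup_eq_relUpper, relUpper_map _ R.subtype_injective, map_subtype_top]

theorem map_puigStep (R : Subgroup G) (X : Subgroup ↥R) :
    (puigStep X).map R.subtype = relStep R (X.map R.subtype) := by
  rw [puigStep_eq_relStep, relStep_map _ R.subtype_injective, map_subtype_top]

theorem relLower_le (R : Subgroup G) : relLower R ≤ R := iSup_le fun _ => relSeq_le R _

theorem relUpper_le (R : Subgroup G) : relUpper R ≤ R :=
  (iInf_le _ 0).trans (relSeq_le R _)

theorem relSeq_even_le_relLower (R : Subgroup G) (n : ℕ) : relSeq R (2 * n) ≤ relLower R :=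
  le_iSup (fun n => relSeq R (2 * n)) n

theorem relUpper_le_relSeq_odd (R : Subgroup G) (n : ℕ) : relUpper R ≤ relSeq R (2 * n + 1) :=
  iInf_le (fun n => relSeq R (2 * n + 1)) n

section Finite

variable (R : Subgroup G) [Finite R]

theorem relLower_le_relUpper : relLower R ≤ relUpper R := by
  rw [← map_puigLower, ← map_puigSubgroup]
  exact Subgroup.map_mono Cfsg.Agent.Helper25.puigLower_le_puigSubgroup

theorem relStep_relLower : relStep R (relLower R) = relUpper R := by
  rw [← map_puigLower, ← map_puigStep, Cfsg.Agent.Helper25.puigStep_puigLower, map_puigSubgroup]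

theorem relStep_relUpper : relStep R (relUpper R) = relLower R := by
  rw [← map_puigSubgroup, ← map_puigStep, Cfsg.Agent.Helper25.puigStep_puigSubgroup, map_puigLower]

/-- In a finite `p`-group, the terms `L_{k+1}(R)` contain their centralizers in `R`. -/
theorem inf_centralizer_relSeq_le {p : ℕ} [Fact p.Prime] (hR : IsPGroup p R) (k : ℕ) :
    R ⊓ Subgroup.centralizer (relSeq R (k + 1) : Set G) ≤ relSeq R (k + 1) := by
  intro x hx
  obtain ⟨hxR, hxC⟩ := hx
  rw [← map_puigSeq]
  have hn : (puigSeq ↥R k).Normal := Cfsg.Agent.Helper25.puigSeq_normal k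
  have hcl := Cfsg.Agent.Helper25.centralizer_puigStep_le hR (puigSeq ↥R k)
  refine ⟨⟨x, hxR⟩, hcl ?_, rfl⟩
  rw [Subgroup.mem_centralizer_iff]
  intro y hy
  apply Subtype.ext
  have hy' : (y : G) ∈ relSeq R (k + 1) := by
    rw [← map_puigSeq]
    exact ⟨y, hy, rfl⟩
  exact (Subgroup.mem_centralizer_iff.mp hxC) (y : G) hy'

end Finite

/-! ### Conjugation -/

theorem map_conj_eq_of_mem_normalizer {R : Subgroup G} {g : G}
    (hg : g ∈ Subgroup.normalizer (R : Set G)) : R.map (MulAut.conj g).toMonoidHom = R := by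
  ext x
  constructor
  · rintro ⟨r, hr, rfl⟩
    exact (Subgroup.mem_normalizer_iff.mp hg r).mp hr
  · intro hx
    refine ⟨g⁻¹ * x * g, ?_, ?_⟩
    · have := (Subgroup.mem_normalizer_iff.mp (Subgroup.inv_mem _ hg) x).mp hx
      simpa using this
    · simp only [MulEquiv.coe_toMonoidHom, MulAut.conj_apply]
      group

theorem mem_normalizer_of_map_conj_eq {H : Subgroup G} {g : G}
    (h1 : H.map (MulAut.conj g).toMonoidHom = H) :
    g ∈ Subgroup.normalizer (H : Set G) := by
  have key : ∀ x, x ∈ H → g * x * g⁻¹ ∈ H := by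
    intro x hx
    have : (MulAut.conj g).toMonoidHom x ∈ H.map (MulAut.conj g).toMonoidHom :=
      Subgroup.mem_map_of_mem _ hx
    rw [h1] at this
    simpa using this
  rw [Subgroup.mem_normalizer_iff]
  intro x
  refine ⟨key x, fun hx => ?_⟩
  have : g * x * g⁻¹ ∈ H.map (MulAut.conj g).toMonoidHom := by rw [h1]; exact hx
  obtain ⟨y, hy, hyx⟩ := this
  have : y = x := by
    have h2 : g * y * g⁻¹ = g * x * g⁻¹ := by simpa using hyx
    have h3 : y = g⁻¹ * (g * y * g⁻¹) * g := by group
    rw [h3, h2]; group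
  rwa [← this]

theorem normalizer_le_normalizer_relSeq (R : Subgroup G) (n : ℕ) :
    Subgroup.normalizer (R : Set G) ≤ Subgroup.normalizer (relSeq R n : Set G) := by
  intro g hg
  apply mem_normalizer_of_map_conj_eq
  rw [relSeq_map _ (MulAut.conj g).injective, map_conj_eq_of_mem_normalizer hg]

theorem normalizer_le_normalizer_relUpper (R : Subgroup G) :
    Subgroup.normalizer (R : Set G) ≤ Subgroup.normalizer (relUpper R : Set G) := by
  intro g hg
  apply mem_normalizer_of_map_conj_eq
  rw [relUpper_map _ (MulAut.conj g).injective, map_conj_eq_of_mem_normalizer hg]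

theorem normalizer_le_normalizer_relLower (R : Subgroup G) :
    Subgroup.normalizer (R : Set G) ≤ Subgroup.normalizer (relLower R : Set G) := by
  intro g hg
  apply mem_normalizer_of_map_conj_eq
  rw [relLower_map _ (MulAut.conj g).injective, map_conj_eq_of_mem_normalizer hg]

theorem relSeq_normal (R : Subgroup G) [hR : R.Normal] (n : ℕ) : (relSeq R n).Normal := by
  rw [← Subgroup.normalizer_eq_top_iff, eq_top_iff]
  refine le_trans ?_ (normalizer_le_normalizer_relSeq R n)
  rw [Subgroup.normalizer_eq_top_iff.mpr hR]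

theorem relUpper_normal (R : Subgroup G) [hR : R.Normal] : (relUpper R).Normal := by
  rw [← Subgroup.normalizer_eq_top_iff, eq_top_iff]
  refine le_trans ?_ (normalizer_le_normalizer_relUpper R)
  rw [Subgroup.normalizer_eq_top_iff.mpr hR]

/-- The centre of a subgroup `L`, as a subgroup of `G`. -/
def zOf (L : Subgroup G) : Subgroup G := L ⊓ Subgroup.centralizer (L : Set G)

theorem normalizer_le_normalizer_zOf (L : Subgroup G) :
    Subgroup.normalizer (L : Set G) ≤ Subgroup.normalizer (zOf L : Set G) := by
  have key : ∀ g, g ∈ Subgroup.normalizer (L : Set G) → ∀ x, x ∈ zOf L → g * x * g⁻¹ ∈ zOf L := by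
    intro g hg x hx
    refine Subgroup.mem_inf.mpr ⟨(Subgroup.mem_normalizer_iff.mp hg x).mp hx.1, ?_⟩
    rw [Subgroup.mem_centralizer_iff]
    intro y hy
    have hy' : g⁻¹ * y * g ∈ L := by
      have := (Subgroup.mem_normalizer_iff.mp (Subgroup.inv_mem _ hg) y).mp hy
      simpa using this
    have hc := (Subgroup.mem_centralizer_iff.mp hx.2) _ hy'
    calc y * (g * x * g⁻¹) = g * ((g⁻¹ * y * g) * x) * g⁻¹ := by group
      _ = g * (x * (g⁻¹ * y * g)) * g⁻¹ := by rw [hc]
      _ = g * x * g⁻¹ * y := by group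
  intro g hg
  rw [Subgroup.mem_normalizer_iff]
  intro x
  refine ⟨key g hg x, fun hx => ?_⟩
  have := key g⁻¹ (Subgroup.inv_mem _ hg) _ hx
  simpa [mul_assoc] using this

theorem zOf_isMulCommutative (L : Subgroup G) : IsMulCommutative (zOf L) := by
  refine ⟨⟨fun a b => ?_⟩⟩
  apply Subtype.ext
  have := (Subgroup.mem_centralizer_iff.mp b.2.2) a a.2.1
  simpa using this

/-- The centre of `↥L` for `L : Subgroup ↥S`, pushed into `G`, is `zOf` of the image of `L`. -/
theorem map_map_center (S : Subgroup G) (L : Subgroup ↥S) :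
    ((Subgroup.center ↥L).map L.subtype).map S.subtype = zOf (L.map S.subtype) := by
  ext x
  constructor
  · rintro ⟨_, ⟨z, hz, rfl⟩, rfl⟩
    refine Subgroup.mem_inf.mpr ⟨⟨(z : ↥S), z.2, rfl⟩, ?_⟩
    rw [Subgroup.mem_centralizer_iff]
    rintro _ ⟨y, hy, rfl⟩
    have hz' : z ∈ Subgroup.center ↥L := hz
    rw [Subgroup.mem_center_iff] at hz'
    have := hz' ⟨y, hy⟩
    have h2 := congrArg (fun w : ↥L => ((w : ↥S) : G)) this
    simpa using h2
  · intro hx
    obtain ⟨⟨y, hy, rfl⟩, hC⟩ := Subgroup.mem_inf.mp hx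
    have hcen : (⟨y, hy⟩ : ↥L) ∈ Subgroup.center ↥L := ?_
    · exact ⟨y, ⟨⟨y, hy⟩, hcen, rfl⟩, rfl⟩
    rw [Subgroup.mem_center_iff]
    intro w
    apply Subtype.ext
    apply Subtype.ext
    have := (Subgroup.mem_centralizer_iff.mp hC) ((w : ↥S) : G) ⟨(w : ↥S), w.2, rfl⟩
    simpa using this

end Cfsg.Agent.Helper35.PuigRel
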