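import Mathlib
import Cfsg.Agent.Helper35.PuigRel
import Cfsg.Agent.Helper64.OddStable
import Cfsg.Agent.Helper24.Coprime
import Cfsg.Agent.Helper55.SolvCore
import Cfsg.Agent.Helper53.NormalComplement
import Cfsg.Agent.Helper22.PComponent

/-!
# The Puig subgroup theorem for solvable groups of odd order (helper35)

`G` solvable of odd order, `O_{p'}(G) = 1`, `S` a Sylow `p`-subgroup, `T = O_p(G)`:

* `relSeq_compare`: `L_{2n}(S) ≤ L_{2n}(T)` and `L_{2n+1}(T) ≤ L_{2n+1}(S)`;
* `zOf_relUpper_normal`: `Z(L(S))` is normal in `G`;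
* `pPrimeCore_sup_normalizer_zOf`: in general `G = O_{p'}(G) N_G(Z(L(S)))`.
-/

set_option autoImplicit false

namespace Cfsg.Agent.Helper35.PuigRel

open Cfsg Cfsg.Agent.Lib
open scoped Pointwise

universe u

section General

variable {G : Type u} [Group G] [Finite G]

/-- If `U ≤ O_p(G)` is normal in `G` and contains its centralizer in `O_p(G)`, then `C_G(U)` is a
`p`-group, hence lies in `O_p(G)` (`G` solvable with `O_{p'}(G) = 1`). -/
theorem centralizer_le_pCore [Group.IsSolvable G] {p : ℕ} [Fact p.Prime]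
    (hO : pPrimeCore p G = ⊥) (U : Subgroup G) [hUn : U.Normal] (hUT : U ≤ pCore p G)
    (hCU : pCore p G ⊓ Subgroup.centralizer (U : Set G) ≤ U) :
    Subgroup.centralizer (U : Set G) ≤ pCore p G := by
  have hCn : (Subgroup.centralizer (U : Set G)).Normal := Subgroup.normal_centralizer
  have hTp : IsPGroup p (pCore p G) := isPGroup_pCore p
  have hUp : IsPGroup p U := hTp.to_le hUT
  have hTn : (pCore p G).Normal := pCore_normal p G
  have hCp : IsPGroup p (Subgroup.centralizer (U : Set G)) := by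
    apply Cfsg.Agent.Helper55.isPGroup_of_forall_coprime_eq_one
    intro a ha
    have haC : ∀ b ∈ U, b * (a : G) = (a : G) * b := Subgroup.mem_centralizer_iff.mp a.2
    have hcent : ∀ u ∈ pCore p G, (a : G) * u = u * (a : G) := by
      refine Cfsg.Agent.Helper24.thompson_PxQ hTp hUp ?_ ?_ ?_ ?_ ?_
      · rw [Subgroup.normalizer_eq_top_iff.mpr hTn]; exact le_top
      · rw [Subgroup.normalizer_eq_top_iff.mpr hTn]; exact Subgroup.mem_top _
      · rw [Subgroup.orderOf_coe]; exact ha
      · intro b hb; exact (haC b hb).symm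
      · intro u hu hub
        have huU : u ∈ U := hCU ⟨hu, Subgroup.mem_centralizer_iff.mpr hub⟩
        exact (haC u huU).symm
    have haT : (a : G) ∈ pCore p G := by
      apply Cfsg.Agent.Helper55.centralizer_pCore_le p hO
      rw [Subgroup.mem_centralizer_iff]
      intro u hu
      exact (hcent u hu).symm
    obtain ⟨k, hk⟩ := hTp ⟨(a : G), haT⟩
    have hk' : (a : G) ^ p ^ k = 1 := by
      have := congrArg Subtype.val hk
      simpa using this
    have hdvd : orderOf (a : G) ∣ p ^ k := orderOf_dvd_of_pow_eq_one hk'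
    have hcop : (orderOf (a : G)).Coprime (p ^ k) := by
      rw [Subgroup.orderOf_coe]; exact Nat.Coprime.pow_right k ha
    have h1 : orderOf (a : G) = 1 := Nat.Coprime.eq_one_of_dvd hcop hdvd
    rw [orderOf_eq_one_iff] at h1
    exact Subtype.ext h1
  exact le_pCore hCn hCp

/-- `p`-stability: an abelian subgroup normalized by the normal `p`-subgroup `U` maps into
`O_p(G / C_G(U))`. -/
theorem mk_mem_pCore_of_normalizes [Group.IsSolvable G] (hodd : Odd (Nat.card G)) {p : ℕ}
    [Fact p.Prime] (U : Subgroup G) [hUn : U.Normal] (hUp : IsPGroup p U) (A : Subgroup G)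
    (hAc : IsMulCommutative A) (hUA : U ≤ Subgroup.normalizer (A : Set G)) {a : G} (ha : a ∈ A) :
    (QuotientGroup.mk a : G ⧸ Subgroup.centralizer (U : Set G)) ∈
      pCore p (G ⧸ Subgroup.centralizer (U : Set G)) := by
  apply Cfsg.Agent.Helper64.isPStableOn_of_odd_solvable hodd U hUp a
  have hzA : Subgroup.zpowers a ≤ A := by rw [Subgroup.zpowers_le]; exact ha
  have h1 : ⁅U, Subgroup.zpowers a⁆ ≤ A := by
    rw [Subgroup.commutator_le]
    intro u hu z hz
    have hzA' : z ∈ A := hzA hz
    have h2 : u * z * u⁻¹ ∈ A := (Subgroup.mem_normalizer_iff.mp (hUA hu) z).mp hzA'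
    rw [commutatorElement_def]
    exact A.mul_mem h2 (A.inv_mem hzA')
  rw [eq_bot_iff]
  have h3 : ⁅A, A⁆ = ⊥ := by
    rw [Subgroup.commutator_eq_bot_iff_le_centralizer]
    exact Subgroup.le_centralizer A
  rw [← h3]
  exact Subgroup.commutator_mono h1 hzA

/-- An abelian subgroup normalized by a normal `p`-subgroup `U` with `C_G(U) ≤ O_p(G)` lies in
`O_p(G)`. -/
theorem le_pCore_of_normalized [Group.IsSolvable G] (hodd : Odd (Nat.card G)) {p : ℕ}
    [Fact p.Prime] (U : Subgroup G) [hUn : U.Normal] (hUp : IsPGroup p U)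
    (hC : Subgroup.centralizer (U : Set G) ≤ pCore p G) (A : Subgroup G)
    (hAc : IsMulCommutative A) (hUA : U ≤ Subgroup.normalizer (A : Set G)) : A ≤ pCore p G := by
  intro a ha
  have h1 := mk_mem_pCore_of_normalizes hodd U hUp A hAc hUA ha
  rw [Cfsg.Agent.Helper64.mk_mem_pCore_iff] at h1
  obtain ⟨D, hDn, haD, hD⟩ := h1
  have hDp : IsPGroup p D := by
    rintro ⟨t, ht⟩
    obtain ⟨k, hk⟩ := hD t ht
    obtain ⟨j, hj⟩ := (isPGroup_pCore (G := G) p) ⟨t ^ p ^ k, hC hk⟩
    refine ⟨k + j, Subtype.ext ?_⟩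
    have hj' : (t ^ p ^ k) ^ p ^ j = 1 := by
      have := congrArg Subtype.val hj
      simpa using this
    show t ^ p ^ (k + j) = 1
    rw [pow_add, pow_mul]
    exact hj'
  exact le_pCore hDn hDp haD

/-- The comparison of the Puig series of a Sylow `p`-subgroup and of `O_p(G)`. -/
theorem relSeq_compare [Group.IsSolvable G] (hodd : Odd (Nat.card G)) {p : ℕ} [Fact p.Prime]
    (hO : pPrimeCore p G = ⊥) (S : Sylow p G) (n : ℕ) :
    relSeq (S : Subgroup G) (2 * n) ≤ relSeq (pCore p G) (2 * n) ∧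
      relSeq (pCore p G) (2 * n + 1) ≤ relSeq (S : Subgroup G) (2 * n + 1) := by
  have hTS : pCore p G ≤ (S : Subgroup G) := pCore_le_sylow S
  have hTp : IsPGroup p (pCore p G) := isPGroup_pCore p
  have hTn : (pCore p G).Normal := pCore_normal p G
  have easy : ∀ X Y : Subgroup G, X ≤ Y → relStep (pCore p G) Y ≤ relStep (S : Subgroup G) X :=
    fun X Y h => (relStep_anti _ h).trans (relStep_mono_left hTS X)
  have hard : ∀ (m : ℕ) (V : Subgroup G), relSeq (pCore p G) (m + 1) ≤ V →
      relStep (S : Subgroup G) V ≤ relStep (pCore p G) (relSeq (pCore p G) (m + 1)) := by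
    intro m V hV
    apply sSup_le
    rintro A ⟨hAS, hAc, hVA⟩
    have hUn : (relSeq (pCore p G) (m + 1)).Normal := relSeq_normal _ _
    have hUp : IsPGroup p (relSeq (pCore p G) (m + 1)) := hTp.to_le (relSeq_le _ _)
    have hC := centralizer_le_pCore hO (relSeq (pCore p G) (m + 1)) (relSeq_le _ _)
      (inf_centralizer_relSeq_le (pCore p G) hTp m)
    have hAT : A ≤ pCore p G :=
      le_pCore_of_normalized hodd _ hUp hC A hAc (hV.trans hVA)
    exact le_relStep ⟨hAT, hAc, hV.trans hVA⟩
  induction n with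
  | zero =>
    refine ⟨le_of_eq rfl, ?_⟩
    exact easy _ _ (le_of_eq rfl)
  | succ k ih =>
    have h1 : relSeq (S : Subgroup G) (2 * k + 2) ≤ relSeq (pCore p G) (2 * k + 2) :=
      hard (2 * k) _ ih.2
    refine ⟨h1, ?_⟩
    exact easy _ _ h1

/-- If `L(S) ≤ R ≤ S` then `L(R) = L(S)`. -/
theorem relUpper_eq_of_le (S R : Subgroup G) (hRS : R ≤ S) (hLR : relUpper S ≤ R) :
    relUpper R = relUpper S := by
  have hcmp : ∀ n : ℕ, relSeq S (2 * n) ≤ relSeq R (2 * n) ∧
      relSeq R (2 * n + 1) ≤ relSeq S (2 * n + 1) := by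
    intro n
    induction n with
    | zero =>
      refine ⟨le_of_eq rfl, ?_⟩
      exact (relStep_anti _ (le_of_eq rfl)).trans (relStep_mono_left hRS _)
    | succ k ih =>
      have h1 : relSeq S (2 * k + 2) ≤ relSeq R (2 * k + 2) := by
        apply sSup_le
        rintro A ⟨hAS, hAc, hVA⟩
        have hA1 : A ≤ relSeq S (2 * k + 2) := le_relStep ⟨hAS, hAc, hVA⟩
        have hA2 : A ≤ R :=
          hA1.trans ((relSeq_even_le_relLower S (k + 1)).trans
            ((relLower_le_relUpper S).trans hLR))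
        exact le_relStep ⟨hA2, hAc, ih.2.trans hVA⟩
      refine ⟨h1, ?_⟩
      exact (relStep_anti _ h1).trans (relStep_mono_left hRS _)
  apply le_antisymm
  · exact iInf_mono fun n => (hcmp n).2
  · apply le_iInf
    intro n
    induction n with
    | zero =>
      show relUpper S ≤ relSeq R 1
      rw [relSeq_one]; exact hLR
    | succ k ih =>
      have h2 : relSeq R (2 * k + 2) ≤ relLower S := by
        rw [← relStep_relUpper S]
        exact (relStep_anti R ih).trans (relStep_mono_left hRS _)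
      have h3 : relUpper S ≤ relStep R (relLower S) := by
        conv_lhs => rw [← relStep_relLower S]
        apply sSup_le
        rintro A ⟨hAS, hAc, hVA⟩
        have hA1 : A ≤ relUpper S := by
          rw [← relStep_relLower S]; exact le_relStep ⟨hAS, hAc, hVA⟩
        exact le_relStep ⟨hA1.trans hLR, hAc, hVA⟩
      exact h3.trans (relStep_anti R h2)

/-- If `D/C` is a `p`-group (given as `D` the preimage of `O_p(G/C)`), then `D = C (S ∩ D)`. -/
theorem comap_pCore_le_sup {p : ℕ} [Fact p.Prime] (S : Sylow p G) (C : Subgroup G) [C.Normal] :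
    (pCore p (G ⧸ C)).comap (QuotientGroup.mk' C) ≤
      C ⊔ ((S : Subgroup G) ⊓ (pCore p (G ⧸ C)).comap (QuotientGroup.mk' C)) := by
  have hp : p.Prime := Fact.out
  set D := (pCore p (G ⧸ C)).comap (QuotientGroup.mk' C) with hD
  have hDn : D.Normal := (pCore_normal p (G ⧸ C)).comap _
  have hCD : C ≤ D := by
    intro x hx
    rw [hD, Subgroup.mem_comap]
    have : QuotientGroup.mk' C x = 1 := (QuotientGroup.eq_one_iff x).mpr hx
    rw [this]; exact Subgroup.one_mem _
  set E := C ⊔ ((S : Subgroup G) ⊓ D) with hE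
  rw [← Subgroup.relIndex_eq_one]
  have h1 : E.relIndex D ∣ C.relIndex D := Subgroup.relIndex_dvd_of_le_left D le_sup_left
  have h2 : E.relIndex D ∣ (S : Subgroup G).relIndex D := by
    rw [← Subgroup.inf_relIndex_right (S : Subgroup G) D]
    exact Subgroup.relIndex_dvd_of_le_left D le_sup_right
  have h3 : ∃ k : ℕ, C.relIndex D = p ^ k := by
    have hC : C = (⊥ : Subgroup (G ⧸ C)).comap (QuotientGroup.mk' C) := by
      rw [MonoidHom.comap_bot, QuotientGroup.ker_mk']
    have hmap : D.map (QuotientGroup.mk' C) = pCore p (G ⧸ C) :=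
      Subgroup.map_comap_eq_self_of_surjective (QuotientGroup.mk'_surjective C) _
    obtain ⟨k, hk⟩ := IsPGroup.iff_card.mp (isPGroup_pCore (G := G ⧸ C) p)
    refine ⟨k, ?_⟩
    conv_lhs => rw [hC]
    rw [Subgroup.relIndex_comap, hmap, Subgroup.relIndex_bot_left, hk]
  obtain ⟨k, hk⟩ := h3
  rw [hk] at h1
  obtain ⟨j, _, hj⟩ := (Nat.dvd_prime_pow hp).mp h1
  rcases Nat.eq_zero_or_pos j with h0 | h0
  · rw [hj, h0, pow_zero]
  · exfalso
    apply Cfsg.Agent.Helper53.not_dvd_relIndex_sylow_of_normal S D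
    refine dvd_trans ?_ h2
    rw [hj]
    exact dvd_pow_self p h0.ne'

/-- **Puig**: for `G` solvable of odd order with `O_{p'}(G) = 1`, `Z(L(S))` is normal in `G`. -/
theorem zOf_relUpper_normal [Group.IsSolvable G] (hodd : Odd (Nat.card G)) {p : ℕ} [Fact p.Prime]
    (hO : pPrimeCore p G = ⊥) (S : Sylow p G) : (zOf (relUpper (S : Subgroup G))).Normal := by
  have hTS : pCore p G ≤ (S : Subgroup G) := pCore_le_sylow S
  have hTp : IsPGroup p (pCore p G) := isPGroup_pCore p
  have hTn : (pCore p G).Normal := pCore_normal p G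
  have hcmp := relSeq_compare hodd hO S
  have h1 : relLower (S : Subgroup G) ≤ relLower (pCore p G) := iSup_mono fun n => (hcmp n).1
  have h2 : relLower (pCore p G) ≤ relUpper (pCore p G) := relLower_le_relUpper _
  have h3 : relUpper (pCore p G) ≤ relUpper (S : Subgroup G) := iInf_mono fun n => (hcmp n).2
  set L := relUpper (S : Subgroup G) with hL
  set W := zOf (relUpper (pCore p G)) with hW
  have hSL : (S : Subgroup G) ≤ Subgroup.normalizer (L : Set G) :=
    Subgroup.le_normalizer.trans (normalizer_le_normalizer_relUpper _)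
  have hSZ : (S : Subgroup G) ≤ Subgroup.normalizer (zOf L : Set G) :=
    hSL.trans (normalizer_le_normalizer_zOf L)
  have hZLs : zOf L ≤ relLower (S : Subgroup G) := by
    rw [← relStep_relUpper (S : Subgroup G)]
    exact le_relStep ⟨inf_le_left.trans (relUpper_le _), zOf_isMulCommutative L,
      (relUpper_le _).trans hSZ⟩
  have hZW : zOf L ≤ W := fun x hx =>
    Subgroup.mem_inf.mpr ⟨h2 (h1 (hZLs hx)), Subgroup.centralizer_le h3 hx.2⟩
  have hLTn : (relUpper (pCore p G)).Normal := relUpper_normal _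
  have hWn : W.Normal := by
    rw [← Subgroup.normalizer_eq_top_iff, eq_top_iff]
    refine le_trans ?_ (normalizer_le_normalizer_zOf _)
    rw [Subgroup.normalizer_eq_top_iff.mpr hLTn]
  have hWT : W ≤ pCore p G := inf_le_left.trans (relUpper_le _)
  have hWLs : W ≤ relLower (S : Subgroup G) := by
    rw [← relStep_relUpper (S : Subgroup G)]
    refine le_relStep ⟨hWT.trans hTS, zOf_isMulCommutative _, ?_⟩
    rw [Subgroup.normalizer_eq_top_iff.mpr hWn]; exact le_top
  have hWp : IsPGroup p W := hTp.to_le hWT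
  have hCn : (Subgroup.centralizer (W : Set G)).Normal := Subgroup.normal_centralizer
  set C := Subgroup.centralizer (W : Set G) with hC
  set D := (pCore p (G ⧸ C)).comap (QuotientGroup.mk' C) with hD
  have hDn : D.Normal := (pCore_normal p (G ⧸ C)).comap _
  have hLD : L ≤ D := by
    rw [hL, ← relStep_relLower (S : Subgroup G)]
    apply sSup_le
    rintro A ⟨hAS, hAc, hLsA⟩ a ha
    rw [hD, Subgroup.mem_comap]
    exact mk_mem_pCore_of_normalizes hodd W hWp A hAc (hWLs.trans hLsA) ha
  have hup : relUpper ((S : Subgroup G) ⊓ D) = L :=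
    relUpper_eq_of_le (S : Subgroup G) _ inf_le_left (le_inf (relUpper_le _) hLD)
  have hN : Subgroup.normalizer (((S : Subgroup G) ⊓ D : Subgroup G) : Set G) ≤
      Subgroup.normalizer (zOf L : Set G) := by
    have h := normalizer_le_normalizer_relUpper ((S : Subgroup G) ⊓ D)
    rw [hup] at h
    exact h.trans (normalizer_le_normalizer_zOf L)
  have hCZ : C ≤ Subgroup.normalizer (zOf L : Set G) :=
    (Subgroup.centralizer_le hZW).trans (Subgroup.centralizer_le_normalizer _)
  have hDle : D ≤ C ⊔ ((S : Subgroup G) ⊓ D) := comap_pCore_le_sup S C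
  have hF : Subgroup.normalizer (((S : Subgroup G) ⊓ D : Subgroup G) : Set G) ⊔ D = ⊤ := by
    have h := Sylow.normalizer_sup_eq_top (Cfsg.Agent.Helper53.sylowInfNormal S D)
    rw [Cfsg.Agent.Helper53.coe_sylowInfNormal, Subgroup.subgroupOf_map_subtype] at h
    exact h
  rw [← Subgroup.normalizer_eq_top_iff, eq_top_iff, ← hF]
  exact sup_le hN (hDle.trans (sup_le hCZ (inf_le_left.trans hSZ)))

end General

section Transport

variable {G : Type*} [Group G] {G' : Type*} [Group G']

theorem relUpper_map_of_injOn (f : G →* G') (R : Subgroup G)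
    (hf : Function.Injective (f.comp R.subtype)) : (relUpper R).map f = relUpper (R.map f) := by
  have h1 : relUpper R = (relUpper (⊤ : Subgroup ↥R)).map R.subtype := by
    rw [relUpper_map _ R.subtype_injective, map_subtype_top]
  have h2 : (⊤ : Subgroup ↥R).map (f.comp R.subtype) = R.map f := by
    rw [← Subgroup.map_map, map_subtype_top]
  rw [h1, Subgroup.map_map, relUpper_map _ hf, h2]

theorem zOf_map_of_injOn (f : G →* G') (R L : Subgroup G) (hLR : L ≤ R)
    (hf : Function.Injective (f.comp R.subtype)) : (zOf L).map f = zOf (L.map f) := by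
  ext y
  constructor
  · rintro ⟨x, hx, rfl⟩
    refine Subgroup.mem_inf.mpr ⟨Subgroup.mem_map_of_mem f hx.1, ?_⟩
    rw [Subgroup.mem_centralizer_iff]
    rintro _ ⟨l, hl, rfl⟩
    rw [← map_mul, ← map_mul, (Subgroup.mem_centralizer_iff.mp hx.2) l hl]
  · intro hy
    obtain ⟨⟨x, hx, rfl⟩, hC⟩ := Subgroup.mem_inf.mp hy
    refine ⟨x, Subgroup.mem_inf.mpr ⟨hx, ?_⟩, rfl⟩
    rw [Subgroup.mem_centralizer_iff]
    intro l hl
    have h1 := (Subgroup.mem_centralizer_iff.mp hC) (f l) (Subgroup.mem_map_of_mem f hl)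
    rw [← map_mul, ← map_mul] at h1
    have h2 : (f.comp R.subtype) ⟨l * x, R.mul_mem (hLR hl) (hLR hx)⟩ =
        (f.comp R.subtype) ⟨x * l, R.mul_mem (hLR hx) (hLR hl)⟩ := h1
    exact congrArg Subtype.val (hf h2)

end Transport

section Quotient

variable {G : Type u} [Group G] [Finite G]

/-- **Puig**: for `G` solvable of odd order, `G = O_{p'}(G) N_G(Z(L(S)))`. -/
theorem pPrimeCore_sup_normalizer_zOf [Group.IsSolvable G] (hodd : Odd (Nat.card G)) {p : ℕ}
    [Fact p.Prime] (S : Sylow p G) :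
    pPrimeCore p G ⊔ Subgroup.normalizer (zOf (relUpper (S : Subgroup G)) : Set G) = ⊤ := by
  set K := pPrimeCore p G with hK
  have hKn : K.Normal := pPrimeCore_normal p G
  set π := QuotientGroup.mk' K with hπ
  have hSK : (S : Subgroup G) ⊓ K = ⊥ := by
    apply Disjoint.eq_bot
    apply Subgroup.disjoint_of_coprime_natCard
    obtain ⟨k, hk⟩ := IsPGroup.iff_card.mp S.2
    rw [hk]
    exact Nat.Coprime.pow_left k (card_pPrimeCore_coprime p).symm
  have hinj : Function.Injective (π.comp (S : Subgroup G).subtype) := by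
    rw [injective_iff_map_eq_one]
    intro x hx
    have hxK : (x : G) ∈ K := by
      have : π (x : G) = 1 := hx
      rwa [hπ, QuotientGroup.mk'_apply, QuotientGroup.eq_one_iff] at this
    have : (x : G) ∈ (S : Subgroup G) ⊓ K := ⟨x.2, hxK⟩
    rw [hSK, Subgroup.mem_bot] at this
    exact Subtype.ext this
  have hO' : pPrimeCore p (G ⧸ K) = ⊥ := Cfsg.Agent.Helper22.pPrimeCore_quotient_eq_bot p
  have hodd' : Odd (Nat.card (G ⧸ K)) :=
    Odd.of_dvd_nat hodd (Subgroup.card_quotient_dvd_card K)
  have hn := zOf_relUpper_normal hodd' hO' (S.mapSurjective (QuotientGroup.mk'_surjective K))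
  rw [Sylow.coe_mapSurjective] at hn
  set Z := zOf (relUpper (S : Subgroup G)) with hZ
  have hZS : Z ≤ (S : Subgroup G) := inf_le_left.trans (relUpper_le _)
  have hmapZ : Z.map π = zOf (relUpper ((S : Subgroup G).map π)) := by
    rw [hZ, zOf_map_of_injOn π (S : Subgroup G) _ (relUpper_le _) hinj,
      relUpper_map_of_injOn π _ hinj]
  have hM : (Z ⊔ K).Normal := by
    have h := hn.comap π
    rw [← hmapZ, Subgroup.comap_map_eq, hπ, QuotientGroup.ker_mk'] at h
    exact h
  have hSM : (S : Subgroup G) ⊓ (Z ⊔ K) = Z := by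
    apply le_antisymm
    · intro x hx
      obtain ⟨hxS, hxM⟩ := hx
      have hset : ((Z ⊔ K : Subgroup G) : Set G) = (Z : Set G) * (K : Set G) :=
        Subgroup.mul_normal Z K ▸ rfl
      have hx' : x ∈ (Z : Set G) * (K : Set G) := by rw [← hset]; exact hxM
      obtain ⟨z, hz, k, hk, rfl⟩ := Set.mem_mul.mp hx'
      have hkS : k ∈ (S : Subgroup G) := by
        have : k = z⁻¹ * (z * k) := by group
        rw [this]
        exact Subgroup.mul_mem _ (Subgroup.inv_mem _ (hZS hz)) hxS
      have : k ∈ (S : Subgroup G) ⊓ K := ⟨hkS, hk⟩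
      rw [hSK, Subgroup.mem_bot] at this
      rw [this, mul_one]
      exact hz
    · exact le_inf hZS le_sup_left
  have hF := Sylow.normalizer_sup_eq_top (Cfsg.Agent.Helper53.sylowInfNormal S (Z ⊔ K))
  rw [Cfsg.Agent.Helper53.coe_sylowInfNormal, Subgroup.subgroupOf_map_subtype, hSM] at hF
  rw [eq_top_iff, ← hF]
  refine sup_le le_sup_right (sup_le ?_ le_sup_left)
  exact Subgroup.le_normalizer.trans le_sup_right

end Quotient

end Cfsg.Agent.Helper35.PuigRel
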