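import Mathlib
import Cfsg.Prelude.Def_Classical
import Cfsg.Agent.Helper84.RU3.Defs

/-!
# Piece (GEN) of helper84's S2283 plan: the hyperbolic model of `SU_3` is generated by its upper and
lower unipotent elements.
-/

set_option autoImplicit false
set_option linter.unusedSectionVars false
set_option linter.unusedVariables false

namespace Cfsg.Agent.Helper35.RU3

open Matrix Cfsg.Agent.Helper84.RU3

variable {K : Type*} [Field K] (bar : K →+* K) (hb : ∀ x, bar (bar x) = x)

/-- the subgroup generated by the unipotent elements -/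
def Hgen : Subgroup (SUJ bar) :=
  Subgroup.closure ({g : SUJ bar | (∃ (a b : K) (h : b + bar b + a * bar a = 0), g = uE bar hb a b h) ∨
      (∃ (c d : K) (h : d + bar d + c * bar c = 0), g = lE bar hb c d h)})

theorem uE_mem (a b : K) (h : b + bar b + a * bar a = 0) : uE bar hb a b h ∈ Hgen bar hb :=
  Subgroup.subset_closure (Or.inl ⟨a, b, h, rfl⟩)

theorem lE_mem (c d : K) (h : d + bar d + c * bar c = 0) : lE bar hb c d h ∈ Hgen bar hb :=
  Subgroup.subset_closure (Or.inr ⟨c, d, h, rfl⟩)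

/-- the entries of the unitarity condition -/
theorem isUn_entry {M : Matrix (Fin 3) (Fin 3) K} (h : IsUn bar M) (i j : Fin 3) :
    M 0 i * bar (M 2 j) + M 1 i * bar (M 1 j) + M 2 i * bar (M 0 j) = Jm i j := by
  unfold IsUn at h
  have := congrFun (congrFun h i) j
  rw [← this]
  simp [Matrix.mul_apply, Fin.sum_univ_three, Jm]
  ring

include hb

/-- antidiagonal matrices -/
def aM (x y z : K) : Matrix (Fin 3) (Fin 3) K := !![0, 0, x; 0, y, 0; z, 0, 0]

theorem n_mat {c d : K} (hd : d ≠ 0) (h : d + bar d + c * bar c = 0) :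
    uM bar (-c / d) (1 / bar d) * lM bar c d * uM bar (-c / bar d) (1 / bar d) =
      aM (1 / bar d) (-bar d / d) d := by
  have hbd : bar d ≠ 0 := (map_ne_zero bar).mpr hd
  have h1 : uM bar (-c / d) (1 / bar d) * lM bar c d =
      !![0, 0, 1 / bar d; 0, -bar d / d, -c / d; d, -bar c, 1] := by
    ext i j
    fin_cases i <;> fin_cases j <;>
      simp [uM, lM, Matrix.mul_apply, Fin.sum_univ_three, hb] <;> (try field_simp) <;>
      first | ring1 | linear_combination h | linear_combination -h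
  rw [h1]
  ext i j
  fin_cases i <;> fin_cases j <;>
    simp [uM, aM, Matrix.mul_apply, Fin.sum_univ_three, hb] <;> (try field_simp) <;>
    first | ring1 | linear_combination h | linear_combination -h

/-- the elements `n(c,d)` lie in `Hgen` -/
theorem exists_n_mem {c d : K} (hd : d ≠ 0) (h : d + bar d + c * bar c = 0) :
    ∃ n ∈ Hgen bar hb, mt bar n = aM (1 / bar d) (-bar d / d) d := by
  have hbd : bar d ≠ 0 := (map_ne_zero bar).mpr hd
  have h1 : 1 / bar d + bar (1 / bar d) + (-c / d) * bar (-c / d) = 0 := by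
    simp only [map_div₀, map_neg, map_one, hb]
    field_simp
    linear_combination h
  have h2 : 1 / bar d + bar (1 / bar d) + (-c / bar d) * bar (-c / bar d) = 0 := by
    simp only [map_div₀, map_neg, map_one, hb]
    field_simp
    linear_combination h
  refine ⟨uE bar hb _ _ h1 * lE bar hb c d h * uE bar hb _ _ h2, ?_, ?_⟩
  · exact (Hgen bar hb).mul_mem ((Hgen bar hb).mul_mem (uE_mem bar hb _ _ h1) (lE_mem bar hb c d h))
      (uE_mem bar hb _ _ h2)
  · rw [mt_mul, mt_mul, mt_uE, mt_lE, mt_uE]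
    exact n_mat bar hb hd h

theorem wE_mem (hnm : ∀ y : K, bar y = y → ∃ t, t * bar t = y) : wE bar hb ∈ Hgen bar hb := by
  obtain ⟨t, ht⟩ := hnm (-2) (by rw [map_neg, map_ofNat])
  have h : (1 : K) + bar 1 + t * bar t = 0 := by rw [map_one, ht]; ring
  obtain ⟨n, hn, hmat⟩ := exists_n_mem bar hb one_ne_zero h
  have : n = wE bar hb := by
    apply ext_mt
    rw [hmat, mt_wE]
    ext i j
    fin_cases i <;> fin_cases j <;> simp [aM, wM]
  rw [← this]; exact hn

theorem hE_mem (hnm : ∀ y : K, bar y = y → ∃ t, t * bar t = y) (l : K) (hl : l ≠ 0) :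
    hE bar hb l hl ∈ Hgen bar hb := by
  have hbl : bar l ≠ 0 := (map_ne_zero bar).mpr hl
  obtain ⟨t, ht⟩ := hnm (-(l + bar l)) (by rw [map_neg, map_add, hb]; ring)
  have h : l + bar l + t * bar t = 0 := by rw [ht]; ring
  obtain ⟨n, hn, hmat⟩ := exists_n_mem bar hb hl h
  have : hE bar hb l hl = wE bar hb * n := by
    apply ext_mt
    rw [mt_mul, hmat, mt_wE, mt_hE]
    ext i j
    fin_cases i <;> fin_cases j <;>
      simp [aM, wM, hM, Matrix.mul_apply, Fin.sum_univ_three] <;> (try field_simp)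
  rw [this]; exact (Hgen bar hb).mul_mem (wE_mem bar hb hnm) hn

theorem Jm_vals : (Jm : Matrix (Fin 3) (Fin 3) K) 0 2 = 1 ∧ (Jm : Matrix (Fin 3) (Fin 3) K) 1 2 = 0 ∧
    (Jm : Matrix (Fin 3) (Fin 3) K) 0 1 = 0 ∧ (Jm : Matrix (Fin 3) (Fin 3) K) 0 0 = 0 ∧
    (Jm : Matrix (Fin 3) (Fin 3) K) 2 2 = 0 := by
  simp [Jm]

/-- an element whose last column is `(0, 0, *)` lies in `Hgen` -/
theorem mem_of_lower (hnm : ∀ y : K, bar y = y → ∃ t, t * bar t = y) (g : SUJ bar)
    (h02 : mt bar g 0 2 = 0) (h12 : mt bar g 1 2 = 0) : g ∈ Hgen bar hb := by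
  obtain ⟨j02, j12, j01, j00, j22⟩ := Jm_vals (K := K) bar hb
  have hU := isUn_mt bar g
  have e02 := isUn_entry bar hU 0 2
  have e12 := isUn_entry bar hU 1 2
  have e01 := isUn_entry bar hU 0 1
  have e00 := isUn_entry bar hU 0 0
  have hdet := det_mt bar g
  rw [Matrix.det_fin_three] at hdet
  generalize hMg : mt bar g = M at *
  rw [j02, h02, h12, map_zero, mul_zero, mul_zero, add_zero, add_zero] at e02
  rw [j12, h02, h12, map_zero, mul_zero, mul_zero, add_zero, add_zero] at e12
  have hl : M 0 0 ≠ 0 := by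
    intro h; rw [h, zero_mul] at e02; exact zero_ne_one e02
  have hb22 : bar (M 2 2) ≠ 0 := by
    intro h; rw [h, mul_zero] at e02; exact zero_ne_one e02
  have h01 : M 0 1 = 0 := by
    rcases mul_eq_zero.mp e12 with h | h
    · exact h
    · exact absurd h hb22
  rw [j01, h01, map_zero, mul_zero, add_zero] at e01
  rw [j00] at e00
  rw [h01, h02, h12] at hdet
  have hbl : bar (M 0 0) ≠ 0 := (map_ne_zero bar).mpr hl
  have e02' : bar (M 0 0) * M 2 2 = 1 := by
    have := congrArg bar e02
    rw [map_mul, hb, map_one] at this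
    exact this
  have e01' : bar (M 0 0) * M 2 1 + bar (M 1 0) * M 1 1 = 0 := by
    have := congrArg bar e01
    rw [map_add, map_mul, map_mul, hb, hb, map_zero] at this
    exact this
  have h22 : M 2 2 = (bar (M 0 0))⁻¹ := eq_inv_of_mul_eq_one_right e02'
  have h11 : M 1 1 = bar (M 0 0) / M 0 0 := by
    rw [h22] at hdet
    field_simp
    field_simp at hdet
    linear_combination hdet
  have h11' : M 1 1 * M 0 0 = bar (M 0 0) := by rw [h11]; field_simp
  have h21' : M 2 1 * M 0 0 + bar (M 1 0) = 0 := by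
    have : bar (M 0 0) * (M 2 1 * M 0 0 + bar (M 1 0)) = 0 := by
      linear_combination (M 0 0) * e01' - bar (M 1 0) * h11'
    exact (mul_eq_zero.mp this).resolve_left hbl
  have h21 : M 2 1 = -bar (M 1 0) / M 0 0 := by
    rw [eq_div_iff hl]
    linear_combination h21'
  have hcd : M 2 0 / M 0 0 + bar (M 2 0 / M 0 0) + M 1 0 / M 0 0 * bar (M 1 0 / M 0 0) = 0 := by
    rw [map_div₀, map_div₀]
    field_simp
    linear_combination e00
  have hg : g = lE bar hb (M 1 0 / M 0 0) (M 2 0 / M 0 0) hcd * hE bar hb (M 0 0) hl := by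
    apply ext_mt
    rw [mt_mul, mt_lE, mt_hE, hMg]
    ext i j
    fin_cases i <;> fin_cases j <;>
      simp [lM, hM, Matrix.mul_apply, Fin.sum_univ_three, h01, h02, h12, h11, h21, h22] <;>
      (try field_simp)
  rw [hg]
  exact (Hgen bar hb).mul_mem (lE_mem bar hb _ _ hcd) (hE_mem bar hb hnm _ hl)

theorem col_formula (M : Matrix (Fin 3) (Fin 3) K) (c d : K) :
    ((wM : Matrix (Fin 3) (Fin 3) K) * (lM bar c d * M)) 0 2 = d * M 0 2 - bar c * M 1 2 + M 2 2 ∧
      ((wM : Matrix (Fin 3) (Fin 3) K) * (lM bar c d * M)) 1 2 = -(c * M 0 2 + M 1 2) := by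
  constructor
  · simp only [Matrix.mul_apply, Fin.sum_univ_three]
    simp [wM, lM]
    ring
  · simp only [Matrix.mul_apply, Fin.sum_univ_three]
    simp [wM, lM]

/-- every element of the model group lies in `Hgen` -/
theorem mem_Hgen (hnm : ∀ y : K, bar y = y → ∃ t, t * bar t = y) (g : SUJ bar) :
    g ∈ Hgen bar hb := by
  obtain ⟨j02, j12, j01, j00, j22⟩ := Jm_vals (K := K) bar hb
  have e22 := isUn_entry bar (isUn_mt bar g) 2 2
  rw [j22] at e22
  by_cases h0 : mt bar g 0 2 = 0
  · have h1 : mt bar g 1 2 = 0 := by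
      rw [h0, map_zero, mul_zero, zero_mul, zero_add, add_zero] at e22
      rcases mul_eq_zero.mp e22 with h | h
      · exact h
      · exact (map_eq_zero bar).mp h
    exact mem_of_lower bar hb hnm g h0 h1
  · have hb0 : bar (mt bar g 0 2) ≠ 0 := (map_ne_zero bar).mpr h0
    have hcd : (-(mt bar g 2 2) / mt bar g 0 2 -
          mt bar g 1 2 * bar (mt bar g 1 2) / (mt bar g 0 2 * bar (mt bar g 0 2))) +
        bar (-(mt bar g 2 2) / mt bar g 0 2 -
          mt bar g 1 2 * bar (mt bar g 1 2) / (mt bar g 0 2 * bar (mt bar g 0 2))) +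
        (-(mt bar g 1 2) / mt bar g 0 2) * bar (-(mt bar g 1 2) / mt bar g 0 2) = 0 := by
      simp only [map_div₀, map_neg, map_sub, map_mul, hb]
      field_simp
      linear_combination (-1 : K) * e22
    have h02' : mt bar (wE bar hb * (lE bar hb _ _ hcd * g)) 0 2 = 0 := by
      rw [mt_mul, mt_mul, mt_wE, mt_lE, (col_formula bar hb _ _ _).1]
      simp only [map_div₀, map_neg, map_sub, map_mul, hb]
      field_simp
      ring
    have h12' : mt bar (wE bar hb * (lE bar hb _ _ hcd * g)) 1 2 = 0 := by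
      rw [mt_mul, mt_mul, mt_wE, mt_lE, (col_formula bar hb _ _ _).2]
      field_simp
      ring
    have hg' := mem_of_lower bar hb hnm _ h02' h12'
    have : g = (lE bar hb _ _ hcd)⁻¹ * ((wE bar hb)⁻¹ * (wE bar hb * (lE bar hb _ _ hcd * g))) := by
      group
    rw [this]
    exact (Hgen bar hb).mul_mem ((Hgen bar hb).inv_mem (lE_mem bar hb _ _ hcd))
      ((Hgen bar hb).mul_mem ((Hgen bar hb).inv_mem (wE_mem bar hb hnm)) hg')

/-- (GEN) the model group is generated by its upper and lower unipotent elements -/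
theorem closure_unip_eq_top (hnm : ∀ y : K, bar y = y → ∃ t, t * bar t = y) :
    Subgroup.closure ({g : SUJ bar | (∃ (a b : K) (h : b + bar b + a * bar a = 0), g = uE bar hb a b h) ∨
      (∃ (c d : K) (h : d + bar d + c * bar c = 0), g = lE bar hb c d h)}) = ⊤ := by
  rw [eq_top_iff]
  intro g _
  exact mem_Hgen bar hb hnm g

end Cfsg.Agent.Helper35.RU3
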