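import Mathlib

set_option autoImplicit false

/-!
# Subgroups of order 6 of `Perm (Fin 4)` are point stabilizers, hence conjugate
-/

namespace Cfsg.Agent.Helper35.S3inS4

open Equiv

theorem three_cycle_data : ∀ g : Perm (Fin 4), g ^ 3 = 1 → g ≠ 1 →
    ∃ d, g d = d ∧ ∀ x, x ≠ d → ∀ z, z ≠ d → (z = x ∨ z = g x ∨ z = g (g x)) := by
  decide +kernel

theorem card_stab : ∀ d : Fin 4, Fintype.card {g : Perm (Fin 4) // g d = d} = 6 := by
  decide +kernel

theorem eq_stabilizer (P : Subgroup (Perm (Fin 4))) (hP : Nat.card P = 6) :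
    ∃ d : Fin 4, ∀ w : Perm (Fin 4), w ∈ P ↔ w d = d := by
  have : Fact (Nat.Prime 3) := ⟨by norm_num⟩
  obtain ⟨x, hx⟩ := exists_prime_orderOf_dvd_card' (G := P) 3 (by rw [hP]; norm_num)
  have hg3 : (x : Perm (Fin 4)) ^ 3 = 1 := by
    have := pow_orderOf_eq_one x
    rw [hx] at this
    exact_mod_cast congrArg Subtype.val this
  have hg1 : (x : Perm (Fin 4)) ≠ 1 := by
    intro h
    have : x = 1 := Subtype.ext h
    rw [this, orderOf_one] at hx
    norm_num at hx
  obtain ⟨d, hd, hcov⟩ := three_cycle_data (x : Perm (Fin 4)) hg3 hg1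
  refine ⟨d, ?_⟩
  -- every element of `P` fixes `d`
  have hfix : ∀ h ∈ P, h d = d := by
    by_contra hcon
    simp only [not_forall] at hcon
    obtain ⟨h, hhP, hhd⟩ := hcon
    have horb : MulAction.orbit P d = Set.univ := by
      ext z
      simp only [Set.mem_univ, iff_true]
      by_cases hz : z = d
      · rw [hz]; exact MulAction.mem_orbit_self d
      · rcases hcov (h d) hhd z hz with h1 | h1 | h1
        · exact ⟨⟨h, hhP⟩, h1.symm⟩
        · exact ⟨x * ⟨h, hhP⟩, h1.symm⟩
        · exact ⟨x * x * ⟨h, hhP⟩, h1.symm⟩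
    have h1 := MulAction.index_stabilizer P d
    rw [horb, Set.ncard_univ, Nat.card_eq_fintype_card, Fintype.card_fin] at h1
    have h2 := Subgroup.index_dvd_card (MulAction.stabilizer P d)
    rw [h1, hP] at h2
    norm_num at h2
  -- cardinality
  intro w
  constructor
  · exact hfix w
  · intro hw
    let K : Subgroup (Perm (Fin 4)) := MulAction.stabilizer (Perm (Fin 4)) d
    have hle : P ≤ K := fun h hh => MulAction.mem_stabilizer_iff.2 (hfix h hh)
    have hK : Nat.card K = 6 := by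
      have : Nat.card K = Fintype.card {g : Perm (Fin 4) // g d = d} := by
        rw [← Nat.card_eq_fintype_card]
        exact Nat.card_congr (Equiv.subtypeEquivRight (fun g => MulAction.mem_stabilizer_iff))
      rw [this, card_stab d]
    have heq : P = K := Subgroup.eq_of_le_of_card_ge hle (by rw [hK, hP])
    rw [heq]
    exact MulAction.mem_stabilizer_iff.2 hw

theorem conj_of_card_six (P P' : Subgroup (Perm (Fin 4))) (hP : Nat.card P = 6)
    (hP' : Nat.card P' = 6) : ∃ y : Perm (Fin 4), ∀ w, w ∈ P' ↔ y⁻¹ * w * y ∈ P := by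
  obtain ⟨d, hd⟩ := eq_stabilizer P hP
  obtain ⟨d', hd'⟩ := eq_stabilizer P' hP'
  refine ⟨Equiv.swap d d', fun w => ?_⟩
  rw [hd, hd']
  simp only [Perm.mul_apply, Equiv.swap_inv, Equiv.swap_apply_left]
  constructor
  · intro h
    rw [h, Equiv.swap_apply_right]
  · intro h
    have := congrArg (Equiv.swap d d') h
    rwa [Equiv.swap_apply_self, Equiv.swap_apply_left] at this

theorem conj_of_equiv (P P' : Subgroup (Perm (Fin 4))) (h : Nonempty (P ≃* Perm (Fin 3)))
    (h' : Nonempty (P' ≃* Perm (Fin 3))) : ∃ y : Perm (Fin 4), ∀ w, w ∈ P' ↔ y⁻¹ * w * y ∈ P := by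
  obtain ⟨e⟩ := h
  obtain ⟨e'⟩ := h'
  apply conj_of_card_six
  · rw [Nat.card_congr e.toEquiv, Nat.card_eq_fintype_card, Fintype.card_perm, Fintype.card_fin]; rfl
  · rw [Nat.card_congr e'.toEquiv, Nat.card_eq_fintype_card, Fintype.card_perm, Fintype.card_fin]; rfl

end Cfsg.Agent.Helper35.S3inS4
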