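import Mathlib
import Cfsg.Prelude.Def_Local
import Cfsg.Prelude.Def_SolvableStructure
import Cfsg.Agent.Lib.Cores
import Cfsg.Agent.Helper11.PSolvable
import Cfsg.Agent.Helper54.SectionAct

/-!
# Piece (B4b) of helper71's S4394 plan: for `p ≥ 5`, an element acting quadratically on an
elementary abelian self-centralizing `O_p(Γ)` of a `p`-soluble group lies in `O_p(Γ)`.
-/

set_option autoImplicit false
set_option linter.style.haveILetI false

namespace Cfsg.Agent.Helper35.Sch

open scoped commutatorElement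
open Cfsg

universe u

/-- (B4b) `p ≥ 5`: an element acting quadratically on an elementary abelian self-centralizing
`O_p(Γ)` lies in `O_p(Γ)`. -/
theorem mem_pCore_of_quadratic {Γ : Type u} [Group Γ] [Finite Γ] {p : ℕ} [Fact p.Prime]
    (hp5 : 5 ≤ p) (hΓ : Cfsg.IsPSolvable p Γ)
    (hC : Subgroup.centralizer (Cfsg.pCore p Γ : Set Γ) ≤ Cfsg.pCore p Γ)
    (hR : Cfsg.IsElementaryAbelian p (Cfsg.pCore p Γ)) (x : Γ)
    (hquad : ∀ r ∈ Cfsg.pCore p Γ, ∀ i j : ℤ, ⁅⁅r, x ^ i⁆, x ^ j⁆ = 1) : x ∈ Cfsg.pCore p Γ := by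
  set R : Subgroup Γ := Cfsg.pCore p Γ with hRdef
  haveI hRn : R.Normal :=
    @Subgroup.normal_of_characteristic _ _ _ (Cfsg.Agent.Lib.pCore_characteristic p)
  have hcomm : ⁅R, R⁆ ≤ (⊥ : Subgroup Γ) := by
    rw [Subgroup.commutator_le]
    intro a ha b hb
    rw [Subgroup.mem_bot, commutatorElement_eq_one_iff_commute]
    exact Cfsg.Agent.Lib.isElementaryAbelian_commute hR ha hb
  have hpow : ∀ k ∈ R, k ^ p ∈ (⊥ : Subgroup Γ) := by
    intro k hk
    rw [Subgroup.mem_bot]
    exact hR.2 k hk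
  have hst := Cfsg.Agent.Helper54.Quad.isPStableOnSection_of_isPSolvable hp5 hΓ _ R ⊥ bot_le
    hcomm hpow rfl
  have hq : ⁅⁅R, Subgroup.zpowers x⁆, Subgroup.zpowers x⁆ ≤ (⊥ : Subgroup Γ) := by
    have h1 : ⁅R, Subgroup.zpowers x⁆ ≤ Subgroup.centralizer (Subgroup.zpowers x : Set Γ) := by
      rw [Subgroup.commutator_le]
      intro r hr z hz
      obtain ⟨i, rfl⟩ := Subgroup.mem_zpowers_iff.mp hz
      rw [Subgroup.mem_centralizer_iff]
      intro w hw
      obtain ⟨j, rfl⟩ := Subgroup.mem_zpowers_iff.mp hw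
      have := hquad r hr i j
      rw [commutatorElement_eq_one_iff_commute] at this
      exact this.eq.symm
    rw [Subgroup.commutator_le]
    intro c hc y hy
    rw [Subgroup.mem_bot, commutatorElement_eq_one_iff_commute]
    have := (Subgroup.mem_centralizer_iff.mp (h1 hc)) y hy
    exact this.symm
  obtain ⟨D, hDn, hCD, ⟨k, hk⟩, hxD⟩ := hst x hq
  have hCR : Cfsg.sectionKernel R ⊥ ≤ R := by
    intro g hg
    apply hC
    rw [Cfsg.Agent.Helper54.Quad.mem_sectionKernel_iff] at hg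
    rw [Subgroup.mem_centralizer_iff]
    intro r hr
    have := hg r hr
    rw [Subgroup.mem_bot, inv_mul_eq_one] at this
    exact this
  have hCp : IsPGroup p (Cfsg.sectionKernel R ⊥) := (Cfsg.Agent.Lib.isPGroup_pCore p).to_le hCR
  obtain ⟨m, hm⟩ := IsPGroup.iff_card.mp hCp
  have hDp : IsPGroup p D := by
    have := Cfsg.Agent.Helper11.card_mul_relIndex hCD
    rw [hm, hk, ← pow_add] at this
    exact IsPGroup.of_card this.symm
  exact Cfsg.Agent.Lib.le_pCore hDn hDp hxD

end Cfsg.Agent.Helper35.Sch
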