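import Mathlib
import Cfsg.Prelude.Def_Local
import Cfsg.Prelude.Def_SolvableStructure
import Cfsg.Agent.Lib.Cores
import Cfsg.Agent.Helper11.PSolvable

/-!
# Piece (B5) of helper71's S4394 plan: the induction hypothesis applied to a proper subgroup
containing the Sylow subgroup.
-/

set_option autoImplicit false
set_option linter.style.haveILetI false

namespace Cfsg.Agent.Helper35.Sch

open Cfsg

universe u v

/-- A subgroup of a `p`-soluble group is `p`-soluble (same proof as in `Cfsg.Agent.S4176`). -/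
theorem isPSolvable_subgroup_b5 {G : Type*} [Group G] {p : ℕ} [hp : Fact p.Prime] (B : Subgroup G)
    (h : Cfsg.IsPSolvable p G) : Cfsg.IsPSolvable p B := by
  obtain ⟨n, K, h0, hlast, hmono, hnorm, hstep⟩ := h
  refine ⟨n, fun i => (K i).subgroupOf B, ?_, ?_, ?_, ?_, ?_⟩
  · simp [h0]
  · simp [hlast]
  · intro i j hij
    exact Subgroup.comap_mono (hmono hij)
  · intro i; exact (hnorm i).subgroupOf B
  · intro i
    haveI := hnorm i.castSucc
    have hle : K i.castSucc ≤ K i.succ := hmono (Fin.castSucc_lt_succ).le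
    have hdvd : ((K i.castSucc).subgroupOf B).relIndex ((K i.succ).subgroupOf B) ∣
        (K i.castSucc).relIndex (K i.succ) := by
      rw [← Subgroup.inf_subgroupOf_right (K i.castSucc) B,
        ← Subgroup.inf_subgroupOf_right (K i.succ) B,
        Subgroup.relIndex_subgroupOf inf_le_right]
      have h1 : K i.castSucc ⊓ B = K i.castSucc ⊓ (K i.succ ⊓ B) := by
        rw [← inf_assoc, inf_of_le_left hle]
      rw [h1, Subgroup.inf_relIndex_right]
      exact Cfsg.Agent.Helper11.relIndex_dvd_relIndex_of_le_right inf_le_left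
    exact Cfsg.Agent.Helper11.ppow_or_coprime_of_dvd hp.out hdvd (hstep i)

/-- If `O_p(Γ)` is self-centralizing, a subgroup containing it has trivial `p'`-core. -/
theorem pPrimeCore_subgroup_eq_bot {p : ℕ} [Fact p.Prime] {Γ : Type u} [Group Γ] [Finite Γ]
    (hC : Subgroup.centralizer (Cfsg.pCore p Γ : Set Γ) ≤ Cfsg.pCore p Γ)
    (H : Subgroup Γ) (hRH : Cfsg.pCore p Γ ≤ H) : Cfsg.pPrimeCore p ↥H = ⊥ := by
  set K : Subgroup ↥H := Cfsg.pPrimeCore p ↥H with hK
  set R : Subgroup Γ := Cfsg.pCore p Γ with hR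
  haveI hKn : K.Normal :=
    @Subgroup.normal_of_characteristic _ _ _ (Cfsg.Agent.Lib.pPrimeCore_characteristic p)
  haveI hRn : R.Normal :=
    @Subgroup.normal_of_characteristic _ _ _ (Cfsg.Agent.Lib.pCore_characteristic p)
  haveI hR'n : (R.subgroupOf H).Normal := hRn.subgroupOf H
  have hKc : (Nat.card K).Coprime p := Cfsg.Agent.Lib.card_pPrimeCore_coprime p
  have hRp : IsPGroup p (R.subgroupOf H) := by
    have : IsPGroup p R := Cfsg.Agent.Lib.isPGroup_pCore p
    exact this.comap_subtype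
  obtain ⟨m, hm⟩ := IsPGroup.iff_card.mp hRp
  have hdisj : K ⊓ R.subgroupOf H = ⊥ := by
    apply (Subgroup.disjoint_of_coprime_natCard ?_).eq_bot
    rw [hm]
    exact Nat.Coprime.pow_right m hKc
  have hdisj' : Disjoint K (R.subgroupOf H) := disjoint_iff.mpr hdisj
  rw [eq_bot_iff]
  intro k hk
  have hkR : (k : Γ) ∈ R := by
    apply hC
    rw [Subgroup.mem_centralizer_iff]
    intro r hr
    have hr' : (⟨r, hRH hr⟩ : ↥H) ∈ R.subgroupOf H := by
      rw [Subgroup.mem_subgroupOf]; exact hr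
    have hcomm := Subgroup.commute_of_normal_of_disjoint K (R.subgroupOf H) hKn hR'n hdisj' k
      ⟨r, hRH hr⟩ hk hr'
    have := congrArg Subtype.val hcomm.eq
    simpa using this.symm
  have hk2 : k ∈ K ⊓ R.subgroupOf H := by
    refine Subgroup.mem_inf.mpr ⟨hk, ?_⟩
    rw [Subgroup.mem_subgroupOf]; exact hkR
  rw [hdisj] at hk2
  exact hk2

/-- (B5) the induction hypothesis, applied to a proper subgroup containing `S`. -/
theorem conj_mem_of_ih {p : ℕ} [Fact p.Prime] {P₀ : Type v} [Group P₀]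
    {Γ : Type u} [Group Γ] [Finite Γ] (hΓ : Cfsg.IsPSolvable p Γ)
    (hC : Subgroup.centralizer (Cfsg.pCore p Γ : Set Γ) ≤ Cfsg.pCore p Γ)
    (S : Sylow p Γ) (e : ↥(S : Subgroup Γ) ≃* P₀)
    (IH : ∀ (Δ : Type u) [Group Δ] [Finite Δ], Nat.card Δ < Nat.card Γ → Cfsg.IsPSolvable p Δ →
      Cfsg.pPrimeCore p Δ = ⊥ → ∀ T : Sylow p Δ, Nonempty (↥(T : Subgroup Δ) ≃* P₀) →
        (T : Subgroup Δ) ≤ Cfsg.pCore p Δ)
    (H : Subgroup Γ) (hSH : (S : Subgroup Γ) ≤ H) (hH : H ≠ ⊤) :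
    ∀ h ∈ H, ∀ s ∈ (S : Subgroup Γ), h * s * h⁻¹ ∈ (S : Subgroup Γ) := by
  have hlt : Nat.card ↥H < Nat.card Γ := by
    by_contra hcon
    push Not at hcon
    exact hH (Subgroup.eq_top_of_card_eq H (le_antisymm (Subgroup.card_le_card_group H) hcon))
  have hsol : Cfsg.IsPSolvable p ↥H := isPSolvable_subgroup_b5 H hΓ
  have hRH : Cfsg.pCore p Γ ≤ H := (Cfsg.Agent.Lib.pCore_le_sylow S).trans hSH
  have hO := pPrimeCore_subgroup_eq_bot hC H hRH
  have hle := IH ↥H hlt hsol hO (S.subtype hSH)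
    ⟨(Subgroup.subgroupOfEquivOfLe hSH).trans e⟩
  intro h hh s hs
  have hs' : (⟨s, hSH hs⟩ : ↥H) ∈ ((S.subtype hSH : Sylow p ↥H) : Subgroup ↥H) := by
    rw [Sylow.coe_subtype, Subgroup.mem_subgroupOf]; exact hs
  have h1 := hle hs'
  have hn : (Cfsg.pCore p ↥H).Normal :=
    @Subgroup.normal_of_characteristic _ _ _ (Cfsg.Agent.Lib.pCore_characteristic p)
  have h2 := hn.conj_mem _ h1 ⟨h, hh⟩
  have h3 := Cfsg.Agent.Lib.pCore_le_sylow (S.subtype hSH) h2
  rw [Sylow.coe_subtype, Subgroup.mem_subgroupOf] at h3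
  simpa using h3

end Cfsg.Agent.Helper35.Sch
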