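import Cfsg.Agent.Helper35.Splitting

/-!
# The averaging argument for splitting automorphisms (helper35)

If `φ` is a splitting automorphism of prime length `p` of a finite group `G`, `N` an invariant normal abelian
subgroup and `Z` an invariant subgroup of order prime to `|N|`, then `Z` centralizes `N`.
-/

set_option autoImplicit false
set_option linter.unusedSectionVars false

namespace Cfsg.Agent.Helper35.Kegel

open Cfsg.Agent.Helper1 Finset

universe u

theorem spl_average {Z U : Type*} [Group Z] [Fintype Z] [CommGroup U] (act : Z →* MulAut U)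
    (r : ℕ) (f : ℕ → Z → Z) (g : ℕ → U → U)
    (hf0 : ∀ z, f 0 z = 1) (hg0 : ∀ u, g 0 u = u)
    (hfb : ∀ k, 0 < k → k < r → Function.Bijective (f k))
    (h1 : ∀ z u, ∏ k ∈ Finset.range r, act (f k z) (g k u) = 1)
    (hr : 0 < r) (v : U) (z' : Z) : act z' (v ^ Fintype.card Z) = v ^ Fintype.card Z := by
  classical
  set T : U → U := fun x => ∏ z : Z, act z x with hT
  have hTfix : ∀ x, act z' (T x) = T x := by
    intro x
    rw [hT]
    simp only
    rw [map_prod]
    have : ∀ z : Z, act z' (act z x) = act (z' * z) x := by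
      intro z
      rw [map_mul, MulAut.mul_apply]
    simp_rw [this]
    exact Fintype.prod_equiv (Equiv.mulLeft z') _ _ (fun z => rfl)
  have h2 : ∏ k ∈ Finset.range r, ∏ z : Z, act (f k z) (g k v) = 1 := by
    rw [Finset.prod_comm]
    exact Finset.prod_eq_one fun z _ => h1 z v
  have h3 : ∀ k, 0 < k → k < r → ∏ z : Z, act (f k z) (g k v) = T (g k v) := by
    intro k hk0 hkr
    exact Fintype.prod_bijective _ (hfb k hk0 hkr) _ _ (fun z => rfl)
  obtain ⟨n, rfl⟩ : ∃ n, r = n + 1 := ⟨r - 1, by omega⟩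
  rw [Finset.prod_range_succ'] at h2
  have h4 : ∏ z : Z, act (f 0 z) (g 0 v) = v ^ Fintype.card Z := by
    simp only [hf0, hg0, map_one, MulAut.one_apply, Finset.prod_const, Finset.card_univ]
  rw [h4] at h2
  have h5 : ∏ k ∈ Finset.range n, ∏ z : Z, act (f (k + 1) z) (g (k + 1) v) =
      ∏ k ∈ Finset.range n, T (g (k + 1) v) := by
    apply Finset.prod_congr rfl
    intro k hk
    exact h3 (k + 1) (Nat.succ_pos k) (Nat.succ_lt_succ (Finset.mem_range.mp hk))
  rw [h5] at h2
  have h6 : v ^ Fintype.card Z = (∏ k ∈ Finset.range n, T (g (k + 1) v))⁻¹ :=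
    eq_inv_of_mul_eq_one_right h2
  rw [h6, map_inv, map_prod]
  congr 1
  exact Finset.prod_congr rfl fun k _ => hTfix _

variable {G : Type u} [Group G]

/-- an invariant subgroup of order prime to that of an invariant normal abelian subgroup `N` centralizes `N` -/
theorem Spl.centralizes [Finite G] {p : ℕ} (hp : p.Prime) {φ : G ≃* G} (hφ : Spl p φ)
    (N : Subgroup G) [hNn : N.Normal] (hNc : ∀ a ∈ N, ∀ b ∈ N, a * b = b * a) (hN : Inv φ N)
    (Z : Subgroup G) (hZ : Inv φ Z) (hcop : (Nat.card N).Coprime (Nat.card Z)) :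
    ∀ z ∈ Z, ∀ v ∈ N, z * v * z⁻¹ = v := by
  classical
  let _ : CommGroup ↥N :=
    { (inferInstance : Group ↥N) with mul_comm := fun a b => Subtype.ext (hNc a a.2 b b.2) }
  have : Fintype ↥Z := Fintype.ofFinite _
  intro z hz v hv
  set act : ↥Z →* MulAut ↥N := (MulAut.conjNormal (H := N)).comp Z.subtype with hact
  set f : ℕ → ↥Z → ↥Z := fun k y => ⟨nrm φ k (y : G), Inv.nrm_mem hZ k y.2⟩ with hf
  set g : ℕ → ↥N → ↥N := fun k u => ⟨(⇑φ)^[k] (u : G), Inv.iterate_mem hN k u.2⟩ with hg
  have hfb : ∀ k, 0 < k → k < p → Function.Bijective (f k) := by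
    intro k hk0 hkp
    apply Finite.injective_iff_bijective.mp
    intro a b hab
    have h1 : nrm φ k (a : G) = nrm φ k (b : G) := congrArg Subtype.val hab
    exact Subtype.ext (hφ.nrm_injective hp hk0 hkp h1)
  have hcoe : ∀ (y : ↥Z) (u : ↥N) (m : ℕ),
      ((∏ k ∈ Finset.range m, act (f k y) (g k u) : ↥N) : G) = nrm (Kegel.twist (y : G) φ) m (u : G) := by
    intro y u m
    induction m with
    | zero => simp
    | succ n ih =>
      rw [Finset.prod_range_succ, Subgroup.coe_mul, ih, nrm_succ, twist_iterate]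
      rfl
  have h1 : ∀ (y : ↥Z) (u : ↥N), ∏ k ∈ Finset.range p, act (f k y) (g k u) = 1 := by
    intro y u
    apply Subtype.ext
    rw [hcoe, hφ.twist]
    rfl
  have key : ∀ u : ↥N, act ⟨z, hz⟩ (u ^ Fintype.card ↥Z) = u ^ Fintype.card ↥Z := fun u =>
    spl_average act p f g (fun _ => rfl) (fun _ => rfl) hfb h1 hp.pos u ⟨z, hz⟩
  have hcop' : (Nat.card ↥N).Coprime (Fintype.card ↥Z) := by
    rw [← Nat.card_eq_fintype_card]; exact hcop
  obtain ⟨u, hu⟩ := (powCoprime hcop').surjective ⟨v, hv⟩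
  have hu' : u ^ Fintype.card ↥Z = ⟨v, hv⟩ := hu
  have h2 := key u
  rw [hu'] at h2
  have := congrArg Subtype.val h2
  simpa [hact, MulAut.conjNormal_apply] using this

end Cfsg.Agent.Helper35.Kegel
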