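import Cfsg.Agent.Helper1.FpfBasic

/-!
# Splitting automorphisms (helper35)

`φ : G ≃* G` is *splitting of length `p`* when `x * φ x * ⋯ * φ^[p-1] x = 1` for every `x`.
We develop the partial norms `nrm φ k x = x * φ x * ⋯ * φ^[k-1] x`, the twist `v ↦ g * φ v * g⁻¹`
(again splitting), injectivity of `nrm φ k` for `0 < k < p`, and the averaging argument: an invariant
subgroup of order prime to an invariant normal abelian subgroup `N` centralizes `N`.
-/

set_option autoImplicit false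
set_option linter.unusedSectionVars false

namespace Cfsg.Agent.Helper35.Kegel

open Cfsg.Agent.Helper1

universe u

variable {G : Type u} [Group G]

/-- the partial norm `x * φ x * ⋯ * φ^[k-1] x` -/
def nrm (φ : G ≃* G) : ℕ → G → G
  | 0, _ => 1
  | k + 1, x => nrm φ k x * (⇑φ)^[k] x

@[simp]
theorem nrm_zero (φ : G ≃* G) (x : G) : nrm φ 0 x = 1 := rfl

theorem nrm_succ (φ : G ≃* G) (k : ℕ) (x : G) : nrm φ (k + 1) x = nrm φ k x * (⇑φ)^[k] x := rfl

theorem nrm_succ' (φ : G ≃* G) (k : ℕ) (x : G) : nrm φ (k + 1) x = x * φ (nrm φ k x) := by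
  induction k with
  | zero => simp [nrm_succ]
  | succ n ih =>
    have e : (⇑φ)^[n + 1] x = φ ((⇑φ)^[n] x) := Function.iterate_succ_apply' _ _ _
    calc nrm φ (n + 1 + 1) x = nrm φ (n + 1) x * (⇑φ)^[n + 1] x := rfl
      _ = x * φ (nrm φ n x) * φ ((⇑φ)^[n] x) := by rw [ih, e]
      _ = x * φ (nrm φ n x * (⇑φ)^[n] x) := by rw [map_mul, mul_assoc]
      _ = x * φ (nrm φ (n + 1) x) := rfl

theorem nrm_add (φ : G ≃* G) (a b : ℕ) (x : G) :
    nrm φ (a + b) x = nrm φ a x * (⇑φ)^[a] (nrm φ b x) := by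
  induction b with
  | zero => simp [iterate_map_one]
  | succ n ih =>
    rw [← add_assoc, nrm_succ, ih, nrm_succ, iterate_map_mul, ← Function.iterate_add_apply, mul_assoc]

theorem nrm_eq_list (φ : G ≃* G) (k : ℕ) (x : G) :
    nrm φ k x = ((List.range k).map (fun i => (⇑φ)^[i] x)).prod := by
  induction k with
  | zero => rfl
  | succ n ih =>
    rw [List.range_succ, List.map_append, List.prod_append, ← ih, nrm_succ]
    simp

/-- `φ` is splitting of length `p` -/
def Spl (p : ℕ) (φ : G ≃* G) : Prop := ∀ x, nrm φ p x = 1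

theorem Spl.iterate_eq {p : ℕ} {φ : G ≃* G} (h : Spl p φ) : (⇑φ)^[p] = id := by
  funext x
  have h1 := nrm_succ φ p x
  have h2 := nrm_succ' φ p x
  rw [h x] at h1 h2
  rw [map_one, mul_one] at h2
  rw [one_mul] at h1
  rw [← h1, h2]
  rfl

theorem Spl.nrm_mul {p : ℕ} {φ : G ≃* G} (h : Spl p φ) (m : ℕ) (x : G) : nrm φ (p * m) x = 1 := by
  induction m with
  | zero => simp
  | succ n ih => rw [Nat.mul_succ, nrm_add, ih, h x, iterate_map_one, mul_one]

theorem Spl.iterate_mul {p : ℕ} {φ : G ≃* G} (h : Spl p φ) (m : ℕ) : (⇑φ)^[p * m] = id := by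
  rw [Function.iterate_mul, h.iterate_eq, Function.iterate_id]

theorem Spl.nrm_injective {p : ℕ} (hp : p.Prime) {φ : G ≃* G} (h : Spl p φ) {k : ℕ} (hk0 : 0 < k)
    (hkp : k < p) : Function.Injective (nrm φ k) := by
  intro x y hxy
  have key : ∀ j, nrm φ (k * j) x = nrm φ (k * j) y := by
    intro j
    induction j with
    | zero => simp
    | succ n ih => rw [Nat.mul_succ, nrm_add, nrm_add, ih, hxy]
  have hcop : Nat.Coprime k p :=
    ((hp.coprime_iff_not_dvd).mpr (Nat.not_dvd_of_pos_of_lt hk0 hkp)).symm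
  obtain ⟨j, -, hj⟩ := Nat.exists_mul_mod_eq_one_of_coprime hcop hp.one_lt
  have hkj : k * j = p * (k * j / p) + 1 := by
    have := Nat.div_add_mod (k * j) p
    omega
  have hx : ∀ z : G, nrm φ (k * j) z = z := by
    intro z
    rw [hkj, nrm_succ, h.nrm_mul, one_mul, h.iterate_mul]
    rfl
  rw [← hx x, ← hx y, key j]

/-- the twisted automorphism `v ↦ g * φ v * g⁻¹` -/
def twist (g : G) (φ : G ≃* G) : G ≃* G := φ.trans (MulAut.conj g)

@[simp]
theorem twist_apply (g : G) (φ : G ≃* G) (v : G) : twist g φ v = g * φ v * g⁻¹ := rfl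

theorem twist_iterate (g : G) (φ : G ≃* G) (k : ℕ) (v : G) :
    (⇑(twist g φ))^[k] v = nrm φ k g * (⇑φ)^[k] v * (nrm φ k g)⁻¹ := by
  induction k with
  | zero => simp
  | succ n ih =>
    rw [Function.iterate_succ_apply', ih, twist_apply, map_mul, map_mul, map_inv, nrm_succ',
      Function.iterate_succ_apply']
    group

theorem nrm_mul_twist (g : G) (φ : G ≃* G) (k : ℕ) (v : G) :
    nrm φ k (v * g) = nrm (twist g φ) k v * nrm φ k g := by
  induction k with
  | zero => simp
  | succ n ih =>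
    rw [nrm_succ, ih, iterate_map_mul, nrm_succ, twist_iterate, nrm_succ]
    group

theorem Spl.twist {p : ℕ} {φ : G ≃* G} (h : Spl p φ) (g : G) : Spl p (twist g φ) := by
  intro v
  have := nrm_mul_twist g φ p v
  rw [h, h, mul_one] at this
  exact this.symm

/-! ### invariant subgroups -/

theorem Inv.iterate_mem {φ : G ≃* G} {H : Subgroup G} (h : Inv φ H) (k : ℕ) {x : G} (hx : x ∈ H) :
    (⇑φ)^[k] x ∈ H := by
  induction k with
  | zero => exact hx
  | succ n ih =>
    rw [Function.iterate_succ_apply']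
    exact h.mem_iff.mpr ih

theorem Inv.nrm_mem {φ : G ≃* G} {H : Subgroup G} (h : Inv φ H) (k : ℕ) {x : G} (hx : x ∈ H) :
    nrm φ k x ∈ H := by
  induction k with
  | zero => exact H.one_mem
  | succ n ih =>
    rw [nrm_succ]
    exact H.mul_mem ih (Inv.iterate_mem h n hx)

theorem coe_nrm_resEquiv (φ : G ≃* G) (H : Subgroup G) (h : Inv φ H) (k : ℕ) (x : ↥H) :
    ((nrm (resEquiv φ H h) k x : ↥H) : G) = nrm φ k (x : G) := by
  induction k with
  | zero => rfl
  | succ n ih => rw [nrm_succ, Subgroup.coe_mul, ih, coe_resEquiv_iterate, nrm_succ]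

theorem Spl.restrict {p : ℕ} {φ : G ≃* G} (hφ : Spl p φ) (H : Subgroup G) (h : Inv φ H) :
    Spl p (resEquiv φ H h) := by
  intro x
  apply Subtype.ext
  rw [coe_nrm_resEquiv, hφ]
  rfl

theorem nrm_quotEquiv_mk (φ : G ≃* G) (N : Subgroup G) [N.Normal] (h : Inv φ N) (k : ℕ) (x : G) :
    nrm (quotEquiv φ N h) k (x : G ⧸ N) = ((nrm φ k x : G) : G ⧸ N) := by
  induction k with
  | zero => rfl
  | succ n ih => rw [nrm_succ, ih, quotEquiv_iterate_mk, nrm_succ, QuotientGroup.mk_mul]

theorem Spl.quotient {p : ℕ} {φ : G ≃* G} (hφ : Spl p φ) (N : Subgroup G) [N.Normal]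
    (h : Inv φ N) : Spl p (quotEquiv φ N h) := by
  intro x
  induction x using QuotientGroup.induction_on with
  | H x => rw [nrm_quotEquiv_mk, hφ]; rfl

/-! ### conjugation by an element all of whose coset has `p`-th power `1` -/

theorem coe_conjNormal_iterate (N : Subgroup G) [N.Normal] (x : G) (k : ℕ) (v : ↥N) :
    (((⇑(MulAut.conjNormal x : ↥N ≃* ↥N))^[k] v : ↥N) : G) = x ^ k * (v : G) * (x ^ k)⁻¹ := by
  induction k with
  | zero => simp
  | succ n ih =>
    rw [Function.iterate_succ_apply', MulAut.conjNormal_apply, ih, pow_succ']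
    group

theorem coe_nrm_conjNormal (N : Subgroup G) [N.Normal] (x : G) (k : ℕ) (v : ↥N) :
    ((nrm (MulAut.conjNormal x : ↥N ≃* ↥N) k v : ↥N) : G) * x ^ k = ((v : G) * x) ^ k := by
  induction k with
  | zero => simp
  | succ n ih =>
    rw [nrm_succ, Subgroup.coe_mul, coe_conjNormal_iterate, pow_succ ((v : G) * x), ← ih]
    group

theorem spl_conjNormal (N : Subgroup G) [N.Normal] (x : G) (p : ℕ)
    (h : ∀ v ∈ N, (v * x) ^ p = 1) : Spl p (MulAut.conjNormal x : ↥N ≃* ↥N) := by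
  intro v
  apply Subtype.ext
  have h1 := coe_nrm_conjNormal N x p v
  have h2 : x ^ p = 1 := by simpa using h 1 N.one_mem
  rw [h v v.2, h2, mul_one] at h1
  rw [h1]
  rfl

end Cfsg.Agent.Helper35.Kegel
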