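import Mathlib
import Cfsg.Agent.Helper5.SuBN.Defs

/-!
# Piece (ZETA) of S2546 (helper5): an element of norm `-1` in the field with `q²` elements
-/

set_option autoImplicit false

namespace Cfsg.Agent.Helper35.SuBNZETA

open Matrix Cfsg.Agent.Helper5.SuBN

variable {F : Type*} [Field F] {n : ℕ} {σ : F →+* F}

theorem odd_of_two_ne_zero [Fintype F] (q : ℕ) (hF : Fintype.card F = q ^ 2) (h2 : (2 : F) ≠ 0) :
    Odd q := by
  by_contra hne
  rw [Nat.not_odd_iff_even] at hne
  obtain ⟨p, hp⟩ := CharP.exists F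
  obtain ⟨m, hpp, hm⟩ := FiniteField.card F p
  have h2pm : 2 ∣ p ^ (m : ℕ) := by
    rw [← hm, hF]; exact (hne.two_dvd).trans (dvd_pow_self q two_ne_zero)
  have h2p : 2 ∣ p := Nat.Prime.dvd_of_dvd_pow Nat.prime_two h2pm
  have hp2 : 2 = p := (Nat.prime_dvd_prime_iff_eq Nat.prime_two hpp).1 h2p
  subst hp2
  apply h2
  have := CharP.cast_eq_zero F 2
  exact_mod_cast this

theorem exists_zeta [Fintype F] (q : ℕ) (hF : Fintype.card F = q ^ 2) :
    ∃ ζ : F, ζ * ζ ^ q = -1 := by
  classical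
  by_cases h2 : (2 : F) = 0
  · refine ⟨1, ?_⟩
    rw [one_pow, one_mul]
    have h : (1 : F) + 1 = 0 := by rw [one_add_one_eq_two]; exact h2
    exact eq_neg_of_add_eq_zero_left h
  · obtain ⟨k, hk⟩ := odd_of_two_ne_zero q hF h2
    have hq1 : 1 < q ^ 2 := by
      rw [← hF]; exact Fintype.one_lt_card
    have hk0 : k ≠ 0 := by
      rintro rfl
      rw [hk] at hq1
      norm_num at hq1
    have harith : q ^ 2 = 2 * (k * (q + 1)) + 1 := by
      subst hk; ring
    obtain ⟨g, hg⟩ := IsCyclic.exists_generator (α := Fˣ)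
    have hord : orderOf g = q ^ 2 - 1 := by
      rw [orderOf_eq_card_of_forall_mem_zpowers hg, Nat.card_eq_fintype_card, Fintype.card_units,
        hF]
    have hee : g ^ (k * (q + 1)) * g ^ (k * (q + 1)) = 1 := by
      rw [← pow_add, ← two_mul]
      have h : 2 * (k * (q + 1)) = q ^ 2 - 1 := by omega
      rw [h, ← hord, pow_orderOf_eq_one]
    have hne1 : g ^ (k * (q + 1)) ≠ 1 := by
      apply pow_ne_one_of_lt_orderOf
      · exact Nat.mul_ne_zero hk0 (Nat.succ_ne_zero q)
      · rw [hord]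
        have : 0 < k * (q + 1) := Nat.pos_of_ne_zero (Nat.mul_ne_zero hk0 (Nat.succ_ne_zero q))
        omega
    have hval : ((g ^ (k * (q + 1)) : Fˣ) : F) = -1 := by
      have h1 : ((g ^ (k * (q + 1)) : Fˣ) : F) * ((g ^ (k * (q + 1)) : Fˣ) : F) = 1 := by
        rw [← Units.val_mul, hee]; rfl
      rcases mul_self_eq_one_iff.1 h1 with h | h
      · exact absurd (Units.ext h) hne1
      · exact h
    refine ⟨((g ^ k : Fˣ) : F), ?_⟩
    rw [← pow_succ', ← Units.val_pow_eq_pow_val, ← pow_mul, hval]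

end Cfsg.Agent.Helper35.SuBNZETA
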