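import Cfsg.Agent.Helper61.TwoPDefs
import Cfsg.Agent.Helper79.ClassMult

/-!
# Pieces (O) of helper61's S4707 plan: in Case B all involutions are conjugate
(class multiplication constants via characters).
-/

set_option autoImplicit false
set_option linter.unusedSectionVars false
set_option linter.unusedVariables false
set_option linter.style.haveILetI false

namespace Cfsg.Agent.Helper35.TwoP

open Cfsg MulAction Cfsg.Agent.Helper66.PD2 Cfsg.Agent.Helper61.TwoP
open scoped ComplexConjugate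

variable {G : Type*} [Group G] [Fintype G] {α : Type*} [Fintype α] [DecidableEq α] [MulAction G α]
  {p : ℕ} [Fact p.Prime] {P : Sylow p G} {χ1 θ : IrrCharacter G} {Y : Set (IrrCharacter G)}

/-- a nontrivial element of `P` has order `p` -/
theorem orderOf_eq_of_mem (S : Setup G α p P) {y : G} (hy : y ∈ (P : Subgroup G)) (hy1 : y ≠ 1) :
    orderOf y = p := by
  have h1 : orderOf (⟨y, hy⟩ : ↥(P : Subgroup G)) ∣ p := by
    have := orderOf_dvd_natCard (⟨y, hy⟩ : ↥(P : Subgroup G))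
    rw [S.cardP] at this
    exact this
  rw [Subgroup.orderOf_mk] at h1
  rcases (Nat.dvd_prime (Fact.out : p.Prime)).mp h1 with h | h
  · exact absurd (orderOf_eq_one_iff.mp h) hy1
  · exact h

/-- the class multiplication count for two involutions and a nontrivial element of `P` -/
theorem count_eq [DecidableEq G] (S : Setup G α p P) (B : CaseB G α p χ1 θ Y)
    (hinv : ∀ s : G, orderOf s = 2 → (χ1 : G → ℂ) s = 0 ∧ ∀ η ∈ Y, (η : G → ℂ) s = -1)
    (s1 s2 : G) (h1 : orderOf s1 = 2) (h2 : orderOf s2 = 2) (y : G) (hy : y ∈ (P : Subgroup G))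
    (hy1 : y ≠ 1) :
    ((Finset.univ.filter
        (fun ab : G × G => ab.1 * s1 * ab.1⁻¹ * (ab.2 * s2 * ab.2⁻¹) = y)).card : ℂ) * ((p : ℂ) - 2) =
      (Nat.card G : ℂ) * ((p : ℂ) - 1) := by
  haveI : Finite (IrrCharacter G) := Helper79.irr_finite'
  haveI : Fintype (IrrCharacter G) := Fintype.ofFinite _
  have hp5 : (5 : ℝ) ≤ (p : ℝ) := by exact_mod_cast S.hp5
  have hp2 : (p : ℂ) - 2 ≠ 0 := by
    intro h
    have h' : (p : ℂ) = 2 := by linear_combination h
    have : (p : ℕ) = 2 := by exact_mod_cast h'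
    have := S.hp5; omega
  have hyp : p ∣ orderOf y := by rw [orderOf_eq_of_mem S hy hy1]
  rw [Helper79.card_conj_mul_conj_eq s1 s2 y]
  have hYfin : Y.Finite := Set.toFinite Y
  -- pointwise description of the summands
  have hterm : ∀ χ : IrrCharacter G,
      (χ : G → ℂ) s1 * (χ : G → ℂ) s2 * conj ((χ : G → ℂ) y) / (χ : G → ℂ) 1 =
        (if χ = Helper79.principalIrr G then (1 : ℂ) else 0) +
          (if χ ∈ hYfin.toFinset then conj ((χ : G → ℂ) y) / ((p : ℂ) - 2) else 0) := by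
    intro χ
    by_cases hχ1 : χ = Helper79.principalIrr G
    · have hnY : χ ∉ hYfin.toFinset := by
        rw [Set.Finite.mem_toFinset, hχ1]; exact B.std.one_nmem
      rw [if_pos hχ1, if_neg hnY, hχ1]
      show (1 : ℂ) * 1 * conj (1 : ℂ) / 1 = 1 + 0
      simp
    · rw [if_neg hχ1, zero_add]
      by_cases hχY : χ ∈ Y
      · have hY' : χ ∈ hYfin.toFinset := by rw [Set.Finite.mem_toFinset]; exact hχY
        rw [if_pos hY', (hinv s1 h1).2 χ hχY, (hinv s2 h2).2 χ hχY, B.deg_Y χ hχY]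
        ring
      · have hnY : χ ∉ hYfin.toFinset := by rw [Set.Finite.mem_toFinset]; exact hχY
        rw [if_neg hnY]
        by_cases hχc : χ = χ1
        · rw [hχc, (hinv s1 h1).1]; simp
        · rw [B.std.other_sing χ hχ1 hχc hχY y hyp]; simp
  rw [Finset.sum_congr rfl (fun χ _ => hterm χ), Finset.sum_add_distrib, Finset.sum_ite_eq',
    if_pos (Finset.mem_univ _), ← Finset.sum_filter]
  have hfil : (Finset.univ.filter (fun χ : IrrCharacter G => χ ∈ hYfin.toFinset)) = hYfin.toFinset := by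
    ext χ; simp
  rw [hfil, ← Finset.sum_div, ← map_sum, ← finsum_mem_eq_finite_toFinset_sum _ hYfin,
    B.std.sum_sing y hyp]
  have : conj (-(((-1 : ℤ)) : ℂ)) = 1 := by simp
  rw [this]
  field_simp
  ring

/-- (O) all involutions are conjugate. -/
theorem invol_isConj (S : Setup G α p P) (B : CaseB G α p χ1 θ Y)
    (hinv : ∀ s : G, orderOf s = 2 → (χ1 : G → ℂ) s = 0 ∧ ∀ η ∈ Y, (η : G → ℂ) s = -1)
    (s1 s2 : G) (h1 : orderOf s1 = 2) (h2 : orderOf s2 = 2) : IsConj s1 s2 := by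
  classical
  -- a nontrivial element of `P`
  have hP1 : (P : Subgroup G) ≠ ⊥ := by
    intro h
    have := S.cardP
    rw [h, Subgroup.card_bot] at this
    have := S.hp5; omega
  obtain ⟨y, hy, hy1⟩ := (Subgroup.ne_bot_iff_exists_ne_one.mp hP1 |>.elim fun y hy => ⟨y.1, y.2,
    fun h => hy (Subtype.ext h)⟩ : ∃ y : G, y ∈ (P : Subgroup G) ∧ y ≠ 1)
  have hcount := count_eq S B hinv s1 s2 h1 h2 y hy hy1
  have hne : (Finset.univ.filter
      (fun ab : G × G => ab.1 * s1 * ab.1⁻¹ * (ab.2 * s2 * ab.2⁻¹) = y)).Nonempty := by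
    rw [Finset.nonempty_iff_ne_empty]
    intro h
    rw [h, Finset.card_empty, Nat.cast_zero, zero_mul] at hcount
    have hG : (Nat.card G : ℂ) ≠ 0 := by
      have : Nat.card G ≠ 0 := Nat.card_pos.ne'
      exact_mod_cast this
    have hp1 : (p : ℂ) - 1 ≠ 0 := by
      intro h
      have h' : (p : ℂ) = 1 := by linear_combination h
      have : (p : ℕ) = 1 := by exact_mod_cast h'
      have := S.hp5; omega
    exact mul_ne_zero hG hp1 hcount.symm
  obtain ⟨⟨a, b⟩, hab⟩ := hne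
  rw [Finset.mem_filter] at hab
  have huv : a * s1 * a⁻¹ * (b * s2 * b⁻¹) = y := hab.2
  obtain ⟨u, hu⟩ : ∃ u, u = a * s1 * a⁻¹ := ⟨_, rfl⟩
  obtain ⟨v, hv⟩ : ∃ v, v = b * s2 * b⁻¹ := ⟨_, rfl⟩
  rw [← hu, ← hv] at huv
  have hs1 : s1 * s1 = 1 := by rw [← pow_two, ← h1, pow_orderOf_eq_one]
  have hs2 : s2 * s2 = 1 := by rw [← pow_two, ← h2, pow_orderOf_eq_one]
  have huu : u * u = 1 := by
    rw [hu]; calc a * s1 * a⁻¹ * (a * s1 * a⁻¹) = a * (s1 * s1) * a⁻¹ := by group
      _ = 1 := by rw [hs1]; group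
  have hvv : v * v = 1 := by
    rw [hv]; calc b * s2 * b⁻¹ * (b * s2 * b⁻¹) = b * (s2 * s2) * b⁻¹ := by group
      _ = 1 := by rw [hs2]; group
  have hyp : y ^ p = 1 := by rw [← orderOf_eq_of_mem S hy hy1, pow_orderOf_eq_one]
  -- `u` inverts `y`
  have huinv : u⁻¹ = u := inv_eq_of_mul_eq_one_right huu
  have hvinv : v⁻¹ = v := inv_eq_of_mul_eq_one_right hvv
  have hinvy : u * y * u⁻¹ = y⁻¹ := by
    rw [← huv, mul_inv_rev, hvinv, huinv]
    calc u * (u * v) * u = (u * u) * v * u := by group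
      _ = v * u := by rw [huu, one_mul]
  have hconjpow : ∀ n : ℕ, u * y ^ n * u⁻¹ = (y ^ n)⁻¹ := by
    intro n
    have : u * y ^ n * u⁻¹ = (u * y * u⁻¹) ^ n := by rw [conj_pow]
    rw [this, hinvy, inv_pow]
  -- `v = y ^ j * u * (y ^ j)⁻¹` with `2 j + 1 = p`
  obtain ⟨j, hj⟩ : ∃ j, p = 2 * j + 1 := by
    have hodd : Odd p := (Fact.out : p.Prime).odd_of_ne_two (by have := S.hp5; omega)
    obtain ⟨j, hj⟩ := hodd; exact ⟨j, hj⟩
  have hvu : v = y ^ j * u * (y ^ j)⁻¹ := by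
    have hv' : v = u * y := by rw [← huv, ← mul_assoc, huu, one_mul]
    have h3 : u * (y ^ j)⁻¹ = y ^ j * u := by
      have := hconjpow j
      calc u * (y ^ j)⁻¹ = u * (u * y ^ j * u⁻¹) := by rw [this]
        _ = (u * u) * y ^ j * u⁻¹ := by group
        _ = y ^ j * u := by rw [huu, one_mul, huinv]
    have h4 : y ^ j * y ^ j * y = 1 := by
      rw [← pow_add, ← pow_succ, ← two_mul, ← hj, hyp]
    calc v = u * y := hv'
      _ = u * ((y ^ j * y ^ j)⁻¹ * (y ^ j * y ^ j * y)) := by group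
      _ = u * (y ^ j * y ^ j)⁻¹ := by rw [h4, mul_one]
      _ = (u * (y ^ j)⁻¹) * (y ^ j)⁻¹ := by group
      _ = y ^ j * u * (y ^ j)⁻¹ := by rw [h3]
  have c1 : IsConj s1 u := isConj_iff.mpr ⟨a, hu.symm⟩
  have c2 : IsConj u v := isConj_iff.mpr ⟨y ^ j, hvu.symm⟩
  have c3 : IsConj s2 v := isConj_iff.mpr ⟨b, hv.symm⟩
  exact (c1.trans c2).trans c3.symm

end Cfsg.Agent.Helper35.TwoP
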