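import Cfsg.Agent.Helper35.TwoPO

/-!
# Piece (Q) of helper61's S4707 plan: the class equation `|C(t)|² p (p - 2) = |G| (p - 1)`.
-/

set_option autoImplicit false
set_option linter.unusedSectionVars false
set_option linter.unusedVariables false
set_option linter.style.haveILetI false

namespace Cfsg.Agent.Helper35.TwoP

open Cfsg MulAction Cfsg.Agent.Helper66.PD2 Cfsg.Agent.Helper61.TwoP
open scoped ComplexConjugate

variable {G : Type*} [Group G] [Fintype G] {α : Type*} [Fintype α] [DecidableEq α] [MulAction G α]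
  {p : ℕ} [Fact p.Prime] {P : Sylow p G} {χ1 θ : IrrCharacter G} {Y : Set (IrrCharacter G)}

/-- the number of elements conjugating `x` to a given conjugate -/
theorem card_conj_eq [DecidableEq G] (x w : G) (h : IsConj x w) :
    (Finset.univ.filter (fun b : G => b * x * b⁻¹ = w)).card =
      Nat.card (Subgroup.centralizer ({x} : Set G)) := by
  classical
  obtain ⟨b₀, hb₀⟩ := isConj_iff.mp h
  have e : Nat.card (Subgroup.centralizer ({x} : Set G)) =
      (Finset.univ.filter (fun c : G => c ∈ Subgroup.centralizer ({x} : Set G))).card :=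
    Nat.subtype_card _ (by simp)
  rw [e]
  refine Finset.card_bij (fun b _ => b₀⁻¹ * b) ?_ ?_ ?_
  · intro b hb
    rw [Finset.mem_filter] at hb ⊢
    refine ⟨Finset.mem_univ _, ?_⟩
    rw [Subgroup.mem_centralizer_singleton_iff]
    have h1 : b * x = w * b := by rw [← hb.2]; group
    have h2 : x = b₀⁻¹ * w * b₀ := by rw [← hb₀]; group
    calc b₀⁻¹ * b * x = b₀⁻¹ * (b * x) := by group
      _ = b₀⁻¹ * (w * b) := by rw [h1]
      _ = (b₀⁻¹ * w * b₀) * (b₀⁻¹ * b) := by group
      _ = x * (b₀⁻¹ * b) := by rw [← h2]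
  · intro b _ b' _ hbb
    exact mul_left_cancel hbb
  · intro c hc
    rw [Finset.mem_filter] at hc
    refine ⟨b₀ * c, ?_, by group⟩
    rw [Finset.mem_filter]
    refine ⟨Finset.mem_univ _, ?_⟩
    have hc' := Subgroup.mem_centralizer_singleton_iff.mp hc.2
    calc b₀ * c * x * (b₀ * c)⁻¹ = b₀ * (c * x) * c⁻¹ * b₀⁻¹ := by group
      _ = b₀ * (x * c) * c⁻¹ * b₀⁻¹ := by rw [hc']
      _ = b₀ * x * b₀⁻¹ := by group
      _ = w := hb₀

/-- `P` is generated by any of its nontrivial elements -/
theorem zpowers_eq_of_mem (S : Setup G α p P) {z : G} (hz : z ∈ (P : Subgroup G)) (hz1 : z ≠ 1) :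
    Subgroup.zpowers z = (P : Subgroup G) := by
  apply Subgroup.eq_of_le_of_card_ge (Subgroup.zpowers_le.mpr hz)
  rw [Nat.card_zpowers, orderOf_eq_of_mem S hz hz1, S.cardP]

/-- the elements of `N(P) ∖ P` are involutions -/
theorem orderOf_eq_two_of_mem_normalizer (S : Setup G α p P) {w : G}
    (hw : w ∈ Subgroup.normalizer ((P : Subgroup G) : Set G)) (hwP : w ∉ (P : Subgroup G)) :
    orderOf w = 2 := by
  have hle : (P : Subgroup G) ≤ Subgroup.normalizer ((P : Subgroup G) : Set G) :=
    Subgroup.le_normalizer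
  have hidx : ((P : Subgroup G).subgroupOf (Subgroup.normalizer ((P : Subgroup G) : Set G))).index
      = 2 := by
    have h := Subgroup.relIndex_mul_relIndex ⊥ (P : Subgroup G)
      (Subgroup.normalizer ((P : Subgroup G) : Set G)) bot_le hle
    rw [Subgroup.relIndex_bot_left, Subgroup.relIndex_bot_left, S.cardP, S.cardN] at h
    have hp : 0 < p := (Fact.out : p.Prime).pos
    have : (P : Subgroup G).relIndex (Subgroup.normalizer ((P : Subgroup G) : Set G)) = 2 := by
      have h' : p * (P : Subgroup G).relIndex (Subgroup.normalizer ((P : Subgroup G) : Set G))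
          = p * 2 := by rw [h]; ring
      exact Nat.eq_of_mul_eq_mul_left hp h'
    exact this
  have hsq : w * w ∈ (P : Subgroup G) := by
    have := Subgroup.mul_self_mem_of_index_two hidx
      (⟨w, hw⟩ : ↥(Subgroup.normalizer ((P : Subgroup G) : Set G)))
    rw [Subgroup.mem_subgroupOf] at this
    exact this
  have hww : w * w = 1 := by
    by_contra hne
    have hgen := zpowers_eq_of_mem S hsq hne
    apply hwP
    rw [← S.cent, Subgroup.mem_centralizer_iff]
    intro h hh
    rw [SetLike.mem_coe, ← hgen] at hh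
    obtain ⟨k, rfl⟩ := Subgroup.mem_zpowers_iff.mp hh
    have hc : Commute (w * w) w := by
      show w * w * w = w * (w * w)
      group
    exact (hc.zpow_left k).eq
  have hw1 : w ≠ 1 := by
    intro h; rw [h] at hwP; exact hwP (Subgroup.one_mem _)
  exact orderOf_eq_prime (by rw [pow_two]; exact hww) hw1

/-- an involution `u` with `u⁻¹ y` an involution lies in `N(P) ∖ P`, and conversely -/
theorem orderOf_inv_mul_eq_two_iff (S : Setup G α p P) {y : G} (hy : y ∈ (P : Subgroup G))
    (hy1 : y ≠ 1) {u : G} (hu : orderOf u = 2) :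
    orderOf (u⁻¹ * y) = 2 ↔
      u ∈ Subgroup.normalizer ((P : Subgroup G) : Set G) ∧ u ∉ (P : Subgroup G) := by
  have huu : u * u = 1 := by rw [← pow_two, ← hu, pow_orderOf_eq_one]
  have huinv : u⁻¹ = u := inv_eq_of_mul_eq_one_right huu
  have hnP : u ∉ (P : Subgroup G) := by
    intro huP
    have h1 : u ≠ 1 := by
      intro h; rw [h, orderOf_one] at hu; omega
    have := orderOf_eq_of_mem S huP h1
    rw [hu] at this
    have := S.hp5; omega
  constructor
  · intro h
    refine ⟨?_, hnP⟩
    have hsq : u⁻¹ * y * (u⁻¹ * y) = 1 := by rw [← pow_two, ← h, pow_orderOf_eq_one]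
    rw [huinv] at hsq
    have hinvy : u * y * u⁻¹ = y⁻¹ := by
      rw [huinv]
      calc u * y * u = (u * y * (u * y)) * y⁻¹ := by group
        _ = y⁻¹ := by rw [hsq, one_mul]
    have hfwd : ∀ h' ∈ (P : Subgroup G), u * h' * u⁻¹ ∈ (P : Subgroup G) := by
      intro h' hh'
      rw [← zpowers_eq_of_mem S hy hy1] at hh' ⊢
      obtain ⟨k, rfl⟩ := Subgroup.mem_zpowers_iff.mp hh'
      have : u * y ^ k * u⁻¹ = (y ^ k)⁻¹ := by
        have : u * y ^ k * u⁻¹ = (u * y * u⁻¹) ^ k := by rw [conj_zpow]
        rw [this, hinvy, inv_zpow]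
      rw [this]
      exact Subgroup.inv_mem _ (Subgroup.zpow_mem_zpowers y k)
    rw [Subgroup.mem_normalizer_iff]
    intro h'
    constructor
    · exact hfwd h'
    · intro hh'
      have := hfwd _ hh'
      have e : u * (u * h' * u⁻¹) * u⁻¹ = h' := by
        rw [huinv]
        calc u * (u * h' * u) * u = (u * u) * h' * (u * u) := by group
          _ = h' := by rw [huu, one_mul, mul_one]
      rwa [e] at this
  · rintro ⟨hN, _⟩
    apply orderOf_eq_two_of_mem_normalizer S
    · exact Subgroup.mul_mem _ (Subgroup.inv_mem _ hN) (Subgroup.le_normalizer hy)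
    · intro hmem
      apply hnP
      have : u⁻¹ ∈ (P : Subgroup G) := by
        have := Subgroup.mul_mem _ hmem (Subgroup.inv_mem _ hy)
        rwa [mul_assoc, mul_inv_cancel, mul_one] at this
      rw [← inv_inv u]; exact Subgroup.inv_mem _ this

/-- (Q) the class equation `|C(t)|² p (p - 2) = |G| (p - 1)`. -/
theorem card_centralizer_sq (S : Setup G α p P) (B : CaseB G α p χ1 θ Y)
    (hinv : ∀ s : G, orderOf s = 2 → (χ1 : G → ℂ) s = 0 ∧ ∀ η ∈ Y, (η : G → ℂ) s = -1)
    (hconj : ∀ s1 s2 : G, orderOf s1 = 2 → orderOf s2 = 2 → IsConj s1 s2)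
    (t : G) (ht : orderOf t = 2) :
    Nat.card (Subgroup.centralizer ({t} : Set G)) ^ 2 * p * (p - 2) = Nat.card G * (p - 1) := by
  classical
  have hP1 : (P : Subgroup G) ≠ ⊥ := by
    intro h
    have := S.cardP
    rw [h, Subgroup.card_bot] at this
    have := S.hp5; omega
  obtain ⟨y, hy, hy1⟩ := (Subgroup.ne_bot_iff_exists_ne_one.mp hP1 |>.elim fun y hy => ⟨y.1, y.2,
    fun h => hy (Subtype.ext h)⟩ : ∃ y : G, y ∈ (P : Subgroup G) ∧ y ≠ 1)
  have hcount := count_eq S B hinv t t ht ht y hy hy1
  set C := Nat.card (Subgroup.centralizer ({t} : Set G)) with hC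
  -- conjugates of `t` are exactly the involutions
  have hconj_iff : ∀ w : G, IsConj t w ↔ orderOf w = 2 := by
    intro w
    constructor
    · intro h
      obtain ⟨c, hc⟩ := isConj_iff.mp h
      rw [← hc]
      have : c * t * c⁻¹ = MulAut.conj c t := by simp
      rw [this, MulEquiv.orderOf_eq, ht]
    · intro h; exact hconj t w ht h
  have hconj_ord : ∀ a : G, orderOf (a * t * a⁻¹) = 2 :=
    fun a => (hconj_iff _).mp (isConj_iff.mpr ⟨a, rfl⟩)
  -- the set `N(P) ∖ P`
  let N := Subgroup.normalizer ((P : Subgroup G) : Set G)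
  let D : Finset G := (Finset.univ.filter (fun u : G => u ∈ N)) \
    (Finset.univ.filter (fun u : G => u ∈ (P : Subgroup G)))
  have hDmem : ∀ u : G, u ∈ D ↔ u ∈ N ∧ u ∉ (P : Subgroup G) := by
    intro u; simp [D]
  have hDcard : D.card = p := by
    have h1 : (Finset.univ.filter (fun u : G => u ∈ (P : Subgroup G))) ⊆
        (Finset.univ.filter (fun u : G => u ∈ N)) := by
      intro u hu
      rw [Finset.mem_filter] at hu ⊢
      exact ⟨hu.1, Subgroup.le_normalizer hu.2⟩
    have e1 : (Finset.univ.filter (fun u : G => u ∈ N)).card = 2 * p := by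
      have h := Nat.subtype_card (p := fun u : G => u ∈ N)
        (Finset.univ.filter (fun u : G => u ∈ N)) (by simp)
      rw [← h]; exact S.cardN
    have e2 : (Finset.univ.filter (fun u : G => u ∈ (P : Subgroup G))).card = p := by
      have h := Nat.subtype_card (p := fun u : G => u ∈ (P : Subgroup G))
        (Finset.univ.filter (fun u : G => u ∈ (P : Subgroup G))) (by simp)
      rw [← h]; exact S.cardP
    show ((Finset.univ.filter (fun u : G => u ∈ N)) \
      (Finset.univ.filter (fun u : G => u ∈ (P : Subgroup G)))).card = p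
    rw [Finset.card_sdiff_of_subset h1, e1, e2]; omega
  -- the count
  have hN : (Finset.univ.filter
      (fun ab : G × G => ab.1 * t * ab.1⁻¹ * (ab.2 * t * ab.2⁻¹) = y)).card = C ^ 2 * p := by
    have step1 : (Finset.univ.filter
        (fun ab : G × G => ab.1 * t * ab.1⁻¹ * (ab.2 * t * ab.2⁻¹) = y)).card =
        ∑ a : G, (Finset.univ.filter (fun b : G => b * t * b⁻¹ = (a * t * a⁻¹)⁻¹ * y)).card := by
      rw [Finset.card_filter, Fintype.sum_prod_type]
      refine Finset.sum_congr rfl fun a _ => ?_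
      rw [Finset.card_filter]
      refine Finset.sum_congr rfl fun b _ => ?_
      have : (a * t * a⁻¹ * (b * t * b⁻¹) = y) ↔ (b * t * b⁻¹ = (a * t * a⁻¹)⁻¹ * y) := by
        rw [eq_inv_mul_iff_mul_eq]
      simp only [this]
    have step2 : ∀ a : G,
        (Finset.univ.filter (fun b : G => b * t * b⁻¹ = (a * t * a⁻¹)⁻¹ * y)).card =
          if a * t * a⁻¹ ∈ D then C else 0 := by
      intro a
      by_cases ha : a * t * a⁻¹ ∈ D
      · rw [if_pos ha]
        apply card_conj_eq
        rw [hconj_iff, orderOf_inv_mul_eq_two_iff S hy hy1 (hconj_ord a)]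
        exact (hDmem _).mp ha
      · rw [if_neg ha, Finset.card_eq_zero, Finset.filter_eq_empty_iff]
        intro b _ hb
        apply ha
        rw [hDmem, ← orderOf_inv_mul_eq_two_iff S hy hy1 (hconj_ord a), ← hconj_iff]
        exact isConj_iff.mpr ⟨b, hb⟩
    have step3 : ∑ a : G, (if a * t * a⁻¹ ∈ D then C else 0) =
        C * (Finset.univ.filter (fun a : G => a * t * a⁻¹ ∈ D)).card := by
      rw [Finset.sum_ite, Finset.sum_const, Finset.sum_const_zero, add_zero, smul_eq_mul, mul_comm]
    have step4 : (Finset.univ.filter (fun a : G => a * t * a⁻¹ ∈ D)).card = p * C := by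
      rw [Finset.card_eq_sum_card_fiberwise (f := fun a : G => a * t * a⁻¹)
        (s := Finset.univ.filter (fun a : G => a * t * a⁻¹ ∈ D)) (t := D)
        (fun a ha => (Finset.mem_filter.mp (Finset.mem_coe.mp ha)).2)]
      have : ∀ u ∈ D, ((Finset.univ.filter (fun a : G => a * t * a⁻¹ ∈ D)).filter
          (fun a : G => a * t * a⁻¹ = u)).card = C := by
        intro u hu
        rw [Finset.filter_filter]
        have hfe : (Finset.univ.filter (fun a : G => a * t * a⁻¹ ∈ D ∧ a * t * a⁻¹ = u)) =
            Finset.univ.filter (fun a : G => a * t * a⁻¹ = u) := by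
          ext a
          simp only [Finset.mem_filter, Finset.mem_univ, true_and]
          constructor
          · exact fun h => h.2
          · intro h; exact ⟨by rw [h]; exact hu, h⟩
        rw [hfe]
        apply card_conj_eq
        rw [hconj_iff]
        have := (hDmem u).mp hu
        exact orderOf_eq_two_of_mem_normalizer S this.1 this.2
      rw [Finset.sum_congr rfl this, Finset.sum_const, hDcard, smul_eq_mul]
    rw [step1, Finset.sum_congr rfl (fun a _ => step2 a), step3, step4]
    ring
  rw [hN] at hcount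
  have h2 : 2 ≤ p := by have := S.hp5; omega
  have h1 : 1 ≤ p := by omega
  have : ((C ^ 2 * p * (p - 2) : ℕ) : ℂ) = ((Nat.card G * (p - 1) : ℕ) : ℂ) := by
    push_cast [Nat.cast_sub h2, Nat.cast_sub h1]
    push_cast at hcount
    exact hcount
  exact_mod_cast this

end Cfsg.Agent.Helper35.TwoP
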