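import Mathlib
import Cfsg.Agent.S0707

/-!
# (NR) for S0720: in a primitive faithful group of non-prime degree a point stabilizer fixes no
second point.
-/

set_option autoImplicit false

namespace Cfsg.Agent.Helper35.W2p

open Cfsg

/-- (NR) in a primitive faithful group of non-prime degree a point stabilizer fixes no second
point -/
theorem subdegree_ne_one {G : Type*} [Group G] [Finite G] {Ω : Type*} [Fintype Ω] [MulAction G Ω]
    [FaithfulSMul G Ω] (hprim : MulAction.IsPreprimitive G Ω)
    (hnp : ¬ (Fintype.card Ω).Prime) (a b : Ω) (hab : b ≠ a) :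
    Nat.card (MulAction.orbit (MulAction.stabilizer G a) b) ≠ 1 := by
  intro h1
  have hnt : Nontrivial Ω := ⟨b, a, hab⟩
  -- the stabilizer of `a` fixes `b`
  have hle : MulAction.stabilizer G a ≤ MulAction.stabilizer G b := by
    intro k hk
    rw [MulAction.mem_stabilizer_iff]
    have hsub : Subsingleton (MulAction.orbit (MulAction.stabilizer G a) b) :=
      (Nat.card_eq_one_iff_unique.mp h1).1
    have h2 : (⟨(⟨k, hk⟩ : MulAction.stabilizer G a) • b, MulAction.mem_orbit _ _⟩ :
        MulAction.orbit (MulAction.stabilizer G a) b) = ⟨b, MulAction.mem_orbit_self b⟩ :=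
      Subsingleton.elim _ _
    exact congrArg Subtype.val h2
  have hidx : (MulAction.stabilizer G a).index = (MulAction.stabilizer G b).index := by
    rw [MulAction.index_stabilizer_of_transitive G a, MulAction.index_stabilizer_of_transitive G b]
  have heq : MulAction.stabilizer G a = MulAction.stabilizer G b := by
    have hrel := Subgroup.relIndex_mul_index hle
    have hpos : 0 < (MulAction.stabilizer G b).index := by
      have := Subgroup.index_ne_zero_of_finite (H := MulAction.stabilizer G b)
      omega
    have hr1 : (MulAction.stabilizer G a).relIndex (MulAction.stabilizer G b) = 1 := by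
      rw [← hidx] at hrel
      have h3 : (MulAction.stabilizer G a).relIndex (MulAction.stabilizer G b) *
          (MulAction.stabilizer G a).index = 1 * (MulAction.stabilizer G a).index := by
        rw [hrel, one_mul]
      exact Nat.eq_of_mul_eq_mul_right (hidx ▸ hpos) h3
    exact le_antisymm hle (Subgroup.relIndex_eq_one.mp hr1)
  have hco : IsCoatom (MulAction.stabilizer G a) :=
    MulAction.IsPreprimitive.isCoatom_stabilizer_of_isPreprimitive G a
  obtain ⟨g, hg⟩ := MulAction.exists_smul_eq G a b
  have hconj : ∀ x : G, MulAction.stabilizer G (x • a) =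
      (MulAction.stabilizer G a).map ((MulAut.conj x : G ≃* G) : G →* G) :=
    fun x => MulAction.stabilizer_smul_eq_stabilizer_map_conj x a
  have hgn : g ∈ Subgroup.normalizer ((MulAction.stabilizer G a : Subgroup G) : Set G) := by
    rw [Subgroup.mem_normalizer_iff_map_conj_eq, ← hconj, hg, heq]
  have hgK : g ∉ MulAction.stabilizer G a := by
    rw [MulAction.mem_stabilizer_iff, hg]
    exact hab
  have hnorm : Subgroup.normalizer ((MulAction.stabilizer G a : Subgroup G) : Set G) = ⊤ := by
    apply hco.2
    apply lt_of_le_of_ne Subgroup.le_normalizer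
    intro h'
    apply hgK
    rw [h']
    exact hgn
  have hall : ∀ x : Ω, MulAction.stabilizer G x = MulAction.stabilizer G a := by
    intro x
    obtain ⟨k, rfl⟩ := MulAction.exists_smul_eq G a x
    rw [hconj]
    have hk : k ∈ Subgroup.normalizer ((MulAction.stabilizer G a : Subgroup G) : Set G) := by
      rw [hnorm]; trivial
    exact Subgroup.mem_normalizer_iff_map_conj_eq.mp hk
  have hbot : MulAction.stabilizer G a = ⊥ := by
    rw [Subgroup.eq_bot_iff_forall]
    intro k hk
    apply FaithfulSMul.eq_of_smul_eq_smul (α := Ω)
    intro x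
    have : k ∈ MulAction.stabilizer G x := by rw [hall x]; exact hk
    rw [one_smul]
    exact this
  apply hnp
  rw [hbot] at hco
  have hidx' := MulAction.index_stabilizer_of_transitive G a
  rw [hbot, Subgroup.index_bot, Nat.card_eq_fintype_card (α := Ω)] at hidx'
  rw [← hidx']
  exact Cfsg.Agent.S0707.prime_card_of_isCoatom_bot hco

end Cfsg.Agent.Helper35.W2p
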