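import Mathlib
import Cfsg.Agent.Helper35.W2pNR

/-!
# (F4) for S0720: a primitive group of degree 4 is doubly transitive.
-/

set_option autoImplicit false

namespace Cfsg.Agent.Helper35.W2p

open Cfsg

variable {α : Type*} [Fintype α] [DecidableEq α]

/-- (F4) a primitive group of degree 4 is doubly transitive -/
theorem four (hα : Fintype.card α = 4) (G : Subgroup (Equiv.Perm α))
    (hG : MulAction.IsPreprimitive G α) : MulAction.IsMultiplyPretransitive G α 2 := by
  have hnp : ¬ (Fintype.card α).Prime := by rw [hα]; norm_num
  -- each orbit of a point stabilizer on another point has at least two elements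
  have hge : ∀ c x : α, x ≠ c → 2 ≤ (MulAction.orbit (MulAction.stabilizer G c) x).ncard := by
    intro c x hx
    have h1 := subdegree_ne_one (G := G) hG hnp c x hx
    rw [Nat.card_coe_set_eq] at h1
    have h0 : (MulAction.orbit (MulAction.stabilizer G c) x).ncard ≠ 0 :=
      Set.ncard_ne_zero_of_mem (MulAction.mem_orbit_self x) (Set.toFinite _)
    omega
  have hsub : ∀ c x : α, x ≠ c → MulAction.orbit (MulAction.stabilizer G c) x ⊆ ({c}ᶜ : Set α) := by
    intro c x hx y hy
    obtain ⟨k, rfl⟩ := hy
    simp only [Set.mem_compl_iff, Set.mem_singleton_iff]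
    intro hk
    apply hx
    have hkc : (k : G) • c = c := k.2
    have : (k : G) • x = (k : G) • c := by rw [hkc]; exact hk
    exact smul_left_cancel _ this
  have hc3 : ∀ c : α, ({c}ᶜ : Set α).ncard = 3 := by
    intro c
    rw [Set.ncard_compl, Set.ncard_singleton, Nat.card_eq_fintype_card, hα]
  -- hence a point stabilizer is transitive on the remaining three points
  have htr : ∀ c x y : α, x ≠ c → y ≠ c → y ∈ MulAction.orbit (MulAction.stabilizer G c) x := by
    intro c x y hx hy
    by_contra hyx
    have hdisj : Disjoint (MulAction.orbit (MulAction.stabilizer G c) x)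
        (MulAction.orbit (MulAction.stabilizer G c) y) := by
      rcases MulAction.orbit.eq_or_disjoint (G := MulAction.stabilizer G c) x y with h | h
      · exfalso; apply hyx; rw [h]; exact MulAction.mem_orbit_self y
      · exact h
    have hun : MulAction.orbit (MulAction.stabilizer G c) x ∪
        MulAction.orbit (MulAction.stabilizer G c) y ⊆ ({c}ᶜ : Set α) :=
      Set.union_subset (hsub c x hx) (hsub c y hy)
    have hle := Set.ncard_le_ncard hun (Set.toFinite _)
    rw [Set.ncard_union_eq hdisj (Set.toFinite _) (Set.toFinite _), hc3] at hle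
    have := hge c x hx
    have := hge c y hy
    omega
  rw [MulAction.is_two_pretransitive_iff]
  intro a b c d hab hcd
  have : MulAction.IsPretransitive G α := hG.toIsPretransitive
  obtain ⟨g, hg⟩ := MulAction.exists_smul_eq G a c
  have hgb : g • b ≠ c := by
    rw [← hg]
    intro h
    exact hab (smul_left_cancel _ h).symm
  obtain ⟨k, hk⟩ := htr c (g • b) d hgb hcd.symm
  refine ⟨(k : G) * g, ?_, ?_⟩
  · rw [mul_smul, hg]
    exact k.2
  · rw [mul_smul]
    exact hk

end Cfsg.Agent.Helper35.W2p
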