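import Mathlib
import Cfsg.Agent.Helper61.W2pDefs

/-!
# (NN) for S0720: no normal subgroup of order `p`.
-/

set_option autoImplicit false

namespace Cfsg.Agent.Helper35.W2p

open Cfsg Cfsg.Agent.Helper61.W2p

variable {G : Type*} [Group G] [Fintype G] {Ω : Type*} [Fintype Ω] [MulAction G Ω] {p : ℕ}

/-- (NN) no normal subgroup of order `p` -/
theorem no_normal_p (S : Setup G Ω p) : ∀ H : Subgroup G, H.Normal → Nat.card H ≠ p := by
  intro H hH hcard
  have hprim : MulAction.IsPreprimitive G Ω := S.hprim
  have hfaith : FaithfulSMul G Ω := S.hfaith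
  have hp := S.hp
  -- `H` does not act trivially
  have hne : MulAction.fixedPoints H Ω ≠ Set.univ := by
    intro hfix
    have hbot : H = ⊥ := by
      rw [Subgroup.eq_bot_iff_forall]
      intro k hk
      apply FaithfulSMul.eq_of_smul_eq_smul (α := Ω)
      intro x
      rw [one_smul]
      have hx : x ∈ MulAction.fixedPoints H Ω := by rw [hfix]; trivial
      exact hx ⟨k, hk⟩
    rw [hbot, Subgroup.card_bot] at hcard
    exact hp.one_lt.ne hcard
  have htr : MulAction.IsPretransitive H Ω :=
    MulAction.IsQuasiPreprimitive.isPretransitive_of_normal hne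
  have hne' : Nonempty Ω := by
    have : 0 < Fintype.card Ω := by rw [S.hcard]; have := hp.pos; omega
    exact Fintype.card_pos_iff.mp this
  obtain ⟨a⟩ := hne'
  have hidx := MulAction.index_stabilizer_of_transitive H a
  have hdvd : Nat.card Ω ∣ Nat.card H := by
    rw [← hidx]
    exact Subgroup.index_dvd_card _
  rw [hcard, Nat.card_eq_fintype_card, S.hcard] at hdvd
  have := Nat.le_of_dvd hp.pos hdvd
  have := hp.pos
  omega

end Cfsg.Agent.Helper35.W2p
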